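import Mathlib

/-!
Helper library (helper1): the 120 matrices of the subgroup of `SL₂(𝔽₉)` generated by
`[[1,0],[1,1]]` and `[[1,i],[0,1]]` (`i² = -1`), as codes over `ZMod 3 × ZMod 3`
(`(a, b)` stands for `a + b i`), and the closure of this list under left multiplication by the
two generators.
-/

set_option autoImplicit false

namespace Cfsg.Agent.Helper1.Cert120

/-- Codes of elements of `𝔽₉`: `(a, b)` is `a + b i`. -/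
abbrev C9 : Type := ZMod 3 × ZMod 3

/-- Codes of `2 × 2` matrices: `((m00, m01), (m10, m11))`. -/
abbrev M9 : Type := (C9 × C9) × (C9 × C9)

/-- Left multiplication by `[[1,0],[1,1]]`. -/
def fx (m : M9) : M9 := ((m.1.1, m.1.2), (m.1.1 + m.2.1, m.1.2 + m.2.2))

/-- Multiplication by `i`. -/
def J (e : C9) : C9 := (-e.2, e.1)

/-- Left multiplication by `[[1,i],[0,1]]`. -/
def fy (m : M9) : M9 := ((m.1.1 + J m.2.1, m.1.2 + J m.2.2), (m.2.1, m.2.2))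

/-- The 120 codes. -/
def S : List M9 := [
  (((1, 0), (0, 0)), ((0, 0), (1, 0))), (((1, 0), (0, 0)), ((1, 0), (1, 0))), (((1, 0), (0, 1)), ((0, 0), (1, 0))),
  (((1, 0), (0, 0)), ((2, 0), (1, 0))), (((1, 1), (0, 1)), ((1, 0), (1, 0))), (((1, 0), (0, 1)), ((1, 0), (1, 1))),
  (((1, 0), (0, 2)), ((0, 0), (1, 0))), (((1, 2), (0, 1)), ((2, 0), (1, 0))), (((1, 1), (0, 1)), ((2, 1), (1, 1))),
  (((1, 2), (0, 2)), ((1, 0), (1, 0))), (((1, 0), (0, 1)), ((2, 0), (1, 2))), (((1, 1), (2, 2)), ((1, 0), (1, 1))),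
  (((1, 0), (0, 2)), ((1, 0), (1, 2))), (((1, 2), (0, 1)), ((0, 2), (1, 1))), (((1, 1), (0, 2)), ((2, 0), (1, 0))),
  (((1, 1), (0, 1)), ((0, 2), (1, 2))), (((0, 0), (2, 2)), ((2, 1), (1, 1))), (((1, 2), (0, 2)), ((2, 2), (1, 2))),
  (((1, 2), (1, 2)), ((2, 0), (1, 2))), (((1, 1), (2, 2)), ((2, 1), (0, 0))), (((1, 2), (1, 0)), ((1, 0), (1, 1))),
  (((1, 0), (0, 2)), ((2, 0), (1, 1))), (((1, 1), (1, 0)), ((1, 0), (1, 2))), (((1, 2), (0, 1)), ((1, 1), (1, 2))),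
  (((2, 2), (2, 2)), ((0, 2), (1, 1))), (((1, 1), (0, 2)), ((0, 1), (1, 2))), (((2, 1), (1, 2)), ((0, 2), (1, 2))),
  (((0, 0), (2, 2)), ((2, 1), (0, 0))), (((2, 2), (1, 0)), ((2, 1), (1, 1))), (((1, 2), (0, 2)), ((0, 1), (1, 1))),
  (((2, 1), (1, 0)), ((2, 2), (1, 2))), (((1, 2), (1, 2)), ((0, 2), (2, 1))), (((1, 1), (2, 0)), ((2, 0), (1, 2))),
  (((1, 1), (2, 2)), ((0, 2), (2, 2))), (((1, 2), (1, 0)), ((2, 2), (2, 1))), (((1, 2), (2, 0)), ((2, 0), (1, 1))),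
  (((1, 1), (1, 0)), ((2, 1), (2, 2))), (((1, 2), (2, 1)), ((1, 0), (1, 2))), (((0, 0), (1, 2)), ((1, 1), (1, 2))),
  (((2, 2), (2, 2)), ((2, 1), (0, 0))), (((0, 2), (1, 0)), ((0, 2), (1, 1))), (((1, 1), (0, 2)), ((1, 2), (1, 1))),
  (((0, 1), (1, 0)), ((0, 1), (1, 2))), (((2, 1), (1, 2)), ((2, 0), (2, 1))), (((0, 1), (2, 0)), ((0, 2), (1, 2))),
  (((0, 0), (2, 2)), ((2, 1), (2, 2))), (((2, 2), (1, 0)), ((1, 0), (2, 1))), (((0, 2), (2, 0)), ((0, 1), (1, 1))),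
  (((2, 1), (1, 0)), ((1, 0), (2, 2))), (((0, 0), (2, 1)), ((2, 2), (1, 2))), (((1, 2), (1, 2)), ((1, 1), (0, 0))),
  (((2, 2), (0, 1)), ((0, 2), (2, 1))), (((1, 1), (2, 0)), ((0, 1), (0, 2))), (((2, 1), (0, 1)), ((0, 2), (2, 2))),
  (((1, 2), (1, 0)), ((0, 1), (0, 1))), (((2, 1), (0, 2)), ((2, 2), (2, 1))), (((1, 2), (2, 0)), ((0, 2), (0, 1))),
  (((1, 1), (1, 1)), ((2, 0), (1, 1))), (((1, 1), (1, 0)), ((0, 2), (0, 2))), (((1, 2), (2, 1)), ((2, 2), (0, 0))),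
  (((0, 0), (1, 2)), ((1, 1), (2, 1))), (((2, 1), (2, 0)), ((1, 1), (1, 2))), (((2, 2), (2, 2)), ((1, 0), (2, 2))),
  (((0, 2), (1, 0)), ((0, 1), (2, 1))), (((2, 2), (2, 0)), ((1, 2), (1, 1))), (((0, 1), (1, 0)), ((0, 2), (2, 2))),
  (((2, 1), (2, 1)), ((0, 1), (1, 2))), (((2, 1), (1, 2)), ((1, 1), (0, 0))), (((2, 0), (0, 1)), ((2, 0), (2, 1))),
  (((0, 1), (2, 0)), ((0, 0), (0, 2))), (((2, 2), (0, 1)), ((2, 1), (2, 2))), (((2, 2), (1, 0)), ((0, 2), (0, 1))),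
  (((2, 0), (0, 2)), ((1, 0), (2, 1))), (((0, 2), (2, 0)), ((0, 0), (0, 1))), (((2, 2), (1, 1)), ((0, 1), (1, 1))),
  (((2, 1), (1, 0)), ((0, 1), (0, 2))), (((0, 0), (2, 1)), ((2, 2), (0, 0))), (((0, 0), (1, 2)), ((1, 1), (0, 0))),
  (((0, 2), (2, 0)), ((0, 2), (2, 1))), (((1, 1), (2, 0)), ((1, 2), (2, 2))), (((0, 1), (0, 0)), ((0, 1), (0, 2))),
  (((2, 1), (0, 1)), ((2, 0), (2, 0))), (((0, 2), (0, 0)), ((0, 1), (0, 1))), (((2, 1), (0, 2)), ((1, 0), (2, 0))),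
  (((0, 0), (2, 1)), ((2, 2), (2, 1))), (((1, 2), (2, 0)), ((1, 1), (2, 1))), (((1, 1), (1, 1)), ((0, 1), (2, 2))),
  (((2, 1), (2, 0)), ((0, 2), (0, 2))), (((1, 2), (2, 1)), ((0, 1), (2, 1))), (((2, 1), (2, 1)), ((2, 2), (0, 0))),
  (((2, 1), (0, 1)), ((1, 1), (2, 1))), (((2, 0), (0, 1)), ((1, 0), (2, 2))), (((0, 2), (1, 0)), ((0, 0), (0, 1))),
  (((2, 2), (0, 2)), ((0, 1), (2, 1))), (((2, 2), (2, 0)), ((0, 1), (0, 1))), (((0, 0), (1, 1)), ((1, 2), (1, 1))),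
  (((0, 1), (1, 0)), ((0, 0), (0, 2))), (((2, 2), (2, 0)), ((2, 0), (2, 1))), (((0, 1), (2, 0)), ((0, 1), (2, 2))),
  (((0, 1), (0, 0)), ((0, 0), (0, 2))), (((2, 2), (0, 1)), ((1, 0), (2, 0))), (((0, 2), (0, 0)), ((0, 2), (0, 1))),
  (((2, 0), (0, 2)), ((0, 0), (2, 0))), (((2, 1), (2, 1)), ((1, 0), (2, 1))), (((2, 2), (1, 1)), ((2, 0), (2, 2))),
  (((2, 2), (0, 2)), ((1, 2), (2, 2))), (((0, 1), (0, 0)), ((0, 2), (0, 2))), (((2, 0), (0, 0)), ((2, 0), (2, 0))),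
  (((0, 2), (0, 0)), ((0, 0), (0, 1))), (((2, 1), (0, 2)), ((0, 1), (2, 2))), (((1, 1), (1, 1)), ((1, 2), (0, 0))),
  (((2, 1), (2, 0)), ((2, 0), (2, 2))), (((2, 0), (0, 1)), ((0, 0), (2, 0))), (((2, 2), (0, 2)), ((2, 0), (2, 0))),
  (((0, 0), (1, 1)), ((1, 2), (2, 2))), (((2, 0), (0, 0)), ((1, 0), (2, 0))), (((2, 0), (0, 2)), ((2, 0), (2, 2))),
  (((2, 2), (1, 1)), ((1, 2), (0, 0))), (((2, 0), (0, 0)), ((0, 0), (2, 0))), (((0, 0), (1, 1)), ((1, 2), (0, 0)))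
]

set_option maxRecDepth 100000 in
theorem S_closed : ∀ m ∈ S, fx m ∈ S ∧ fy m ∈ S := by decide +kernel

theorem one_mem : ((((1, 0), (0, 0)), ((0, 0), (1, 0))) : M9) ∈ S := by decide +kernel

theorem S_length : S.length = 120 := by decide +kernel

end Cfsg.Agent.Helper1.Cert120
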