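import Mathlib
import Cfsg.Agent.Helper3.ElemAb

set_option autoImplicit false

/-!
Coprime action of a `p`-group of automorphisms (`p ≥ 3`) on a commutative group: the
"three conjugate fixed-point subgroups" counting argument (used for S2277).
-/

namespace Cfsg.Agent.Helper1.CoprimeGen

open scoped commutatorElement

section FL
variable {V : Type*} [Group V]

/-- fixed points of an automorphism -/
def fx (x : MulAut V) : Subgroup V where
  carrier := {v | x v = v}
  mul_mem' := by intro a b ha hb; simp only [Set.mem_setOf_eq] at *; rw [map_mul, ha, hb]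
  one_mem' := by simp
  inv_mem' := by intro a ha; simp only [Set.mem_setOf_eq] at *; rw [map_inv, ha]

theorem mem_fx {x : MulAut V} {v : V} : v ∈ fx x ↔ x v = v := Iff.rfl

/-- fixed points of a subgroup of automorphisms -/
def fxs (Q : Subgroup (MulAut V)) : Subgroup V where
  carrier := {v | ∀ g ∈ Q, g v = v}
  mul_mem' := by intro a b ha hb g hg; rw [map_mul, ha g hg, hb g hg]
  one_mem' := by intro g _; simp
  inv_mem' := by intro a ha g hg; rw [map_inv, ha g hg]

theorem mem_fxs {Q : Subgroup (MulAut V)} {v : V} : v ∈ fxs Q ↔ ∀ g ∈ Q, g v = v := Iff.rfl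

/-- the partial trace `∏_{j<k} x^j v` -/
def tr (x : MulAut V) : ℕ → V → V
  | 0, _ => 1
  | k+1, v => tr x k v * (x ^ k) v

theorem tr_mul (hcomm : ∀ a b : V, a * b = b * a) (x : MulAut V) (k : ℕ) (v w : V) :
    tr x k (v * w) = tr x k v * tr x k w := by
  induction k with
  | zero => simp [tr]
  | succ k ih =>
    simp only [tr]
    rw [ih, map_mul]
    rw [mul_assoc (tr x k v), ← mul_assoc (tr x k w), hcomm (tr x k w) ((x^k) v),
      mul_assoc ((x^k) v), ← mul_assoc (tr x k v)]

theorem pow_fix (x : MulAut V) (v : V) (h : x v = v) (k : ℕ) : (x ^ k) v = v := by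
  induction k with
  | zero => simp
  | succ k ih => rw [pow_succ, MulAut.mul_apply, h, ih]

theorem tr_fixed (x : MulAut V) (v : V) (h : x v = v) (k : ℕ) : tr x k v = v ^ k := by
  induction k with
  | zero => simp [tr]
  | succ k ih => simp only [tr]; rw [ih, pow_fix x v h, pow_succ]

theorem tr_comm (x y : MulAut V) (hxy : y * x = x * y) (v : V) (h : y v = v) (k : ℕ) :
    y (tr x k v) = tr x k v := by
  induction k with
  | zero => simp [tr]
  | succ k ih =>
    simp only [tr]
    rw [map_mul, ih]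
    congr 1
    have hc : Commute y x := hxy
    have : y * x ^ k = x ^ k * y := (hc.pow_right k).eq
    calc y ((x ^ k) v) = (y * x ^ k) v := rfl
      _ = (x ^ k * y) v := by rw [this]
      _ = (x ^ k) (y v) := rfl
      _ = (x ^ k) v := by rw [h]

theorem tr_self_aux (hcomm : ∀ a b : V, a * b = b * a) (x : MulAut V) (v : V) (k : ℕ) :
    x (tr x k v) * v = tr x k v * (x ^ k) v := by
  induction k with
  | zero => simp [tr]
  | succ k ih =>
    simp only [tr]
    rw [map_mul]
    have e : x ((x ^ k) v) = (x ^ (k+1)) v := by rw [pow_succ']; rfl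
    rw [e, mul_assoc, hcomm ((x ^ (k+1)) v) v, ← mul_assoc, ih]

theorem tr_self (hcomm : ∀ a b : V, a * b = b * a) (x : MulAut V) (v : V) (k : ℕ)
    (hk : x ^ k = 1) : x (tr x k v) = tr x k v := by
  have := tr_self_aux hcomm x v k
  rw [hk] at this
  simpa using this

theorem mem_of_pow_mem [Finite V] (H : Subgroup V) (m : ℕ) (hm : (Nat.card V).Coprime m) (u : V)
    (h : u ^ m ∈ H) : u ∈ H := by
  have hH : (Nat.card H).Coprime m :=
    Nat.Coprime.coprime_dvd_left (Subgroup.card_subgroup_dvd_card H) hm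
  obtain ⟨w, hw⟩ := (powCoprime hH).surjective ⟨u ^ m, h⟩
  have hw' : (w : V) ^ m = u ^ m := by
    have := congrArg Subtype.val hw
    simpa using this
  have : (w : V) = u := (powCoprime hm).injective (by simpa using hw')
  rw [← this]; exact w.2

theorem ind [Finite V] (hcomm : ∀ a b : V, a * b = b * a) {p : ℕ} (Q : Subgroup (MulAut V))
    (hQ : IsPGroup p Q) (hcop : (Nat.card V).Coprime p)
    (x0 x1 x2 : MulAut V) (h0 : x0 ∈ Q) (c1 : x1 * x0 = x0 * x1) (c2 : x2 * x0 = x0 * x2)
    (h01 : ∀ v, x0 v = v → x1 v = v → v ∈ fxs Q) (h02 : ∀ v, x0 v = v → x2 v = v → v ∈ fxs Q)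
    (u0 u1 u2 : V) (hu0 : x0 u0 = u0) (hu1 : x1 u1 = u1) (hu2 : x2 u2 = u2)
    (hprod : u0 * u1 * u2 ∈ fxs Q) : u0 ∈ fxs Q := by
  obtain ⟨k, hk⟩ := hQ ⟨x0, h0⟩
  have hk' : x0 ^ (p ^ k) = 1 := by
    have := congrArg Subtype.val hk
    simpa using this
  have hcm : (Nat.card V).Coprime (p ^ k) := Nat.Coprime.pow_right k hcop
  have e1 : tr x0 (p ^ k) (u0 * u1 * u2)
      = tr x0 (p ^ k) u0 * tr x0 (p ^ k) u1 * tr x0 (p ^ k) u2 := by
    rw [tr_mul hcomm, tr_mul hcomm]
  have e0 : tr x0 (p ^ k) u0 = u0 ^ (p ^ k) := tr_fixed x0 u0 hu0 _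
  have m1 : tr x0 (p ^ k) u1 ∈ fxs Q :=
    h01 _ (tr_self hcomm x0 u1 _ hk') (tr_comm x0 x1 c1 u1 hu1 _)
  have m2 : tr x0 (p ^ k) u2 ∈ fxs Q :=
    h02 _ (tr_self hcomm x0 u2 _ hk') (tr_comm x0 x2 c2 u2 hu2 _)
  have m3 : tr x0 (p ^ k) (u0 * u1 * u2) ∈ fxs Q := by
    rw [tr_fixed x0 _ (hprod x0 h0)]; exact pow_mem hprod _
  have : u0 ^ (p ^ k) ∈ fxs Q := by
    have : u0 ^ (p ^ k)
        = tr x0 (p ^ k) (u0 * u1 * u2) * (tr x0 (p ^ k) u2)⁻¹ * (tr x0 (p ^ k) u1)⁻¹ := by
      rw [e1, e0]; group
    rw [this]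
    exact mul_mem (mul_mem m3 (inv_mem m2)) (inv_mem m1)
  exact mem_of_pow_mem _ _ hcm u0 this

theorem fx_conj (a c : MulAut V) :
    fx (a * c * a⁻¹) = (fx c).map (a : V ≃* V).toMonoidHom := by
  ext v
  simp only [mem_fx, Subgroup.mem_map]
  constructor
  · intro h
    refine ⟨a⁻¹ v, ?_, ?_⟩
    · have : a⁻¹ ((a * c * a⁻¹) v) = a⁻¹ v := by rw [h]
      simpa [MulAut.mul_apply] using this
    · simp
  · rintro ⟨u, hu, rfl⟩
    simp [MulAut.mul_apply, hu]

theorem card_bound [Finite V] (hcomm : ∀ a b : V, a * b = b * a) {p : ℕ}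
    (Q : Subgroup (MulAut V)) (hQ : IsPGroup p Q) (hcop : (Nat.card V).Coprime p)
    (a c z : MulAut V) (ha : a ∈ Q) (hc : c ∈ Q) (hz : z = a * c * a⁻¹ * c⁻¹)
    (hzc : ∀ g ∈ Q, g * z = z * g)
    (hz1 : fx z ≤ fxs Q) (hz2 : fx (z * z) ≤ fxs Q) :
    Nat.card (fx c) ^ 3 ≤ Nat.card V * Nat.card (fxs Q) ^ 2 := by
  have hzQ : z ∈ Q := by
    rw [hz]; exact mul_mem (mul_mem (mul_mem ha hc) (inv_mem ha)) (inv_mem hc)
  have e1 : z * c = a * c * a⁻¹ := by rw [hz]; group
  have e2 : z * z * c = a * (z * c) * a⁻¹ := by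
    have := hzc a ha
    calc z * z * c = z * (z * c) := by group
      _ = z * (a * c * a⁻¹) := by rw [e1]
      _ = (z * a) * c * a⁻¹ := by group
      _ = (a * z) * c * a⁻¹ := by rw [this]
      _ = a * (z * c) * a⁻¹ := by group
  have c1 : Nat.card (fx (z * c)) = Nat.card (fx c) := by
    rw [e1, fx_conj]; exact Subgroup.card_map_of_injective a.injective
  have c2 : Nat.card (fx (z * z * c)) = Nat.card (fx c) := by
    rw [e2, fx_conj, Subgroup.card_map_of_injective a.injective]; exact c1
  have i1 : fx c ⊓ fx (z * c) ≤ fxs Q := by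
    intro v hv
    apply hz1
    have h0 : c v = v := hv.1
    have h1 : (z * c) v = v := hv.2
    rw [MulAut.mul_apply, h0] at h1
    exact h1
  have hC : Commute c z := hzc c hc
  have i2 : (fx c ⊔ fx (z * c)) ⊓ fx (z * z * c) ≤ fxs Q := by
    intro w hw
    obtain ⟨hw1, hw2⟩ := hw
    haveI : (fx (z * c)).Normal := ⟨fun n hn g => by rw [hcomm g n]; simpa using hn⟩
    obtain ⟨u0, hu0, u1, hu1, rfl⟩ := Subgroup.mem_sup_of_normal_right.mp hw1
    have hx0 : z * z * c ∈ Q := mul_mem (mul_mem hzQ hzQ) hc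
    have key := ind hcomm Q hQ hcop (z * z * c) c (z * c) hx0
      ((hC.mul_right hC).mul_right (Commute.refl c)).eq
      (Commute.mul_left (((Commute.refl z).mul_right (Commute.refl z)).mul_right hC.symm)
        ((hC.mul_right hC).mul_right (Commute.refl c))).eq
      (fun v h0 h1 => by
        apply hz2
        have h0' := h0
        rw [MulAut.mul_apply, h1] at h0'
        exact h0')
      (fun v h0 h1 => by
        apply hz1
        have h0' := h0
        rw [mul_assoc z z c, MulAut.mul_apply, h1] at h0'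
        exact h0')
      (u0 * u1)⁻¹ u0 u1 (show (u0 * u1)⁻¹ ∈ fx (z * z * c) from inv_mem hw2) hu0 hu1
      (by
        have : (u0 * u1)⁻¹ * u0 * u1 = 1 := by group
        rw [this]; exact one_mem _)
    have := inv_mem key
    simpa using this
  have n01 : fx c ≤ Subgroup.normalizer (fx (z * c) : Set V) := fun g _ => by
    rw [Subgroup.mem_normalizer_iff]; intro n; rw [hcomm g n]; simp
  have n2 : fx c ⊔ fx (z * c) ≤ Subgroup.normalizer (fx (z * z * c) : Set V) := fun g _ => by
    rw [Subgroup.mem_normalizer_iff]; intro n; rw [hcomm g n]; simp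
  have p1 := Cfsg.Agent.Helper3.card_mul_card_eq_of_le_normalizer _ _ n01
  have p2 := Cfsg.Agent.Helper3.card_mul_card_eq_of_le_normalizer _ _ n2
  have l1 : Nat.card (fx c ⊓ fx (z * c) : Subgroup V) ≤ Nat.card (fxs Q) :=
    Subgroup.card_le_of_le i1
  have l2 : Nat.card ((fx c ⊔ fx (z * c)) ⊓ fx (z * z * c) : Subgroup V) ≤ Nat.card (fxs Q) :=
    Subgroup.card_le_of_le i2
  have l3 : Nat.card ((fx c ⊔ fx (z * c)) ⊔ fx (z * z * c) : Subgroup V) ≤ Nat.card V :=
    Subgroup.card_le_card_group _
  calc Nat.card (fx c) ^ 3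
      = (Nat.card (fx c) * Nat.card (fx (z * c))) * Nat.card (fx (z * z * c)) := by
        rw [c1, c2]; ring
    _ = Nat.card (fx c ⊔ fx (z * c) : Subgroup V) * Nat.card (fx c ⊓ fx (z * c) : Subgroup V)
          * Nat.card (fx (z * z * c)) := by rw [p1]
    _ = (Nat.card (fx c ⊔ fx (z * c) : Subgroup V) * Nat.card (fx (z * z * c)))
          * Nat.card (fx c ⊓ fx (z * c) : Subgroup V) := by ring
    _ = (Nat.card ((fx c ⊔ fx (z * c)) ⊔ fx (z * z * c) : Subgroup V)
          * Nat.card ((fx c ⊔ fx (z * c)) ⊓ fx (z * z * c) : Subgroup V))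
          * Nat.card (fx c ⊓ fx (z * c) : Subgroup V) := by rw [p2]
    _ ≤ (Nat.card V * Nat.card (fxs Q)) * Nat.card (fxs Q) :=
        Nat.mul_le_mul (Nat.mul_le_mul l3 l2) l1
    _ = Nat.card V * Nat.card (fxs Q) ^ 2 := by ring

theorem exists_second_center [Finite V] {p : ℕ} [Fact p.Prime] (Q : Subgroup (MulAut V))
    (hQ : IsPGroup p Q) (hab : ¬ ∀ g ∈ Q, ∀ h ∈ Q, g * h = h * g) :
    ∃ a ∈ Q, (∀ g ∈ Q, ∀ h ∈ Q, h * (a * g * a⁻¹ * g⁻¹) = (a * g * a⁻¹ * g⁻¹) * h) ∧
        ¬ (∀ g ∈ Q, a * g = g * a) := by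
  haveI : Group.IsNilpotent Q := hQ.isNilpotent
  by_contra hcon
  push_neg at hcon
  have h21 : ∀ n, 1 ≤ n → Subgroup.upperCentralSeries Q n = Subgroup.center Q := by
    intro n hn
    induction n, hn using Nat.le_induction with
    | base => exact Subgroup.upperCentralSeries_one Q
    | succ n hn ih =>
      ext x
      rw [Subgroup.mem_upperCentralSeries_succ_iff, Subgroup.mem_center_iff]
      constructor
      · intro hx
        have h1 := hcon x.1 x.2 (fun g hg h hh => by
          have h2 := hx ⟨g, hg⟩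
          rw [ih, Subgroup.mem_center_iff] at h2
          have h3 := h2 ⟨h, hh⟩
          have h4 := congrArg Subtype.val h3
          simpa [commutatorElement_def] using h4)
        intro y
        have h5 := h1 y.1 y.2
        exact Subtype.ext h5.symm
      · intro hx y
        rw [ih, Subgroup.mem_center_iff]
        have : ⁅x, y⁆ = 1 := by
          rw [commutatorElement_def, ← hx y]; group
        rw [this]; intro g; simp
  have htop : Subgroup.upperCentralSeries Q (Group.nilpotencyClass Q) = ⊤ :=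
    Subgroup.upperCentralSeries_nilpotencyClass
  apply hab
  intro g hg h hh
  by_cases hcl : 1 ≤ Group.nilpotencyClass Q
  · rw [h21 _ hcl] at htop
    have h1 : (⟨g, hg⟩ : Q) ∈ Subgroup.center Q := by rw [htop]; trivial
    rw [Subgroup.mem_center_iff] at h1
    have h2 := h1 ⟨h, hh⟩
    exact (congrArg Subtype.val h2).symm
  · have h0 : Group.nilpotencyClass Q = 0 := by omega
    rw [h0, Subgroup.upperCentralSeries_zero] at htop
    have hg1 : (⟨g, hg⟩ : Q) ∈ (⊥ : Subgroup Q) := by rw [htop]; trivial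
    have hh1 : (⟨h, hh⟩ : Q) ∈ (⊥ : Subgroup Q) := by rw [htop]; trivial
    rw [Subgroup.mem_bot] at hg1 hh1
    have eg : g = 1 := congrArg Subtype.val hg1
    have eh : h = 1 := congrArg Subtype.val hh1
    rw [eg, eh]

/-- The final lemma: a `p`-group `Q` (`p ≥ 3`) of automorphisms of a commutative `p'`-group `V`
centralizing every proper `Q`-invariant subgroup, generated by `C` and by `D` with
`V = C_V(c) C_V(d)` for all `c ∈ C`, `d ∈ D`, acts trivially. -/
theorem final [Finite V] (hcomm : ∀ a b : V, a * b = b * a) {p : ℕ} [Fact p.Prime] (hp3 : 3 ≤ p)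
    (Q : Subgroup (MulAut V)) (hQ : IsPGroup p Q) (hcop : (Nat.card V).Coprime p)
    (hmin : ∀ W : Subgroup V, (∀ g ∈ Q, ∀ v ∈ W, g v ∈ W) → W ≠ ⊤ → ∀ g ∈ Q, ∀ v ∈ W, g v = v)
    (C D : Set (MulAut V)) (hC : Subgroup.closure C = Q) (hD : Subgroup.closure D = Q)
    (hprod : ∀ c ∈ C, ∀ d ∈ D, ∀ v : V, ∃ u w, v = u * w ∧ c u = u ∧ d w = w) :
    ∀ g ∈ Q, ∀ v, g v = v := by
  suffices h : fxs Q = ⊤ by
    intro g hg v
    have : v ∈ fxs Q := by rw [h]; trivial
    exact this g hg
  have K1 : ∀ z ∈ Q, z ≠ 1 → (∀ g ∈ Q, g * z = z * g) → fx z ≤ fxs Q := by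
    intro z hz hz1 hzc
    have hinv : ∀ g ∈ Q, ∀ v ∈ fx z, g v ∈ fx z := by
      intro g hg v hv
      show z (g v) = g v
      calc z (g v) = (z * g) v := rfl
        _ = (g * z) v := by rw [hzc g hg]
        _ = g (z v) := rfl
        _ = g v := by rw [show z v = v from hv]
    have hne : fx z ≠ ⊤ := by
      intro htop
      apply hz1
      ext v
      have : v ∈ fx z := by rw [htop]; trivial
      exact this
    intro v hv g hg
    exact hmin (fx z) hinv hne g hg v hv
  have hCQ : ∀ c ∈ C, c ∈ Q := fun c hc => hC ▸ Subgroup.subset_closure hc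
  have hDQ : ∀ d ∈ D, d ∈ Q := fun d hd => hD ▸ Subgroup.subset_closure hd
  have triv : ∀ S : Set (MulAut V), Subgroup.closure S = Q → (∀ c ∈ S, c = 1) → fxs Q = ⊤ := by
    intro S hS hS1
    have hQbot : Q = ⊥ := by
      rw [← hS, Subgroup.closure_eq_bot_iff]
      intro c hc; exact hS1 c hc
    rw [eq_top_iff]; intro v _ g hg
    rw [hQbot, Subgroup.mem_bot] at hg; rw [hg]; rfl
  by_cases hab : ∀ g ∈ Q, ∀ h ∈ Q, g * h = h * g
  · by_cases hC1 : ∀ c ∈ C, c = 1
    · exact triv C hC hC1
    · by_cases hD1 : ∀ d ∈ D, d = 1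
      · exact triv D hD hD1
      · push_neg at hC1 hD1
        obtain ⟨c, hc, hc1⟩ := hC1
        obtain ⟨d, hd, hd1⟩ := hD1
        have fc := K1 c (hCQ c hc) hc1 (fun g hg => hab g hg c (hCQ c hc))
        have fd := K1 d (hDQ d hd) hd1 (fun g hg => hab g hg d (hDQ d hd))
        rw [eq_top_iff]; intro v _
        obtain ⟨u, w, rfl, hu, hw⟩ := hprod c hc d hd v
        exact mul_mem (fc hu) (fd hw)
  · obtain ⟨a, haQ, hacen, hanc⟩ := exists_second_center Q hQ hab
    have exC : ∀ S : Set (MulAut V), Subgroup.closure S = Q → ∃ c ∈ S, a * c ≠ c * a := by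
      intro S hS
      by_contra hcon
      push_neg at hcon
      apply hanc
      intro g hg
      rw [← hS] at hg
      have hle : Subgroup.closure S ≤ Subgroup.centralizer {a} := by
        rw [Subgroup.closure_le]
        intro c hc
        rw [SetLike.mem_coe, Subgroup.mem_centralizer_iff]
        intro h hh
        rw [Set.mem_singleton_iff] at hh
        rw [hh]
        exact hcon c hc
      have h1 := hle hg
      rw [Subgroup.mem_centralizer_iff] at h1
      exact h1 a rfl
    obtain ⟨c, hc, hac⟩ := exC C hC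
    obtain ⟨d, hd, had⟩ := exC D hD
    have bound : ∀ c ∈ Q, a * c ≠ c * a →
        Nat.card (fx c) ^ 3 ≤ Nat.card V * Nat.card (fxs Q) ^ 2 := by
      intro c hcQ hac
      obtain ⟨z, hz⟩ : ∃ z, z = a * c * a⁻¹ * c⁻¹ := ⟨_, rfl⟩
      have hzQ : z ∈ Q := by
        rw [hz]; exact mul_mem (mul_mem (mul_mem haQ hcQ) (inv_mem haQ)) (inv_mem hcQ)
      have hz1 : z ≠ 1 := by
        intro h1
        apply hac
        have : a * c = (a * c * a⁻¹ * c⁻¹) * (c * a) := by group
        rw [this, ← hz, h1, one_mul]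
      have hzc : ∀ g ∈ Q, g * z = z * g := fun g hg => by rw [hz]; exact hacen c hcQ g hg
      have hzz1 : z * z ≠ 1 := by
        intro h2
        obtain ⟨k, hk⟩ := hQ ⟨z, hzQ⟩
        have hk' : z ^ (p ^ k) = 1 := by simpa using congrArg Subtype.val hk
        have h2' : z ^ 2 = 1 := by rw [pow_two]; exact h2
        have hd1 : orderOf z ∣ p ^ k := orderOf_dvd_of_pow_eq_one hk'
        have hd2 : orderOf z ∣ 2 := orderOf_dvd_of_pow_eq_one h2'
        have hco : Nat.Coprime (p ^ k) 2 := by
          apply Nat.Coprime.pow_left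
          rw [Nat.coprime_primes (Fact.out) Nat.prime_two]; omega
        have : orderOf z = 1 := Nat.eq_one_of_dvd_coprimes hco hd1 hd2
        exact hz1 (orderOf_eq_one_iff.mp this)
      have hzzc : ∀ g ∈ Q, g * (z * z) = (z * z) * g := by
        intro g hg
        rw [← mul_assoc, hzc g hg, mul_assoc, hzc g hg, mul_assoc]
      exact card_bound hcomm Q hQ hcop a c z haQ hcQ hz hzc (K1 z hzQ hz1 hzc)
        (K1 (z * z) (mul_mem hzQ hzQ) hzz1 hzzc)
    have b1 := bound c (hCQ c hc) hac
    have b2 := bound d (hDQ d hd) had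
    have htop : fx c ⊔ fx d = ⊤ := by
      rw [eq_top_iff]; intro v _
      obtain ⟨u, w, rfl, hu, hw⟩ := hprod c hc d hd v
      exact mul_mem (Subgroup.mem_sup_left hu) (Subgroup.mem_sup_right hw)
    have hle : fxs Q ≤ fx c ⊓ fx d := by
      intro v hv; exact ⟨hv c (hCQ c hc), hv d (hDQ d hd)⟩
    have nn : fx c ≤ Subgroup.normalizer (fx d : Set V) := fun g _ => by
      rw [Subgroup.mem_normalizer_iff]; intro n; rw [hcomm g n]; simp
    have pp := Cfsg.Agent.Helper3.card_mul_card_eq_of_le_normalizer (fx c) (fx d) nn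
    rw [htop, Subgroup.card_top] at pp
    have l : Nat.card (fxs Q) ≤ Nat.card (fx c ⊓ fx d : Subgroup V) := Subgroup.card_le_of_le hle
    have hnpos : 0 < Nat.card V := Nat.card_pos
    have hmpos : 0 < Nat.card (fxs Q) := Nat.card_pos
    suffices hnm : Nat.card V ≤ Nat.card (fxs Q) from Subgroup.eq_top_of_le_card _ hnm
    generalize Nat.card (fx c) = x at *
    generalize Nat.card (fx d) = y at *
    generalize Nat.card V = n at *
    generalize Nat.card (fxs Q) = m at *
    generalize Nat.card (fx c ⊓ fx d : Subgroup V) = r at *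
    have h1 : n * m ≤ x * y := by rw [pp]; exact Nat.mul_le_mul_left _ l
    have h2 : (n * m) ^ 3 ≤ (n * m ^ 2) * (n * m ^ 2) := by
      calc (n * m) ^ 3 ≤ (x * y) ^ 3 := Nat.pow_le_pow_left h1 3
        _ = x ^ 3 * y ^ 3 := by ring
        _ ≤ (n * m ^ 2) * (n * m ^ 2) := Nat.mul_le_mul b1 b2
    by_contra hlt
    have hlt' : m < n := by omega
    have : (n * m ^ 2) * (n * m ^ 2) < (n * m) ^ 3 := by
      have e1 : (n * m ^ 2) * (n * m ^ 2) = (n ^ 2 * m ^ 3) * m := by ring
      have e2 : (n * m) ^ 3 = (n ^ 2 * m ^ 3) * n := by ring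
      rw [e1, e2]
      exact Nat.mul_lt_mul_of_pos_left hlt' (by positivity)
    omega

end FL

section Main
universe u v

variable {P : Type v} [Group P]

/-- the hypothesis: every invariant subgroup is the product of the fixed points of `c` and of
`d` in it, for `c ∈ C`, `d ∈ D`. -/
def Hyp {V : Type u} [Group V] (φ : P →* MulAut V) (C D : Set P) : Prop :=
  ∀ W : Subgroup V, (∀ g : P, ∀ v ∈ W, φ g v ∈ W) →
    ∀ c ∈ C, ∀ d ∈ D, ∀ v ∈ W, ∃ u ∈ W, ∃ w ∈ W, v = u * w ∧ φ c u = u ∧ φ d w = w

/-- restriction of an action to an invariant subgroup -/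
def resAut {V : Type u} [Group V] (φ : P →* MulAut V) (W : Subgroup V)
    (hW : ∀ g : P, ∀ v ∈ W, φ g v ∈ W) : P →* MulAut W where
  toFun g :=
    { toFun := fun v => ⟨φ g v, hW g v v.2⟩
      invFun := fun v => ⟨φ g⁻¹ v, hW g⁻¹ v v.2⟩
      left_inv := fun v => by ext; simp
      right_inv := fun v => by ext; simp
      map_mul' := fun a b => by ext; simp }
  map_one' := by ext; simp
  map_mul' := fun a b => by ext; simp

/-- the induced action on the abelianization -/
def abAut (V : Type u) [Group V] : MulAut V →* MulAut (Abelianization V) where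
  toFun e := e.abelianizationCongr
  map_one' := by ext ⟨a⟩; rfl
  map_mul' := fun a b => by ext ⟨x⟩; rfl

theorem card_sub_lt' {G : Type*} [Group G] [Finite G] (L : Subgroup G) (hL : L ≠ ⊤) :
    Nat.card L < Nat.card G := by
  rw [← L.index_mul_card]
  exact lt_mul_of_one_lt_left Nat.card_pos (Subgroup.one_lt_index_of_ne_top hL)

theorem main (p : ℕ) [Fact p.Prime] (hp3 : 3 ≤ p) (hP : IsPGroup p P) (C D : Set P)
    (hC : Subgroup.closure C = ⊤) (hD : Subgroup.closure D = ⊤) :
    ∀ (n : ℕ) (V : Type u) [Group V] [Finite V] (φ : P →* MulAut V), Nat.card V = n →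
      (Nat.card V).Coprime p → Hyp φ C D → ∀ g v, φ g v = v := by
  intro n
  induction n using Nat.strong_induction_on with
  | _ n ih =>
  intro V _ _ φ hn hcop hyp
  -- Step 1: proper invariant subgroups are centralized
  have hsub : ∀ W : Subgroup V, (∀ g : P, ∀ v ∈ W, φ g v ∈ W) → W ≠ ⊤ →
      ∀ g, ∀ v ∈ W, φ g v = v := by
    intro W hW hne g v hv
    have hlt : Nat.card W < n := hn ▸ card_sub_lt' W hne
    have hcopW : (Nat.card W).Coprime p :=
      Nat.Coprime.coprime_dvd_left (Subgroup.card_subgroup_dvd_card W) hcop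
    have hypW : Hyp (resAut φ W hW) C D := by
      intro W' hW' c hc d hd v' hv'
      have hinv : ∀ g : P, ∀ v ∈ W'.map W.subtype, φ g v ∈ W'.map W.subtype := by
        rintro g _ ⟨x, hx, rfl⟩
        exact ⟨resAut φ W hW g x, hW' g x hx, rfl⟩
      obtain ⟨u, hu, w, hw, hvw, hcu, hdw⟩ :=
        hyp (W'.map W.subtype) hinv c hc d hd (v' : V) ⟨v', hv', rfl⟩
      obtain ⟨u', hu', rfl⟩ := hu
      obtain ⟨w', hw', rfl⟩ := hw
      refine ⟨u', hu', w', hw', ?_, ?_, ?_⟩
      · exact Subtype.ext hvw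
      · exact Subtype.ext hcu
      · exact Subtype.ext hdw
    have := ih (Nat.card W) hlt W (resAut φ W hW) rfl hcopW hypW g ⟨v, hv⟩
    exact congrArg Subtype.val this
  -- Step 2: invariant Sylow subgroups
  have hsyl : ∀ (q : ℕ) [Fact q.Prime], ∃ S : Sylow q V,
      ∀ g : P, ∀ v ∈ (S : Subgroup V), φ g v ∈ (S : Subgroup V) := by
    intro q _
    letI : MulDistribMulAction P V := MulDistribMulAction.compHom V φ
    have hnd : ¬ p ∣ Nat.card (Sylow q V) := by
      intro hdvd
      obtain ⟨S⟩ : Nonempty (Sylow q V) := inferInstance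
      have h1 : Nat.card (Sylow q V) ∣ Nat.card V :=
        (Sylow.card_dvd_index S).trans (Subgroup.index_dvd_card _)
      have h2 : p ∣ Nat.card V := hdvd.trans h1
      exact (Fact.out : p.Prime).one_lt.ne' (Nat.Coprime.eq_one_of_dvd hcop.symm h2)
    obtain ⟨S, hS⟩ := hP.nonempty_fixed_point_of_prime_not_dvd_card (Sylow q V) hnd
    refine ⟨S, fun g v hv => ?_⟩
    have h1 : g • S = S := hS g
    have h2 : g • v ∈ ((g • S : Sylow q V) : Subgroup V) := by
      rw [Sylow.pointwise_smul_def]; exact Subgroup.smul_mem_pointwise_smul _ _ _ hv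
    rw [h1] at h2
    exact h2
  by_cases hcomm : ∀ a b : V, a * b = b * a
  · -- commutative case: the final lemma
    have hQ : IsPGroup p φ.range := hP.of_surjective φ.rangeRestrict φ.rangeRestrict_surjective
    have hCr : Subgroup.closure (φ '' C) = φ.range := by
      rw [← MonoidHom.map_closure, hC, MonoidHom.range_eq_map]
    have hDr : Subgroup.closure (φ '' D) = φ.range := by
      rw [← MonoidHom.map_closure, hD, MonoidHom.range_eq_map]
    have hfin := final hcomm hp3 φ.range hQ hcop
      (fun W hW hne g hg v hv => by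
        obtain ⟨g', rfl⟩ := hg
        exact hsub W (fun g v hv => hW (φ g) ⟨g, rfl⟩ v hv) hne g' v hv)
      (φ '' C) (φ '' D) hCr hDr
      (by
        rintro _ ⟨c, hc, rfl⟩ _ ⟨d, hd, rfl⟩ v
        obtain ⟨u, -, w, -, h1, h2, h3⟩ :=
          hyp ⊤ (fun _ _ _ => Subgroup.mem_top _) c hc d hd v (Subgroup.mem_top _)
        exact ⟨u, w, h1, h2, h3⟩)
    intro g v
    exact hfin (φ g) ⟨g, rfl⟩ v
  · have hcne : commutator V ≠ ⊥ := by
      intro hbot
      apply hcomm
      intro a b
      have h1 : ⁅a, b⁆ ∈ commutator V := by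
        rw [commutator_def]
        exact Subgroup.commutator_mem_commutator (Subgroup.mem_top a) (Subgroup.mem_top b)
      rw [hbot, Subgroup.mem_bot, commutatorElement_eq_one_iff_mul_comm] at h1
      exact h1
    by_cases hctop : commutator V = ⊤
    · by_cases hq : ∃ (q : ℕ) (_ : q.Prime), ∃ S : Sylow q V, (S : Subgroup V) = ⊤
      · exfalso
        obtain ⟨q, hqp, S, hS⟩ := hq
        haveI := Fact.mk hqp
        have hV : IsPGroup q V := by
          have h1 := S.isPGroup'
          rw [hS] at h1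
          exact h1.of_equiv Subgroup.topEquiv
        haveI : Group.IsNilpotent V := hV.isNilpotent
        haveI : Nontrivial V := by
          by_contra hnt
          rw [not_nontrivial_iff_subsingleton] at hnt
          exact hcne (Subgroup.eq_bot_of_subsingleton _)
        exact (Group.IsSolvable.commutator_lt_top_of_nontrivial V).ne hctop
      · push_neg at hq
        have hF : ∀ (q : ℕ) [Fact q.Prime], ∃ S : Sylow q V, (S : Subgroup V) ≤ fxs φ.range := by
          intro q _
          obtain ⟨S, hS⟩ := hsyl q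
          refine ⟨S, fun v hv x hx => ?_⟩
          obtain ⟨g, rfl⟩ := hx
          exact hsub S hS (hq q Fact.out S) g v hv
        have hdvd : Nat.card V ∣ Nat.card (fxs φ.range) := by
          rw [← Nat.factorization_prime_le_iff_dvd Nat.card_pos.ne' Nat.card_pos.ne']
          intro q hqp
          haveI := Fact.mk hqp
          obtain ⟨S, hS⟩ := hF q
          have h1 : Nat.card S ∣ Nat.card (fxs φ.range) := Subgroup.card_dvd_of_le hS
          rw [Sylow.card_eq_multiplicity] at h1
          exact (hqp.pow_dvd_iff_le_factorization Nat.card_pos.ne').mp h1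
        have hFtop : fxs φ.range = ⊤ :=
          Subgroup.eq_top_of_le_card _ (Nat.le_of_dvd Nat.card_pos hdvd)
        intro g v
        have : v ∈ fxs φ.range := by rw [hFtop]; trivial
        exact this (φ g) ⟨g, rfl⟩
    · -- pass to the abelianization
      have hcard : Nat.card (Abelianization V) = (commutator V).index := rfl
      have hlt : Nat.card (Abelianization V) < n := by
        rw [hcard, ← hn, ← (commutator V).index_mul_card]
        have h2 : 1 < Nat.card (commutator V) := by
          rw [Subgroup.one_lt_card_iff_ne_bot]; exact hcne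
        have h3 : 0 < (commutator V).index := Nat.pos_of_ne_zero Subgroup.index_ne_zero_of_finite
        nlinarith
      have hcopA : (Nat.card (Abelianization V)).Coprime p := by
        rw [hcard]
        exact Nat.Coprime.coprime_dvd_left (Subgroup.index_dvd_card _) hcop
      have hypA : Hyp ((abAut V).comp φ) C D := by
        intro W hW c hc d hd x hx
        obtain ⟨v, rfl⟩ : ∃ v, Abelianization.of v = x := by
          rcases x with ⟨v⟩; exact ⟨v, rfl⟩
        have hinv : ∀ g : P, ∀ v ∈ W.comap Abelianization.of,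
            φ g v ∈ W.comap Abelianization.of := by
          intro g v hv
          rw [Subgroup.mem_comap] at hv ⊢
          exact hW g _ hv
        obtain ⟨u, hu, w, hw, h1, h2, h3⟩ :=
          hyp (W.comap Abelianization.of) hinv c hc d hd v hx
        refine ⟨Abelianization.of u, hu, Abelianization.of w, hw, ?_, ?_, ?_⟩
        · rw [h1, map_mul]
        · show Abelianization.of (φ c u) = _
          rw [h2]
        · show Abelianization.of (φ d w) = _
          rw [h3]
      have hA := ih _ hlt (Abelianization V) ((abAut V).comp φ) rfl hcopA hypA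
      have hmem : ∀ g v, v⁻¹ * φ g v ∈ commutator V := by
        intro g v
        have h1 : Abelianization.of (φ g v) = Abelianization.of v := hA g (Abelianization.of v)
        have h2 : Abelianization.of (v⁻¹ * φ g v) = 1 := by rw [map_mul, map_inv, h1]; simp
        rw [← MonoidHom.mem_ker, Abelianization.ker_of] at h2
        exact h2
      have hcinv : ∀ g : P, ∀ v ∈ commutator V, φ g v ∈ commutator V := by
        intro g v hv
        have hchar : (commutator V).Characteristic := inferInstance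
        exact (Subgroup.characteristic_iff_map_le.mp hchar (φ g)) (Subgroup.mem_map_of_mem _ hv)
      have hfix := hsub (commutator V) hcinv hctop
      intro g v
      obtain ⟨l, hl⟩ : ∃ l, l = v⁻¹ * φ g v := ⟨_, rfl⟩
      have hlc : l ∈ commutator V := hl ▸ hmem g v
      have hxl : φ g l = l := hfix g l hlc
      have hxv : φ g v = v * l := by rw [hl]; group
      have hpow : ∀ k : ℕ, (φ g ^ k) v = v * l ^ k := by
        intro k
        induction k with
        | zero => simp
        | succ k ih2 =>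
          rw [pow_succ', MulAut.mul_apply, ih2, map_mul, map_pow, hxv, hxl, pow_succ', mul_assoc]
      obtain ⟨j, hj⟩ := hP g
      have h1 : φ g ^ (p ^ j) = 1 := by rw [← map_pow, hj, map_one]
      have h2 := hpow (p ^ j)
      rw [h1] at h2
      have h3 : l ^ (p ^ j) = 1 := by
        have : v * 1 = v * l ^ (p ^ j) := by simpa using h2
        exact (mul_left_cancel this).symm
      have h4 : l = 1 := by
        have hd1 : orderOf l ∣ p ^ j := orderOf_dvd_of_pow_eq_one h3
        have hd2 : orderOf l ∣ Nat.card V := orderOf_dvd_natCard l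
        have : orderOf l = 1 :=
          Nat.eq_one_of_dvd_coprimes (Nat.Coprime.pow_left j hcop.symm) hd1 hd2
        exact orderOf_eq_one_iff.mp this
      rw [hxv, h4, mul_one]

end Main

end Cfsg.Agent.Helper1.CoprimeGen
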