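import Mathlib
import Cfsg.Agent.Helper12.SL2Gen

/-!
Helper library (helper1): unipotent elements of `SL₂(F)` (odd characteristic) acting on
`p'`-elements.  Main result `scalar_of_comm_conj`: if `a ≠ 1`, `a ^ p = 1`, `g` has order prime
to `p` and `a g a⁻¹` commutes with `g`, then `g = ±1`.
-/

set_option autoImplicit false

namespace Cfsg.Agent.Helper1.SL2Nil

open Matrix Cfsg.Agent.Helper12

variable {F : Type*} [Field F]

theorem sl2U_inv (b : F) :
    (sl2U b : Matrix.SpecialLinearGroup (Fin 2) F)⁻¹ = sl2U (-b) := by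
  apply inv_eq_of_mul_eq_one_right
  rw [sl2U_mul, add_neg_cancel, sl2U_zero]

/-- if the conjugate of `g` by an upper unitriangular element commutes with `g`, then `g` is
upper triangular with equal diagonal entries -/
theorem comm_conj_U (h2 : (2 : F) ≠ 0) {b : F} (hb : b ≠ 0)
    (g : Matrix.SpecialLinearGroup (Fin 2) F)
    (h : (sl2U b * g * (sl2U b)⁻¹) * g = g * (sl2U b * g * (sl2U b)⁻¹)) :
    (g : Matrix (Fin 2) (Fin 2) F) 1 0 = 0 ∧
      (g : Matrix (Fin 2) (Fin 2) F) 0 0 = (g : Matrix (Fin 2) (Fin 2) F) 1 1 := by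
  obtain ⟨x, y, z, w, hg, hdet⟩ := sl2_eta g
  rw [sl2U_inv] at h
  have hm := congrArg
    (fun M : Matrix.SpecialLinearGroup (Fin 2) F => (M : Matrix (Fin 2) (Fin 2) F)) h
  simp only [Matrix.SpecialLinearGroup.coe_mul, sl2U_val, hg] at hm
  have e10 := congrFun (congrFun hm 1) 0
  have e01 := congrFun (congrFun hm 0) 1
  simp only [Matrix.mul_apply, Fin.sum_univ_two, Matrix.of_apply, Matrix.cons_val_zero,
    Matrix.cons_val_one, Matrix.cons_val', Matrix.cons_val_fin_one] at e10 e01
  rw [hg]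
  have hz : z = 0 := by
    have h1 : 2 * b * z ^ 2 = 0 := by
      first | linear_combination e10 | linear_combination -e10
    have h3 : z ^ 2 = 0 := by
      rcases mul_eq_zero.mp h1 with h | h
      · exact absurd h (mul_ne_zero h2 hb)
      · exact h
    exact pow_eq_zero_iff (two_ne_zero) |>.mp h3
  subst hz
  have hw : (w - x) ^ 2 = 0 := by
    have h1 : b * (w - x) ^ 2 = 0 := by
      first | linear_combination e01 | linear_combination -e01
    rcases mul_eq_zero.mp h1 with h | h
    · exact absurd h hb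
    · exact h
  have hwx : w - x = 0 := pow_eq_zero_iff (two_ne_zero) |>.mp hw
  refine ⟨rfl, ?_⟩
  show x = w
  linear_combination -hwx

/-- an upper triangular element with equal diagonal entries and of order prime to `p` is `±1` -/
theorem scalar_of_upper (p : ℕ) [Fact p.Prime] [CharP F p] (h2 : (2 : F) ≠ 0)
    (g : Matrix.SpecialLinearGroup (Fin 2) F)
    (h10 : (g : Matrix (Fin 2) (Fin 2) F) 1 0 = 0)
    (h00 : (g : Matrix (Fin 2) (Fin 2) F) 0 0 = (g : Matrix (Fin 2) (Fin 2) F) 1 1)
    (m : ℕ) (hm : m.Coprime p) (hgm : g ^ m = 1) : g = 1 ∨ g = sl2NegOne := by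
  obtain ⟨x, y, z, w, hg, hdet⟩ := sl2_eta g
  rw [hg] at h10 h00
  have hz : z = 0 := h10
  have hxw : x = w := h00
  subst hz
  subst hxw
  have hxx : x * x = 1 := by linear_combination hdet
  have hx0 : x ≠ 0 := by
    rintro rfl
    rw [mul_zero] at hxx
    exact zero_ne_one hxx
  have hgg : g * g = sl2U (2 * x * y) := by
    apply Subtype.ext
    rw [Matrix.SpecialLinearGroup.coe_mul, hg, sl2U_val, Matrix.mul_fin_two]
    ext i j
    fin_cases i <;> fin_cases j
    · show x * x + y * 0 = 1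
      linear_combination hxx
    · show x * y + y * x = 2 * x * y
      ring
    · show 0 * x + x * 0 = 0
      ring
    · show 0 * y + x * x = 1
      linear_combination hxx
  have hpow : (g * g) ^ m = 1 := by
    rw [← pow_two, ← pow_mul, mul_comm, pow_mul, hgm, one_pow]
  rw [hgg, sl2U_pow, ← sl2U_zero] at hpow
  have h0 : (m : F) * (2 * x * y) = 0 := sl2U_injective hpow
  have hm0 : (m : F) ≠ 0 := by
    intro h
    rw [CharP.cast_eq_zero_iff F p] at h
    have hp := (Fact.out : p.Prime)
    exact hp.one_lt.ne' (Nat.dvd_one.mp (hm ▸ Nat.dvd_gcd h (dvd_refl p)))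
  have hy : y = 0 := by
    rcases mul_eq_zero.mp h0 with h | h
    · exact absurd h hm0
    · rcases mul_eq_zero.mp h with h | h
      · exact absurd h (mul_ne_zero h2 hx0)
      · exact h
  subst hy
  rcases mul_self_eq_one_iff.mp hxx with h | h
  · left
    apply Subtype.ext
    rw [hg, h, Matrix.SpecialLinearGroup.coe_one, Matrix.one_fin_two]
  · right
    apply Subtype.ext
    rw [hg, h, sl2NegOne, sl2mk_val]

/-- an involution of `SL₂(F)` (odd characteristic) is `-1` -/
theorem eq_one_or_negOne_of_sq (h2 : (2 : F) ≠ 0) (g : Matrix.SpecialLinearGroup (Fin 2) F)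
    (hgg : g * g = 1) : g = 1 ∨ g = sl2NegOne := by
  obtain ⟨x, y, z, w, hg, hdet⟩ := sl2_eta g
  have hm := congrArg
    (fun M : Matrix.SpecialLinearGroup (Fin 2) F => (M : Matrix (Fin 2) (Fin 2) F)) hgg
  simp only [Matrix.SpecialLinearGroup.coe_mul, Matrix.SpecialLinearGroup.coe_one, hg] at hm
  have e00 := congrFun (congrFun hm 0) 0
  have e01 := congrFun (congrFun hm 0) 1
  have e10 := congrFun (congrFun hm 1) 0
  have e11 := congrFun (congrFun hm 1) 1
  simp only [Matrix.mul_apply, Fin.sum_univ_two, Matrix.of_apply, Matrix.cons_val_zero,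
    Matrix.cons_val_one, Matrix.cons_val', Matrix.cons_val_fin_one, Matrix.one_apply_eq,
    Matrix.one_apply_ne, ne_eq, one_ne_zero, not_false_eq_true, zero_ne_one] at e00 e01 e10 e11
  have ht : x * (x + w) = 2 := by linear_combination e00 + hdet
  have ht0 : x + w ≠ 0 := by
    intro h
    rw [h, mul_zero] at ht
    exact h2 ht.symm
  have hy : y = 0 := by
    have : y * (x + w) = 0 := by linear_combination e01
    rcases mul_eq_zero.mp this with h | h
    · exact h
    · exact absurd h ht0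
  have hz : z = 0 := by
    have : z * (x + w) = 0 := by linear_combination e10
    rcases mul_eq_zero.mp this with h | h
    · exact h
    · exact absurd h ht0
  subst hy
  subst hz
  have hxw : x = w := by
    have h1 : (x - w) * (x + w) = 0 := by linear_combination e00 - e11
    rcases mul_eq_zero.mp h1 with h | h
    · linear_combination h
    · exact absurd h ht0
  subst hxw
  have hxx : x * x = 1 := by linear_combination hdet
  rcases mul_self_eq_one_iff.mp hxx with h | h
  · left
    apply Subtype.ext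
    rw [hg, h, Matrix.SpecialLinearGroup.coe_one, Matrix.one_fin_two]
  · right
    apply Subtype.ext
    rw [hg, h, sl2NegOne, sl2mk_val]

/-- a square root of `-1` in `SL₂(F)` has trace zero -/
theorem trace_eq_zero_of_sq (g : Matrix.SpecialLinearGroup (Fin 2) F)
    (hgg : g * g = sl2NegOne) : (g : Matrix (Fin 2) (Fin 2) F).trace = 0 := by
  obtain ⟨x, y, z, w, hg, hdet⟩ := sl2_eta g
  have hm := congrArg
    (fun M : Matrix.SpecialLinearGroup (Fin 2) F => (M : Matrix (Fin 2) (Fin 2) F)) hgg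
  simp only [Matrix.SpecialLinearGroup.coe_mul, hg, sl2NegOne, sl2mk_val] at hm
  have e00 := congrFun (congrFun hm 0) 0
  have e01 := congrFun (congrFun hm 0) 1
  have e10 := congrFun (congrFun hm 1) 0
  have e11 := congrFun (congrFun hm 1) 1
  simp only [Matrix.mul_apply, Fin.sum_univ_two, Matrix.of_apply, Matrix.cons_val_zero,
    Matrix.cons_val_one, Matrix.cons_val', Matrix.cons_val_fin_one] at e00 e01 e10 e11
  rw [hg, Matrix.trace_fin_two_of]
  by_contra ht0
  have hx : x = 0 := by
    have : x * (x + w) = 0 := by linear_combination e00 + hdet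
    rcases mul_eq_zero.mp this with h | h
    · exact h
    · exact absurd h ht0
  have hw : w = 0 := by
    have : w * (x + w) = 0 := by linear_combination e11 + hdet
    rcases mul_eq_zero.mp this with h | h
    · exact h
    · exact absurd h ht0
  exact ht0 (by rw [hx, hw, add_zero])

/-- **Key lemma.** A nontrivial unipotent element `a` of `SL₂(F)`, odd characteristic `p`; if `g`
has order prime to `p` and `a g a⁻¹` commutes with `g` then `g = ±1`. -/
theorem scalar_of_comm_conj (p : ℕ) [Fact p.Prime] [CharP F p] (h2 : (2 : F) ≠ 0)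
    (a g : Matrix.SpecialLinearGroup (Fin 2) F) (ha1 : a ≠ 1) (hap : a ^ p = 1)
    (m : ℕ) (hm : m.Coprime p) (hgm : g ^ m = 1) (h : Commute (a * g * a⁻¹) g) :
    g = 1 ∨ g = sl2NegOne := by
  have htr := sl2_trace_eq_two_of_pow_char p a hap
  obtain ⟨b, hb, hconj⟩ := sl2_exists_conj_sl2U h2 a htr ha1
  rw [isConj_iff] at hconj
  obtain ⟨c, hc⟩ := hconj
  have h' : (sl2U b * (c * g * c⁻¹) * (sl2U b)⁻¹) * (c * g * c⁻¹) =
      (c * g * c⁻¹) * (sl2U b * (c * g * c⁻¹) * (sl2U b)⁻¹) := by
    rw [← hc]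
    have e1 : (c * a * c⁻¹) * (c * g * c⁻¹) * (c * a * c⁻¹)⁻¹ * (c * g * c⁻¹) =
        c * ((a * g * a⁻¹) * g) * c⁻¹ := by group
    have e2 : (c * g * c⁻¹) * ((c * a * c⁻¹) * (c * g * c⁻¹) * (c * a * c⁻¹)⁻¹) =
        c * (g * (a * g * a⁻¹)) * c⁻¹ := by group
    rw [e1, e2, h.eq]
  obtain ⟨h10, h00⟩ := comm_conj_U h2 hb (c * g * c⁻¹) h'
  have hpow : (c * g * c⁻¹) ^ m = 1 := by rw [conj_pow, hgm, mul_one, mul_inv_cancel]
  rcases scalar_of_upper p h2 (c * g * c⁻¹) h10 h00 m hm hpow with h | h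
  · left
    exact conj_eq_one_iff.mp h
  · right
    have hcen := Subgroup.mem_center_iff.mp (sl2NegOne_mem_center (F := F))
    have : g = c⁻¹ * (c * g * c⁻¹) * c := by group
    rw [this, h, mul_assoc, ← hcen c, ← mul_assoc, inv_mul_cancel, one_mul]

/-- a `p`-element of `SL₂(F)` in characteristic `p` has order dividing `p` -/
theorem pow_char_eq_one (p : ℕ) [Fact p.Prime] [CharP F p] (h2 : (2 : F) ≠ 0)
    (a : Matrix.SpecialLinearGroup (Fin 2) F) (k : ℕ) (h : a ^ (p ^ k) = 1) : a ^ p = 1 := by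
  by_cases ha1 : a = 1
  · rw [ha1, one_pow]
  have h1 : (a : Matrix (Fin 2) (Fin 2) F) ^ (p ^ k) = 1 := by
    rw [← Matrix.SpecialLinearGroup.coe_pow, h, Matrix.SpecialLinearGroup.coe_one]
  have hnil : IsNilpotent ((a : Matrix (Fin 2) (Fin 2) F) - 1) := by
    refine ⟨p ^ k, ?_⟩
    rw [sub_pow_char_pow_of_commute p k (Commute.one_right _), h1, one_pow, sub_self]
  have h0 := (Matrix.isNilpotent_trace_of_isNilpotent hnil).eq_zero
  rw [Matrix.trace_sub, Matrix.trace_one, Fintype.card_fin] at h0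
  push_cast at h0
  have htr : (a : Matrix (Fin 2) (Fin 2) F).trace = 2 := by linear_combination h0
  obtain ⟨b, hb, hconj⟩ := sl2_exists_conj_sl2U h2 a htr ha1
  rw [isConj_iff] at hconj
  obtain ⟨c, hc⟩ := hconj
  have : a = c⁻¹ * sl2U b * c⁻¹⁻¹ := by rw [← hc]; group
  rw [this, conj_pow, sl2U_pow_char, mul_one, mul_inv_cancel]

theorem sl2NegOne_ne_one' (h2 : (2 : F) ≠ 0) :
    (sl2NegOne : Matrix.SpecialLinearGroup (Fin 2) F) ≠ 1 := sl2NegOne_ne_one h2

theorem orderOf_sl2NegOne (h2 : (2 : F) ≠ 0) :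
    orderOf (sl2NegOne : Matrix.SpecialLinearGroup (Fin 2) F) = 2 := by
  apply orderOf_eq_prime
  · rw [pow_two, sl2NegOne_mul_self]
  · exact sl2NegOne_ne_one h2

end Cfsg.Agent.Helper1.SL2Nil
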