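import Mathlib
import Cfsg.Agent.Helper12.SL2Gen

/-!
Helper library (helper1): a pair of unipotent elements of `SL₂(F)` whose "invariant"
`tr(xy) - 2` is a nonzero element of the prime field generates a copy of `SL₂(ZMod p)`.
-/

set_option autoImplicit false

namespace Cfsg.Agent.Helper1.SL2Pair

open Matrix Cfsg.Agent.Helper12

variable {F : Type*} [Field F]

/-- the lower unitriangular element `[[1,0],[c,1]]` of `SL₂` -/
def sl2L (c : F) : Matrix.SpecialLinearGroup (Fin 2) F := sl2mk 1 0 c 1 (by ring)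

@[simp]
theorem sl2L_val (c : F) :
    ((sl2L c : Matrix.SpecialLinearGroup (Fin 2) F) : Matrix (Fin 2) (Fin 2) F) = !![1, 0; c, 1] := rfl

/-- base change along a ring hom, twisted by `diag(b,1)`: the underlying matrix -/
noncomputable def twistMat {K : Type*} [Field K] (ι : K →+* F) (b : F)
    (g : Matrix (Fin 2) (Fin 2) K) : Matrix (Fin 2) (Fin 2) F :=
  !![ι (g 0 0), b * ι (g 0 1); b⁻¹ * ι (g 1 0), ι (g 1 1)]

theorem twistMat_mul {K : Type*} [Field K] (ι : K →+* F) (b : F) (hb : b ≠ 0)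
    (g h : Matrix (Fin 2) (Fin 2) K) :
    twistMat ι b (g * h) = twistMat ι b g * twistMat ι b h := by
  unfold twistMat
  rw [Matrix.mul_fin_two]
  ext i j
  fin_cases i <;> fin_cases j <;>
    simp [Matrix.mul_apply, Fin.sum_univ_two] <;> field_simp

theorem twistMat_one {K : Type*} [Field K] (ι : K →+* F) (b : F) :
    twistMat ι b (1 : Matrix (Fin 2) (Fin 2) K) = 1 := by
  unfold twistMat
  ext i j
  fin_cases i <;> fin_cases j <;> simp

theorem twistMat_det {K : Type*} [Field K] (ι : K →+* F) (b : F) (hb : b ≠ 0)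
    (g : Matrix (Fin 2) (Fin 2) K) (hg : g.det = 1) : (twistMat ι b g).det = 1 := by
  unfold twistMat
  rw [Matrix.det_fin_two] at hg
  rw [Matrix.det_fin_two_of]
  have h2 : ι (g 0 0) * ι (g 1 1) - ι (g 0 1) * ι (g 1 0) = 1 := by
    rw [← map_mul, ← map_mul, ← map_sub, hg, map_one]
  field_simp
  linear_combination h2

/-- base change along a ring hom, twisted by `diag(b,1)` -/
noncomputable def twist {K : Type*} [Field K] (ι : K →+* F) (b : F) (hb : b ≠ 0) :
    Matrix.SpecialLinearGroup (Fin 2) K →* Matrix.SpecialLinearGroup (Fin 2) F where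
  toFun g := ⟨twistMat ι b (g : Matrix (Fin 2) (Fin 2) K), twistMat_det ι b hb _ g.det_coe⟩
  map_one' := by
    apply Subtype.ext
    show twistMat ι b ((1 : Matrix.SpecialLinearGroup (Fin 2) K) : Matrix (Fin 2) (Fin 2) K) = 1
    rw [Matrix.SpecialLinearGroup.coe_one, twistMat_one]
  map_mul' g h := by
    apply Subtype.ext
    show twistMat ι b ((g * h : Matrix.SpecialLinearGroup (Fin 2) K) : Matrix (Fin 2) (Fin 2) K) =
      twistMat ι b (g : Matrix (Fin 2) (Fin 2) K) * twistMat ι b (h : Matrix (Fin 2) (Fin 2) K)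
    rw [Matrix.SpecialLinearGroup.coe_mul, twistMat_mul ι b hb]

theorem twist_val {K : Type*} [Field K] (ι : K →+* F) (b : F) (hb : b ≠ 0)
    (g : Matrix.SpecialLinearGroup (Fin 2) K) :
    ((twist ι b hb g : Matrix.SpecialLinearGroup (Fin 2) F) : Matrix (Fin 2) (Fin 2) F) =
      !![ι ((g : Matrix (Fin 2) (Fin 2) K) 0 0), b * ι ((g : Matrix (Fin 2) (Fin 2) K) 0 1);
        b⁻¹ * ι ((g : Matrix (Fin 2) (Fin 2) K) 1 0), ι ((g : Matrix (Fin 2) (Fin 2) K) 1 1)] := rfl

theorem twist_injective {K : Type*} [Field K] (ι : K →+* F) (b : F) (hb : b ≠ 0) :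
    Function.Injective (twist ι b hb) := by
  intro g h hgh
  have hm := congrArg (fun z : Matrix.SpecialLinearGroup (Fin 2) F => (z : Matrix (Fin 2) (Fin 2) F)) hgh
  simp only [twist_val] at hm
  have e00 := congrFun (congrFun hm 0) 0
  have e01 := congrFun (congrFun hm 0) 1
  have e10 := congrFun (congrFun hm 1) 0
  have e11 := congrFun (congrFun hm 1) 1
  simp only [Matrix.of_apply, Matrix.cons_val_zero, Matrix.cons_val_one, Matrix.cons_val',
    Matrix.cons_val_fin_one] at e00 e01 e10 e11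
  have hbi : b⁻¹ ≠ 0 := inv_ne_zero hb
  apply Subtype.ext
  ext i j
  fin_cases i <;> fin_cases j
  · exact ι.injective e00
  · exact ι.injective (mul_left_cancel₀ hb e01)
  · exact ι.injective (mul_left_cancel₀ hbi e10)
  · exact ι.injective e11

theorem twist_U {K : Type*} [Field K] (ι : K →+* F) (b : F) (hb : b ≠ 0) :
    twist ι b hb (sl2U (1 : K)) = sl2U b := by
  apply Subtype.ext
  rw [twist_val, sl2U_val, sl2U_val]
  ext i j
  fin_cases i <;> fin_cases j <;> simp

theorem twist_L {K : Type*} [Field K] (ι : K →+* F) (b : F) (hb : b ≠ 0) (k : K) :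
    twist ι b hb (sl2L k) = sl2L (b⁻¹ * ι k) := by
  apply Subtype.ext
  rw [twist_val, sl2L_val, sl2L_val]
  ext i j
  fin_cases i <;> fin_cases j <;> simp

/-- `SL₂` of a prime field is generated by `[[1,1],[0,1]]` and `[[1,0],[k,1]]`, `k ≠ 0`. -/
theorem closure_U_L_eq_top (hF : ∀ y : F, ∃ n : ℕ, y = (n : F)) (k : F) (hk : k ≠ 0) :
    Subgroup.closure ({sl2U (1 : F), sl2L k} : Set (Matrix.SpecialLinearGroup (Fin 2) F)) = ⊤ := by
  have hU : sl2U (1 : F) ∈ Subgroup.closure ({sl2U (1 : F), sl2L k} :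
      Set (Matrix.SpecialLinearGroup (Fin 2) F)) := Subgroup.subset_closure (by simp)
  have hL : sl2L k ∈ Subgroup.closure ({sl2U (1 : F), sl2L k} :
      Set (Matrix.SpecialLinearGroup (Fin 2) F)) := Subgroup.subset_closure (by simp)
  have h1 : ∀ y : F, sl2U y ∈ Subgroup.closure ({sl2U (1 : F), sl2L k} :
      Set (Matrix.SpecialLinearGroup (Fin 2) F)) := by
    intro y
    obtain ⟨n, rfl⟩ := hF y
    have : sl2U (n : F) = (sl2U (1 : F)) ^ n := by rw [sl2U_pow, mul_one]
    rw [this]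
    exact Subgroup.pow_mem _ hU n
  refine sl2_generate (sl2L k) ?_ _ h1 ?_
  · rw [sl2L_val]; simpa using hk
  · intro y
    exact Subgroup.mul_mem _ (Subgroup.mul_mem _ hL (h1 y)) (Subgroup.inv_mem _ hL)

/-- Normal form of a pair of unipotent elements with nonzero invariant. -/
theorem exists_conj_pair (h2 : (2 : F) ≠ 0) (x y : Matrix.SpecialLinearGroup (Fin 2) F)
    (hx : (x : Matrix (Fin 2) (Fin 2) F).trace = 2) (hy : (y : Matrix (Fin 2) (Fin 2) F).trace = 2)
    (t : F) (ht : t ≠ 0)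
    (hxy : ((x * y : Matrix.SpecialLinearGroup (Fin 2) F) : Matrix (Fin 2) (Fin 2) F).trace = 2 + t) :
    ∃ (C : Matrix.SpecialLinearGroup (Fin 2) F) (b : F), b ≠ 0 ∧
      C * x * C⁻¹ = sl2U b ∧ C * y * C⁻¹ = sl2L (b⁻¹ * t) := by
  have hx1 : x ≠ 1 := by
    rintro rfl
    rw [one_mul, hy] at hxy
    exact ht (by linear_combination -hxy)
  obtain ⟨b, hb, hconj⟩ := sl2_exists_conj_sl2U h2 x hx hx1
  rw [isConj_iff] at hconj
  obtain ⟨c, hc⟩ := hconj
  obtain ⟨α, β, γ, δ, hy', hdet⟩ := sl2_eta (c * y * c⁻¹)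
  have htr : α + δ = 2 := by
    have := sl2_trace_conj c y
    rw [hy, hy', Matrix.trace_fin_two_of] at this
    exact this
  have hprod : c * (x * y) * c⁻¹ = sl2U b * (c * y * c⁻¹) := by
    rw [← hc]; group
  have htr2 : b * γ = t := by
    have h1 := sl2_trace_conj c (x * y)
    rw [hprod, hxy, Matrix.SpecialLinearGroup.coe_mul, hy', sl2U_val, Matrix.mul_fin_two,
      Matrix.trace_fin_two_of] at h1
    linear_combination h1 - htr
  have hγ : γ ≠ 0 := by
    rintro rfl
    rw [mul_zero] at htr2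
    exact ht htr2.symm
  have hγt : γ = b⁻¹ * t := by
    rw [← htr2]; field_simp
  obtain ⟨s, hs⟩ : ∃ s : F, s * γ = 1 - α := ⟨(1 - α) / γ, div_mul_cancel₀ _ hγ⟩
  refine ⟨sl2U s * c, b, hb, ?_, ?_⟩
  · have : sl2U s * c * x * (sl2U s * c)⁻¹ = sl2U s * (c * x * c⁻¹) * (sl2U s)⁻¹ := by group
    rw [this, hc, sl2U_mul, add_comm, ← sl2U_mul, mul_inv_cancel_right]
  · have : sl2U s * c * y * (sl2U s * c)⁻¹ = sl2U s * (c * y * c⁻¹) * (sl2U s)⁻¹ := by group
    rw [this, mul_inv_eq_iff_eq_mul, sl2_mul_eq_iff, hy', sl2U_val, sl2L_val, ← hγt,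
      Matrix.mul_fin_two, Matrix.mul_fin_two]
    ext i j
    fin_cases i <;> fin_cases j
    · show 1 * α + s * γ = 1 * 1 + 0 * 0
      linear_combination hs
    · show 1 * β + s * δ = 1 * s + 0 * 1
      apply mul_right_cancel₀ hγ
      linear_combination (δ - 1) * hs - hdet + htr
    · show 0 * α + 1 * γ = γ * 1 + 1 * 0
      ring
    · show 0 * β + 1 * δ = γ * s + 1 * 1
      linear_combination htr - hs

/-- Two unipotent elements of `SL₂(F)`, `char F = p` odd, such that `tr(xy) - 2` is a nonzero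
element of the prime field generate a subgroup isomorphic to `SL₂(ZMod p)`. -/
theorem pair_equiv (p : ℕ) [Fact p.Prime] [CharP F p] (h2 : (2 : F) ≠ 0)
    (x y : Matrix.SpecialLinearGroup (Fin 2) F)
    (hx : (x : Matrix (Fin 2) (Fin 2) F).trace = 2) (hy : (y : Matrix (Fin 2) (Fin 2) F).trace = 2)
    (k : ZMod p) (hk : k ≠ 0)
    (hxy : ((x * y : Matrix.SpecialLinearGroup (Fin 2) F) : Matrix (Fin 2) (Fin 2) F).trace =
      2 + ZMod.castHom (dvd_refl p) F k) :
    Nonempty (↥(Subgroup.closure ({x, y} : Set (Matrix.SpecialLinearGroup (Fin 2) F))) ≃*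
      Matrix.SpecialLinearGroup (Fin 2) (ZMod p)) := by
  have ht : ZMod.castHom (dvd_refl p) F k ≠ 0 := by
    intro h
    exact hk ((ZMod.castHom (dvd_refl p) F).injective (by rw [h, map_zero]))
  obtain ⟨C, b, hb, hCx, hCy⟩ := exists_conj_pair h2 x y hx hy _ ht hxy
  let ψ : Matrix.SpecialLinearGroup (Fin 2) (ZMod p) →* Matrix.SpecialLinearGroup (Fin 2) F :=
    (MulAut.conj C⁻¹).toMonoidHom.comp (twist (ZMod.castHom (dvd_refl p) F) b hb)
  have hψinj : Function.Injective ψ :=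
    (MulAut.conj C⁻¹).injective.comp (twist_injective _ b hb)
  have hψU : ψ (sl2U 1) = x := by
    show (MulAut.conj C⁻¹) (twist (ZMod.castHom (dvd_refl p) F) b hb (sl2U 1)) = x
    rw [twist_U, ← hCx, MulAut.conj_apply]; group
  have hψL : ψ (sl2L k) = y := by
    show (MulAut.conj C⁻¹) (twist (ZMod.castHom (dvd_refl p) F) b hb (sl2L k)) = y
    rw [twist_L, ← hCy, MulAut.conj_apply]; group
  have hgen : Subgroup.closure ({sl2U (1 : ZMod p), sl2L k} :
      Set (Matrix.SpecialLinearGroup (Fin 2) (ZMod p))) = ⊤ :=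
    closure_U_L_eq_top (fun y => ⟨y.val, (ZMod.natCast_zmod_val y).symm⟩) k hk
  have hrange : Subgroup.closure ({x, y} : Set (Matrix.SpecialLinearGroup (Fin 2) F)) = ψ.range := by
    rw [MonoidHom.range_eq_map, ← hgen, MonoidHom.map_closure]
    congr 1
    rw [Set.image_pair, hψU, hψL]
  exact ⟨(MulEquiv.subgroupCongr hrange).trans (MonoidHom.ofInjective hψinj).symm⟩

end Cfsg.Agent.Helper1.SL2Pair
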