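import Mathlib
import Cfsg.Agent.Helper23.Dk5
import Cfsg.Agent.Helper1.SL23Rec

/-!
Helper library (helper1): **Dickson's lemma in subgroup form**.  A subgroup of `SL₂(F)`
(`F` a finite field of odd characteristic `p`) with more than one Sylow `p`-subgroup contains a
subgroup isomorphic to `SL₂(p)`.  The class equation and the three cases are helper23's
(`Cfsg.Agent.Helper23.Dk`); here the three cases are redone with an embedded copy of `SL₂(p)`
instead of a section (the two `p = 3` cases through `Cfsg.Agent.Helper1.SL23Rec.main`).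
-/

set_option autoImplicit false
set_option linter.unusedSimpArgs false

namespace Cfsg.Agent.Helper1.Dickson

open Cfsg Cfsg.Agent.Helper12 Cfsg.Agent.Helper23.QP Cfsg.Agent.Helper23.Dk

/-- `SL₂(p)` embeds into the range of `ι`. -/
def Emb (p : ℕ) {L : Type*} [Field L] {Y : Type*} [Group Y]
    (ι : Y →* Matrix.SpecialLinearGroup (Fin 2) L) : Prop :=
  ∃ j : Matrix.SpecialLinearGroup (Fin 2) (ZMod p) →* Matrix.SpecialLinearGroup (Fin 2) L,
    Function.Injective j ∧ j.range ≤ ι.range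

theorem coprime_of_two_group {p : ℕ} [Fact p.Prime] (hp2 : p ≠ 2) {Y : Type*} [Group Y] [Finite Y]
    (R : Subgroup Y) (hR : IsPGroup 2 R) : (Nat.card R).Coprime p := by
  obtain ⟨k, hk⟩ := hR.exists_card_eq
  rw [hk]
  exact Nat.Coprime.pow_left k ((Nat.coprime_primes Nat.prime_two Fact.out).2 (Ne.symm hp2))

section K1

variable {L : Type*} [Field L] {p : ℕ} [Fact p.Prime] [CharP L p] {Y : Type*} [Group Y]
variable (ι : Y →* Matrix.SpecialLinearGroup (Fin 2) L) (hι : Function.Injective ι)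
variable {u₀ : Y} {s₀ : L} (hu : ι u₀ = sl2U s₀) (hs : s₀ ≠ 0)
include hι hu hs

/-- If there are exactly `q + 1` cosets of the upper triangular subgroup, then `SL₂(p)` embeds. -/
theorem emb_of_k1 [Finite Y] (hidx : (Bo ι).index = 1 + Nat.card (Pu ι)) :
    Emb p ι := by
  have hq1 : 1 ≤ Nat.card ↥(Pu ι) := Nat.card_pos
  obtain ⟨g, hg⟩ : ∃ g : Y, g ∉ Bo ι := by
    by_contra hcon
    push Not at hcon
    have h1 : Bo ι = ⊤ := by rw [eq_top_iff]; exact fun x _ => hcon x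
    rw [← Subgroup.index_eq_one] at h1
    omega
  rw [mem_Bo] at hg
  obtain ⟨ψ, hψ⟩ : ∃ ψ : Option ↥(Pu ι) → Y ⧸ Bo ι,
      ψ = fun o => o.elim ((1 : Y) : Y ⧸ Bo ι) (fun v => (((v : Y) * g : Y) : Y ⧸ Bo ι)) :=
    ⟨_, rfl⟩
  have hψi : Function.Injective ψ := by
    intro a b hab
    rw [hψ] at hab
    rcases a with _ | a <;> rcases b with _ | b
    · rfl
    · exfalso
      have h1 : ((1 : Y) : Y ⧸ Bo ι) = (((b : Y) * g : Y) : Y ⧸ Bo ι) := hab
      rw [QuotientGroup.eq, inv_one, one_mul] at h1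
      have h2 : g ∈ Bo ι := by
        have := (Bo ι).mul_mem ((Bo ι).inv_mem (Pu_le_Bo ι b.2)) h1
        rwa [inv_mul_cancel_left] at this
      exact hg h2
    · exfalso
      have h1 : (((a : Y) * g : Y) : Y ⧸ Bo ι) = ((1 : Y) : Y ⧸ Bo ι) := hab
      rw [eq_comm, QuotientGroup.eq, inv_one, one_mul] at h1
      have h2 : g ∈ Bo ι := by
        have := (Bo ι).mul_mem ((Bo ι).inv_mem (Pu_le_Bo ι a.2)) h1
        rwa [inv_mul_cancel_left] at this
      exact hg h2
    · have h1 : (((a : Y) * g : Y) : Y ⧸ Bo ι) = (((b : Y) * g : Y) : Y ⧸ Bo ι) := hab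
      rw [QuotientGroup.eq, mem_Bo] at h1
      have hw : (a : Y)⁻¹ * (b : Y) ∈ Pu ι := (Pu ι).mul_mem ((Pu ι).inv_mem a.2) b.2
      have h2 : ι (((a : Y) * g)⁻¹ * ((b : Y) * g)) =
          (ι g)⁻¹ * sl2U (e01 (ι ((a : Y)⁻¹ * (b : Y)))) * ι g := by
        rw [← Pu_eq_U ι hw, ← map_inv, ← map_mul, ← map_mul]
        congr 1
        group
      rw [h2, e10_conjU'] at h1
      rcases mul_eq_zero.1 h1 with h3 | h3
      · have h4 : e01 (ι ((a : Y)⁻¹ * (b : Y))) = 0 := neg_eq_zero.1 h3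
        have h5 : (a : Y)⁻¹ * (b : Y) = 1 := by
          apply hι
          rw [Pu_eq_U ι hw, h4, sl2U_zero, map_one]
        rw [inv_mul_eq_one] at h5
        rw [Subtype.ext h5]
      · exact absurd (pow_eq_zero_iff (two_ne_zero) |>.1 h3) hg
  have hψb : Function.Bijective ψ := by
    apply hψi.bijective_of_nat_card_le
    rw [Finite.card_option, ← Subgroup.index_eq_card, hidx]
    omega
  obtain ⟨o, ho⟩ := hψb.2 (((g * u₀ * g⁻¹ : Y)) : Y ⧸ Bo ι)
  have hu'B : e10 (ι (g * u₀ * g⁻¹)) ≠ 0 := by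
    rw [map_mul, map_mul, map_inv, hu, e10_conjU]
    exact mul_ne_zero (neg_ne_zero.2 hs) (pow_ne_zero 2 hg)
  rw [hψ] at ho
  rcases o with _ | v
  · exfalso
    have h1 : ((1 : Y) : Y ⧸ Bo ι) = ((g * u₀ * g⁻¹ : Y) : Y ⧸ Bo ι) := ho
    rw [QuotientGroup.eq, inv_one, one_mul] at h1
    exact hu'B h1
  · have h1 : (((v : Y) * g : Y) : Y ⧸ Bo ι) = ((g * u₀ * g⁻¹ : Y) : Y ⧸ Bo ι) := ho
    rw [eq_comm, QuotientGroup.eq, mem_Bo] at h1
    obtain ⟨x, hx⟩ : ∃ x : L, x = e01 (ι (v : Y)) := ⟨_, rfl⟩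
    have hv : ι (v : Y) = sl2U x := by rw [hx]; exact Pu_eq_U ι v.2
    obtain ⟨c, hc⟩ : ∃ c : L, c = e10 (ι g) := ⟨_, rfl⟩
    obtain ⟨a, ha⟩ : ∃ a : L, a = e00 (ι g) := ⟨_, rfl⟩
    rw [← hc] at hg
    have h2 : e10 (ι ((g * u₀ * g⁻¹)⁻¹ * ((v : Y) * g))) = c * (1 + s₀ * x * c ^ 2) := by
      rw [map_mul, map_inv, map_mul, map_mul, map_mul, map_inv, hu, hv, e10_mul, e10_inv,
        e11_inv, e10_conjU, e00_conjU, e00_mul, e10_mul, e00_U, e01_U, e10_U, e11_U, ← hc, ← ha]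
      ring
    rw [h2] at h1
    have h3 : 1 + s₀ * x * c ^ 2 = 0 := (mul_eq_zero.1 h1).resolve_left hg
    obtain ⟨r, hr⟩ : ∃ r : L, r = - s₀ * c ^ 2 := ⟨_, rfl⟩
    have hxr : x * r = 1 := by rw [hr]; linear_combination -h3
    obtain ⟨t, ht⟩ : ∃ t : L, t * c = a := ⟨a * c⁻¹, by rw [mul_assoc, inv_mul_cancel₀ hg, mul_one]⟩
    obtain ⟨j, hjdef⟩ : ∃ j : Matrix.SpecialLinearGroup (Fin 2) (ZMod p) →*
        Matrix.SpecialLinearGroup (Fin 2) L,
        j = (MulAut.conj (sl2U t)).toMonoidHom.comp ((twist x r hxr).comp (slmap p)) := ⟨_, rfl⟩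
    have hja : ∀ X, j X = sl2U t * twist x r hxr (slmap p X) * (sl2U t)⁻¹ := by
      intro X; rw [hjdef]; rfl
    have hj : Function.Injective j := by
      rw [hjdef]
      exact (MulAut.conj (sl2U t)).injective.comp ((twist_injective x r hxr).comp (slmap_injective p))
    have hjU : j (sl2U 1) = ι (v : Y) := by
      rw [hja, hv]
      have h4 : twist x r hxr (slmap p (sl2U 1)) = sl2U x := by
        rw [twist_apply]
        apply e_ext
        · rw [e00_mk, e00_slmap, e00_U, e00_U, map_one]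
        · rw [e01_mk, e01_slmap, e01_U, e01_U, map_one, one_mul]
        · rw [e10_mk, e10_slmap, e10_U, e10_U, map_zero, zero_mul]
        · rw [e11_mk, e11_slmap, e11_U, e11_U, map_one]
      rw [h4, mul_inv_eq_iff_eq_mul, sl2U_mul, sl2U_mul, add_comm]
    have hLdet : (1 : ZMod p) * 1 - 0 * 1 = 1 := by ring
    have hjL : j (sl2mk 1 0 1 1 hLdet) = ι (g * u₀ * g⁻¹) := by
      rw [hja, map_mul, map_mul, map_inv, hu]
      have h4 : twist x r hxr (slmap p (sl2mk 1 0 1 1 hLdet)) = sl2mk 1 0 r 1 (by ring) := by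
        rw [twist_apply]
        apply e_ext
        · rw [e00_mk, e00_slmap, e00_mk, e00_mk, map_one]
        · rw [e01_mk, e01_slmap, e01_mk, e01_mk, map_zero, zero_mul]
        · rw [e10_mk, e10_slmap, e10_mk, e10_mk, map_one, one_mul]
        · rw [e11_mk, e11_slmap, e11_mk, e11_mk, map_one]
      rw [h4]
      apply e_ext
      · rw [e00_conjU, ← hc, ← ha]
        simp only [e00_mul, e01_mul, e10_mul, e11_mul, e00_inv, e01_inv, e10_inv, e11_inv, e00_U,
          e01_U, e10_U, e11_U, e00_mk, e01_mk, e10_mk, e11_mk]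
        rw [hr]
        linear_combination (-s₀ * c) * ht
      · rw [e01_conjU, ← ha]
        simp only [e00_mul, e01_mul, e10_mul, e11_mul, e00_inv, e01_inv, e10_inv, e11_inv, e00_U,
          e01_U, e10_U, e11_U, e00_mk, e01_mk, e10_mk, e11_mk]
        rw [hr]
        linear_combination (s₀ * (t * c + a)) * ht
      · rw [e10_conjU, ← hc]
        simp only [e00_mul, e01_mul, e10_mul, e11_mul, e00_inv, e01_inv, e10_inv, e11_inv, e00_U,
          e01_U, e10_U, e11_U, e00_mk, e01_mk, e10_mk, e11_mk]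
        rw [hr]
        ring
      · rw [e11_conjU, ← hc, ← ha]
        simp only [e00_mul, e01_mul, e10_mul, e11_mul, e00_inv, e01_inv, e10_inv, e11_inv, e00_U,
          e01_U, e10_U, e11_U, e00_mk, e01_mk, e10_mk, e11_mk]
        rw [hr]
        linear_combination (s₀ * c) * ht
    have hU : ∀ y : ZMod p, j (sl2U y) ∈ ι.range := by
      intro y
      have h4 : (sl2U y : Matrix.SpecialLinearGroup (Fin 2) (ZMod p)) = sl2U 1 ^ y.val := by
        rw [sl2U_pow, mul_one, ZMod.natCast_zmod_val]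
      rw [h4, map_pow, hjU, ← map_pow]
      exact ⟨_, rfl⟩
    have htop : ι.range.comap j = ⊤ := by
      apply sl2_generate (sl2mk 1 0 1 1 hLdet) (by show (1 : ZMod p) ≠ 0; exact one_ne_zero)
      · intro y
        exact hU y
      · intro y
        rw [Subgroup.mem_comap, map_mul, map_mul, map_inv]
        have hL : j (sl2mk 1 0 1 1 hLdet) ∈ ι.range := by rw [hjL]; exact ⟨_, rfl⟩
        exact ι.range.mul_mem (ι.range.mul_mem hL (hU y)) (ι.range.inv_mem hL)
    refine ⟨j, hj, ?_⟩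
    rintro _ ⟨X, rfl⟩
    have : X ∈ ι.range.comap j := by rw [htop]; exact Subgroup.mem_top X
    exact this

end K1

section Final

variable {L : Type*} [Field L] [Fintype L] {p : ℕ} [Fact p.Prime] [CharP L p] {Y : Type*} [Group Y]
variable (ι : Y →* Matrix.SpecialLinearGroup (Fin 2) L) (hι : Function.Injective ι)
include hι

/-- A `p`-element normalizing but not centralizing a subgroup of order prime to `p` yields an
embedded `SL₂(p)` (and then `p = 3`). -/
theorem emb_of_config (hp2 : p ≠ 2) (y : Y) (hy : y ^ p = 1) (R : Subgroup Y)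
    (hR : (Nat.card R).Coprime p) (hRn : ∀ w ∈ R, y * w * y⁻¹ ∈ R) (u : Y) (hu : u ∈ R)
    (huy : y * u ≠ u * y) : Emb p ι := by
  obtain ⟨a, ha⟩ : ∃ a, a = ι y := ⟨_, rfl⟩
  obtain ⟨R', hR'⟩ : ∃ R', R' = R.map ι := ⟨_, rfl⟩
  have hap : a ^ p = 1 := by rw [ha, ← map_pow, hy, map_one]
  have haP : IsPGroup p (Subgroup.zpowers a) := by
    rintro ⟨z, hz⟩
    obtain ⟨k, rfl⟩ := Subgroup.mem_zpowers_iff.1 hz
    refine ⟨1, Subtype.ext ?_⟩
    show (a ^ k) ^ p ^ 1 = 1
    rw [pow_one, ← zpow_natCast, ← zpow_mul, mul_comm, zpow_mul, zpow_natCast, hap, one_zpow]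
  have hcard : (Nat.card R').Coprime p := by
    rw [hR', Subgroup.card_map_of_injective hι]; exact hR
  have hnorm : a ∈ Subgroup.normalizer (R' : Set (Matrix.SpecialLinearGroup (Fin 2) L)) := by
    apply Cfsg.Agent.Helper9.mem_normalizer_of_conj_le
    rw [hR', ha]
    rintro _ ⟨w, hw, rfl⟩
    exact ⟨y * w * y⁻¹, hRn w hw, by rw [map_mul, map_mul, map_inv]⟩
  have hnt : ⁅R', Subgroup.zpowers a⁆ ≠ ⊥ := by
    intro h
    rw [Subgroup.commutator_eq_bot_iff_le_centralizer] at h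
    have h1 := h (show ι u ∈ R' by rw [hR']; exact Subgroup.mem_map_of_mem ι hu)
    rw [Subgroup.mem_centralizer_iff] at h1
    have h2 := h1 a (Subgroup.mem_zpowers a)
    apply huy; apply hι; rw [map_mul, map_mul, ← ha]; exact h2
  obtain ⟨hp3, -, ⟨e⟩⟩ := Cfsg.Agent.Helper1.SL23Rec.main L hp2 a haP R' hcard hnorm hnt
  subst hp3
  refine ⟨(Subgroup.subtype _).comp e.symm.toMonoidHom, ?_, ?_⟩
  · exact (Subgroup.subtype_injective _).comp e.symm.injective
  · rintro _ ⟨X, rfl⟩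
    have hle : R' ⊔ Subgroup.zpowers a ≤ ι.range := by
      apply sup_le
      · rw [hR']; exact Subgroup.map_le_range ι R
      · rw [Subgroup.zpowers_le, ha]; exact ⟨y, rfl⟩
    exact hle (e.symm X).2

/-- The case `N(P) = C(P)` of a Sylow `p`-subgroup: Burnside's transfer theorem makes the group
`p`-solvable. -/
theorem emb_of_hb1 [Finite Y] {u₀ : Y} {s₀ : L} (hu : ι u₀ = sl2U s₀) (hs : s₀ ≠ 0) (hp2 : p ≠ 2)
    (hgen : Subgroup.closure {g : Y | g ^ p = 1} = ⊤) (hnp : ¬ IsPGroup p Y)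
    (hb : Nat.card (sqHom ι).range = 1) :
    Emb p ι := by
  have hp : p.Prime := Fact.out
  have hBC : Subgroup.centralizer ({u₀} : Set Y) = Bo ι := by
    apply Subgroup.eq_of_le_of_card_ge (cent_le_Bo ι hι hu hs)
    rw [card_Bo ι hι hu hs, hb, mul_one]
  obtain ⟨P, hPdef⟩ : ∃ P : Sylow p Y, P = PuSyl ι hι hu hs hp2 := ⟨_, rfl⟩
  have hPc : (P : Subgroup Y) = Pu ι := by rw [hPdef]; rfl
  have hP : Subgroup.normalizer ((P : Subgroup Y) : Set Y) ≤
      Subgroup.centralizer ((P : Subgroup Y) : Set Y) := by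
    intro g hgN
    rw [hPc] at hgN ⊢
    have h1 : g * u₀ * g⁻¹ ∈ Pu ι := (Subgroup.mem_normalizer_iff.1 hgN u₀).1 (u₀_mem_Pu ι hu)
    have h2 : e10 (ι g) = 0 := by
      have := h1.1
      rw [map_mul, map_mul, map_inv, hu, e10_conjU] at this
      rcases mul_eq_zero.1 this with h3 | h3
      · exact absurd (neg_eq_zero.1 h3) hs
      · exact pow_eq_zero_iff (two_ne_zero) |>.1 h3
    have h3 : g ∈ Subgroup.centralizer ({u₀} : Set Y) := by rw [hBC]; exact h2
    rw [Subgroup.mem_centralizer_singleton_iff] at h3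
    rw [Subgroup.mem_centralizer_iff]
    intro v hv
    have hvC := Pu_le_cent ι hι hu hs hv
    rw [Subgroup.mem_centralizer_singleton_iff] at hvC
    exact (ti ι hι).trans u₀ v g (u₀_not_mem_Zs ι hu hs) hvC h3
  have hc := MonoidHom.ker_transferSylow_isComplement' P hP
  obtain ⟨K, hK⟩ : ∃ K : Subgroup Y, K = (MonoidHom.transferSylow P hP).ker := ⟨_, rfl⟩
  have hKn : K.Normal := by rw [hK]; infer_instance
  rw [← hK] at hc
  have hcard := hc.card_mul_card
  have hPpos : 0 < Nat.card ↥(P : Subgroup Y) := Nat.card_pos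
  have hKpos : 0 < Nat.card ↥K := Nat.card_pos
  have h1 : Nat.card K = (P : Subgroup Y).index := by
    have h3 := Subgroup.card_mul_index (P : Subgroup Y)
    apply Nat.eq_of_mul_eq_mul_right hPpos
    rw [hcard, mul_comm, h3]
  have hcop : (Nat.card K).Coprime p := by
    rw [h1]
    exact ((Nat.Prime.coprime_iff_not_dvd hp).2 P.not_dvd_index).symm
  obtain ⟨m, hm⟩ := P.isPGroup'.exists_card_eq
  have hquot : Nat.card (Y ⧸ K) = p ^ m := by
    rw [← Subgroup.index_eq_card, ← hm]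
    have h3 := Subgroup.card_mul_index K
    apply Nat.eq_of_mul_eq_mul_left hKpos
    rw [h3, hcard]
  have hsol : IsPSolvable p Y :=
    Cfsg.Agent.Helper23.isPSolvable_of_bottom K (Or.inr hcop)
      (Cfsg.Agent.Helper10.isPSolvable_of_card_pow m hquot)
  obtain ⟨hp3, y, u, R, hR, hRn, huR, hy3, hu0, huq, huy⟩ :=
    psolv_config ι hι hp2 hsol hgen hnp
  exact emb_of_config ι hι hp2 y (by rw [hp3]; exact hy3) R (coprime_of_two_group hp2 R hR) hRn u huR
    huy

/-- The exceptional case of order `60 |Z|` in characteristic `3`. -/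
theorem emb_of_exc [Finite Y] (hp3 : p = 3)
    (hgen : Subgroup.closure {g : Y | g ^ p = 1} = ⊤)
    (hcard : Nat.card Y = 60 * Nat.card (Zs ι)) :
    Emb p ι := by
  subst hp3
  have hp2 : (3 : ℕ) ≠ 2 := by norm_num
  have h2 : (2 : L) ≠ 0 := two_ne_zero_of_char hp2
  have hti := ti ι hι
  have hZn : (Zs ι).Normal := by
    refine ⟨fun n hn g => ?_⟩
    have h1 : g * n * g⁻¹ = n := by
      rw [← hti.central n hn g, mul_inv_cancel_right]
    rw [h1]; exact hn
  have hZsq : ∀ c ∈ Zs ι, c ^ 2 = 1 := by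
    intro c hc
    apply hι
    rw [map_pow, map_one]
    rcases scalar_cases _ ((mem_Zs ι).1 hc) with h | h
    · rw [h, one_pow]
    · rw [h, pow_two, sl2NegOne_mul_self]
  have hZ2 : IsPGroup 2 (Zs ι) := by
    rintro ⟨c, hc⟩
    exact ⟨1, Subtype.ext (by show c ^ 2 ^ 1 = 1; rw [pow_one]; exact hZsq c hc)⟩
  obtain ⟨j, hj⟩ := hZ2.exists_card_eq
  have hnp : ¬ IsPGroup 3 Y := by
    intro h
    obtain ⟨n, hn⟩ := h.exists_card_eq
    rw [hcard] at hn
    have h5 : 5 ∣ 3 ^ n := by rw [← hn]; exact Dvd.dvd.mul_right (by norm_num) _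
    have := Nat.Prime.dvd_of_dvd_pow (by norm_num : Nat.Prime 5) h5
    omega
  obtain ⟨T⟩ : Nonempty (Sylow 2 Y) := inferInstance
  have hTnc : ¬ ∀ a ∈ (T : Subgroup Y), ∀ b ∈ (T : Subgroup Y), a * b = b * a :=
    fun h => hnp (isPGroup_of_sylow2_comm ι hι hp2 hgen T h)
  push Not at hTnc
  obtain ⟨a, haT, b, hbT, hab⟩ := hTnc
  have hZT : Zs ι ≤ (T : Subgroup Y) := by
    intro c hc
    apply mem_sylow_of_mem_normalizer T (k := 1) _ (by rw [pow_one]; exact hZsq c hc)
    rw [Subgroup.mem_normalizer_iff]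
    intro h
    have h1 : c * h * c⁻¹ = h := by
      rw [hti.central c hc h, mul_inv_cancel_right]
    rw [h1]
  obtain ⟨π, hπ⟩ : ∃ π : Y →* Y ⧸ Zs ι, π = QuotientGroup.mk' (Zs ι) := ⟨_, rfl⟩
  have hπs : Function.Surjective π := by rw [hπ]; exact QuotientGroup.mk'_surjective _
  have hπk : π.ker = Zs ι := by rw [hπ]; exact QuotientGroup.ker_mk' _
  have hπeq : ∀ x y : Y, π x = π y → x⁻¹ * y ∈ Zs ι := by
    intro x y hxy
    rw [hπ] at hxy
    exact QuotientGroup.eq.1 hxy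
  have hT2 : IsPGroup 2 ((T : Subgroup Y).map π) := T.isPGroup'.map π
  have hidx : ¬ 2 ∣ ((T : Subgroup Y).map π).index := by
    rw [Subgroup.index_map, hπk, sup_of_le_left hZT, MonoidHom.range_eq_top.2 hπs,
      Subgroup.index_top, mul_one]
    exact T.not_dvd_index
  obtain ⟨TS, hTS⟩ : ∃ TS : Sylow 2 (Y ⧸ Zs ι), (TS : Subgroup (Y ⧸ Zs ι)) = (T : Subgroup Y).map π :=
    ⟨hT2.toSylow hidx, IsPGroup.toSylow_coe hT2 hidx⟩
  -- the quotient has order 60
  have hq60 : Nat.card (Y ⧸ Zs ι) = 60 := by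
    rw [← Subgroup.index_eq_card]
    have h3 := Subgroup.card_mul_index (Zs ι)
    have hzpos : 0 < Nat.card ↥(Zs ι) := Nat.card_pos
    apply Nat.eq_of_mul_eq_mul_left hzpos
    rw [h3, hcard, mul_comm]
  have hcomm : ∀ x ∈ (T : Subgroup Y).map π, ∀ y ∈ (T : Subgroup Y).map π, x * y = y * x := by
    obtain ⟨e, he⟩ := hT2.exists_card_eq
    have hdvd : 2 ^ e ∣ 60 := by
      rw [← he, ← hq60]; exact Subgroup.card_subgroup_dvd_card _
    have he2 : e ≤ 2 := by
      by_contra hcon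
      have h8 : 2 ^ 3 ∣ 2 ^ e := pow_dvd_pow 2 (by omega)
      have := dvd_trans h8 hdvd
      omega
    have key : ∀ x y : ↥((T : Subgroup Y).map π), x * y = y * x := by
      interval_cases e
      · have hsub : Subsingleton ↥((T : Subgroup Y).map π) :=
          (Nat.card_eq_one_iff_unique.1 (by rw [he]; rfl)).1
        intro x y
        rw [Subsingleton.elim x y]
      · have hcyc : IsCyclic ↥((T : Subgroup Y).map π) :=
          isCyclic_of_prime_card (p := 2) (by rw [he]; rfl)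
        exact fun x y => IsCyclic.commGroup.mul_comm x y
      · exact IsPGroup.commutative_of_card_eq_prime_sq (p := 2) he
    intro x hx y hy
    exact congrArg Subtype.val (key ⟨x, hx⟩ ⟨y, hy⟩)
  have hgenQ : Subgroup.closure {g : Y ⧸ Zs ι | g ^ 3 = 1} = ⊤ := by
    have h1 : (Subgroup.closure {g : Y | g ^ 3 = 1}).map π = ⊤ := by
      rw [hgen]; exact Subgroup.map_top_of_surjective _ hπs
    rw [MonoidHom.map_closure] at h1
    rw [eq_top_iff, ← h1]
    apply Subgroup.closure_mono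
    rintro _ ⟨x, hx, rfl⟩
    show π x ^ 3 = 1
    have hx' : x ^ 3 = 1 := hx
    rw [← map_pow, hx', map_one]
  have hTne : (TS : Subgroup (Y ⧸ Zs ι)) ≠ ⊥ := by
    intro hbot
    rw [hTS] at hbot
    have hle : (T : Subgroup Y) ≤ Zs ι := by
      intro t ht
      have h1 : π t ∈ (T : Subgroup Y).map π := Subgroup.mem_map_of_mem π ht
      rw [hbot, Subgroup.mem_bot] at h1
      rw [← hπk]; exact h1
    exact hab (hti.central a (hle haT) b)
  have hN : ¬ Subgroup.normalizer ((TS : Subgroup (Y ⧸ Zs ι)) : Set (Y ⧸ Zs ι)) ≤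
      Subgroup.centralizer ((TS : Subgroup (Y ⧸ Zs ι)) : Set (Y ⧸ Zs ι)) :=
    fun h => hTne (sylow_eq_bot_of_transfer (p := 3) (r := 2) (by norm_num) hgenQ TS h)
  obtain ⟨gq, hgN, hgC⟩ := SetLike.not_le_iff_exists.1 hN
  obtain ⟨g, rfl⟩ := hπs gq
  rw [hTS] at hgN hgC
  have hgT : ∀ t ∈ (T : Subgroup Y), g * t * g⁻¹ ∈ (T : Subgroup Y) := by
    intro t ht
    have h1 : π (g * t * g⁻¹) ∈ (T : Subgroup Y).map π := by
      rw [map_mul, map_mul, map_inv]
      exact (Subgroup.mem_normalizer_iff.1 hgN (π t)).1 (Subgroup.mem_map_of_mem π ht)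
    obtain ⟨t', ht', hteq⟩ := h1
    have h3 := hZT (hπeq _ _ hteq)
    have h4 := (T : Subgroup Y).mul_mem ht' h3
    rwa [mul_inv_cancel_left] at h4
  have hgNT : g ∈ Subgroup.normalizer ((T : Subgroup Y) : Set Y) :=
    Cfsg.Agent.Helper9.mem_normalizer_of_conj_le (T : Subgroup Y) g hgT
  obtain ⟨g', hg'⟩ : ∃ g' : Y, g' = g ^ 2 ^ (j + 2) := ⟨_, rfl⟩
  have hg'15 : g' ^ 15 = 1 := by
    rw [hg', ← pow_mul]
    have h1 : 2 ^ (j + 2) * 15 = Nat.card Y := by rw [hcard, hj]; ring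
    rw [h1]; exact pow_card_eq_one'
  have hg'1 : g' ≠ 1 := by
    intro h
    rw [hg'] at h
    have hgT' := mem_sylow_of_mem_normalizer T hgNT h
    apply hgC
    rw [Subgroup.mem_centralizer_iff]
    intro x hx
    exact hcomm x hx (π g) (Subgroup.mem_map_of_mem π hgT')
  have hg'N : g' ∈ Subgroup.normalizer ((T : Subgroup Y) : Set Y) := by
    rw [hg']; exact Subgroup.pow_mem _ hgNT _
  have hnorm : ∀ y ∈ Subgroup.normalizer ((T : Subgroup Y) : Set Y),
      ∀ t ∈ (T : Subgroup Y), y * t * y⁻¹ ∈ (T : Subgroup Y) :=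
    fun y hy t ht => (Subgroup.mem_normalizer_iff.1 hy t).1 ht
  have hncent : ∀ y : Y, y ≠ 1 → ∀ m : ℕ, y ^ m = 1 → Odd m →
      ∃ u ∈ (T : Subgroup Y), y * u ≠ u * y := by
    intro y hy m hm hodd
    by_contra hcon
    push Not at hcon
    exact hab (comm_of_ns ι hι (ns_of_odd ι hι hy hm hodd) (hcon a haT) (hcon b hbT))
  have hodd15 : Odd 15 := by decide
  have hoo : Odd (orderOf g') := hodd15.of_dvd_nat (orderOf_dvd_of_pow_eq_one hg'15)
  obtain ⟨h3dvd, -⟩ := three_dvd_of_two_group ι hι hp2 (pow_orderOf_eq_one g') hoo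
    (T : Subgroup Y) T.isPGroup' (hnorm g' hg'N) (hncent g' hg'1 _ (pow_orderOf_eq_one g') hoo)
  obtain ⟨y, hy⟩ : ∃ y : Y, y = g' ^ 5 := ⟨_, rfl⟩
  have hy1 : y ≠ 1 := by
    intro h
    rw [hy] at h
    have := dvd_trans h3dvd (orderOf_dvd_of_pow_eq_one h)
    omega
  have hy3 : y ^ 3 = 1 := by rw [hy, ← pow_mul]; exact hg'15
  have hyN : y ∈ Subgroup.normalizer ((T : Subgroup Y) : Set Y) := by
    rw [hy]; exact Subgroup.pow_mem _ hg'N _
  have hodd3 : Odd 3 := by decide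
  obtain ⟨u, huT, huy⟩ := hncent y hy1 3 hy3 hodd3
  exact emb_of_config ι hι hp2 y hy3 (T : Subgroup Y)
    (coprime_of_two_group hp2 (T : Subgroup Y) T.isPGroup') (hnorm y hyN) u huT huy

/-- **Dickson's lemma (embedding form)**: a finite group embedded in `SL₂` over a finite field
of odd characteristic `p`, generated by elements of order dividing `p` and not a `p`-group,
contains an embedded copy of `SL₂(p)`. -/
theorem emb_main [Finite Y] (hp2 : p ≠ 2)
    (hgen : Subgroup.closure {g : Y | g ^ p = 1} = ⊤) (hnp : ¬ IsPGroup p Y) :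
    Emb p ι := by
  have h2 : (2 : L) ≠ 0 := two_ne_zero_of_char hp2
  obtain ⟨g₀, hg₀p, hg₀1⟩ : ∃ g : Y, g ^ p = 1 ∧ g ≠ 1 := by
    by_contra hcon
    push Not at hcon
    apply hnp
    have h1 : (⊤ : Subgroup Y) = ⊥ := by
      rw [← hgen, Subgroup.closure_eq_bot_iff]
      intro g hg
      exact hcon g hg
    intro y
    have hy : y ∈ (⊥ : Subgroup Y) := by rw [← h1]; exact Subgroup.mem_top y
    rw [Subgroup.mem_bot] at hy
    exact ⟨0, by rw [hy, one_pow]⟩
  have htr : trS (ι g₀) = 2 :=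
    trace_eq_two_of_pow p (ι g₀) 1 (by rw [pow_one, ← map_pow, hg₀p, map_one])
  have hne : ι g₀ ≠ 1 := fun h => hg₀1 (hι (by rw [h, map_one]))
  obtain ⟨s₀, hs, hconj⟩ := sl2_exists_conj_sl2U h2 (ι g₀) htr hne
  obtain ⟨c, hc⟩ := isConj_iff.1 hconj
  obtain ⟨ι', hι'⟩ : ∃ ι' : Y →* Matrix.SpecialLinearGroup (Fin 2) L,
      ι' = (MulAut.conj c).toMonoidHom.comp ι := ⟨_, rfl⟩
  have hι'inj : Function.Injective ι' := by
    rw [hι']; exact (MulAut.conj c).injective.comp hι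
  have hu : ι' g₀ = sl2U s₀ := by rw [hι']; exact hc
  obtain ⟨k, hk, hG, hcases⟩ := count_cases ι' hι'inj hu hs hp2 hgen hnp
  have key : Emb p ι' := by
    rcases hcases with hb | hk1 | ⟨hq, hk3, hb⟩
    · exact emb_of_hb1 ι' hι'inj hu hs hp2 hgen hnp hb
    · rw [hk1, one_mul] at hk
      exact emb_of_k1 ι' hι'inj hu hs hk
    · obtain ⟨-, m, hm⟩ := card_Pu_ge ι' hι'inj hu hs hp2
      have hp3 : p = 3 := by
        rw [hq] at hm
        have hdvd : p ∣ 3 := by
          rcases m with _ | m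
          · simp at hm
          · rw [hm]; exact dvd_pow_self p (Nat.succ_ne_zero m)
        exact (Nat.prime_dvd_prime_iff_eq Fact.out Nat.prime_three).1 hdvd
      apply emb_of_exc ι' hι'inj hp3 hgen
      rw [hG, hq, hb, hk, hk3, hq]
      ring
  obtain ⟨j, hj, hle⟩ := key
  refine ⟨(MulAut.conj c⁻¹).toMonoidHom.comp j, (MulAut.conj c⁻¹).injective.comp hj, ?_⟩
  rintro _ ⟨X, rfl⟩
  obtain ⟨y, hy⟩ := hle ⟨X, rfl⟩
  refine ⟨y, ?_⟩
  show ι y = c⁻¹ * j X * c⁻¹⁻¹
  rw [← hy, hι']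
  show ι y = c⁻¹ * (c * ι y * c⁻¹) * c⁻¹⁻¹
  group

end Final

/-- **Dickson's lemma (subgroup form)**: a subgroup of `SL₂(F)`, `F` a finite field of odd
characteristic `p`, with more than one Sylow `p`-subgroup contains a copy of `SL₂(p)`. -/
theorem exists_sl2p {F : Type*} [Field F] [Fintype F] (p : ℕ) [Fact p.Prime] [CharP F p]
    (hp : p ≠ 2) (H : Subgroup (Matrix.SpecialLinearGroup (Fin 2) F))
    (hH : 1 < Nat.card (Sylow p H)) :
    ∃ K : Subgroup (Matrix.SpecialLinearGroup (Fin 2) F), K ≤ H ∧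
      Nonempty (K ≃* Matrix.SpecialLinearGroup (Fin 2) (ZMod p)) := by
  classical
  have h2 : (2 : F) ≠ 0 := two_ne_zero_of_char hp
  obtain ⟨Y0, hY0⟩ : ∃ Y0 : Subgroup H, Y0 = Subgroup.closure {g : H | g ^ p = 1} := ⟨_, rfl⟩
  obtain ⟨ι, hιd⟩ : ∃ ι : ↥Y0 →* Matrix.SpecialLinearGroup (Fin 2) F,
      ι = H.subtype.comp Y0.subtype := ⟨_, rfl⟩
  have hι : Function.Injective ι := by
    rw [hιd]; exact (Subgroup.subtype_injective _).comp (Subgroup.subtype_injective _)
  have hgen : Subgroup.closure {g : ↥Y0 | g ^ p = 1} = ⊤ := by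
    have h1 := Subgroup.closure_closure_coe_preimage (k := {g : H | g ^ p = 1})
    subst hY0
    rw [eq_top_iff, ← h1]
    apply Subgroup.closure_mono
    intro g hg
    have hg' : (g : H) ^ p = 1 := hg
    show g ^ p = 1
    exact Subtype.ext (by rw [SubgroupClass.coe_pow, hg', OneMemClass.coe_one])
  have hnp : ¬ IsPGroup p ↥Y0 := by
    intro hY
    have hall : ∀ P : Sylow p H, (P : Subgroup H) = Y0 := by
      intro P
      have hle : (P : Subgroup H) ≤ Y0 := by
        intro g hg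
        obtain ⟨k, hk⟩ := P.isPGroup' ⟨g, hg⟩
        have hk' : g ^ p ^ k = 1 := by
          have := congrArg Subtype.val hk
          rwa [SubgroupClass.coe_pow, OneMemClass.coe_one] at this
        have hgp : g ^ p = 1 := by
          apply Subtype.ext
          rw [SubgroupClass.coe_pow, OneMemClass.coe_one]
          apply Cfsg.Agent.Helper1.SL2Nil.pow_char_eq_one p h2 (g : Matrix.SpecialLinearGroup (Fin 2) F) k
          rw [← SubgroupClass.coe_pow, hk', OneMemClass.coe_one]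
        rw [hY0]; exact Subgroup.subset_closure hgp
      exact (P.is_maximal' hY hle).symm
    have hsub : Subsingleton (Sylow p H) := ⟨fun P Q => Sylow.ext (by rw [hall P, hall Q])⟩
    have hone : Nat.card (Sylow p H) = 1 := Nat.card_eq_one_iff_unique.2 ⟨hsub, inferInstance⟩
    omega
  obtain ⟨j, hj, hle⟩ := emb_main ι hι hp hgen hnp
  refine ⟨j.range, ?_, ⟨(MonoidHom.ofInjective hj).symm⟩⟩
  intro x hx
  obtain ⟨y, hy⟩ := hle hx
  rw [← hy, hιd]
  exact (y : H).2

end Cfsg.Agent.Helper1.Dickson
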