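import Mathlib
import Cfsg.Prelude.Def_Transfer

set_option autoImplicit false
open scoped commutatorElement

namespace Cfsg.Agent.Helper1.ESE

universe u

section class2

variable {T : Type u} [Group T]

theorem comm_mem (hc : commutator T = Subgroup.center T) (a b : T) :
    ⁅a, b⁆ ∈ Subgroup.center T := by
  rw [← hc, commutator_def]
  exact Subgroup.commutator_mem_commutator (Subgroup.mem_top a) (Subgroup.mem_top b)

theorem comm_mul_right (hc : commutator T = Subgroup.center T) (a b b' : T) :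
    ⁅a, b * b'⁆ = ⁅a, b⁆ * ⁅a, b'⁆ := by
  have h := comm_mem hc a b'
  rw [Subgroup.mem_center_iff] at h
  have h1 := h b
  rw [commutatorElement_def] at h1
  rw [commutatorElement_def, commutatorElement_def, commutatorElement_def]
  calc a * (b * b') * a⁻¹ * (b * b')⁻¹
      = a * b * a⁻¹ * b⁻¹ * (b * (a * b' * a⁻¹ * b'⁻¹)) * b⁻¹ := by group
    _ = a * b * a⁻¹ * b⁻¹ * (a * b' * a⁻¹ * b'⁻¹ * b) * b⁻¹ := by rw [h1]
    _ = a * b * a⁻¹ * b⁻¹ * (a * b' * a⁻¹ * b'⁻¹) := by group

theorem comm_mul_left (hc : commutator T = Subgroup.center T) (a a' b : T) :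
    ⁅a * a', b⁆ = ⁅a, b⁆ * ⁅a', b⁆ := by
  have h := comm_mem hc a' b
  rw [Subgroup.mem_center_iff] at h
  have h1 := h a
  have h2 := h (a * b * a⁻¹ * b⁻¹)
  rw [commutatorElement_def] at h1 h2
  rw [commutatorElement_def, commutatorElement_def, commutatorElement_def]
  calc a * a' * b * (a * a')⁻¹ * b⁻¹
      = (a * (a' * b * a'⁻¹ * b⁻¹)) * b * a⁻¹ * b⁻¹ := by group
    _ = (a' * b * a'⁻¹ * b⁻¹ * a) * b * a⁻¹ * b⁻¹ := by rw [h1]
    _ = a' * b * a'⁻¹ * b⁻¹ * (a * b * a⁻¹ * b⁻¹) := by group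
    _ = a * b * a⁻¹ * b⁻¹ * (a' * b * a'⁻¹ * b⁻¹) := h2.symm

theorem comm_pow_left (hc : commutator T = Subgroup.center T) (a b : T) (n : ℕ) :
    ⁅a ^ n, b⁆ = ⁅a, b⁆ ^ n := by
  induction n with
  | zero => simp
  | succ k ih => rw [pow_succ, pow_succ, comm_mul_left hc, ih]

theorem pow_mem_center [Finite T] {p : ℕ} (hc : commutator T = Subgroup.center T)
    (hcard : Nat.card (Subgroup.center T) = p) (a : T) : a ^ p ∈ Subgroup.center T := by
  rw [Subgroup.mem_center_iff]
  intro g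
  have h1 : ⁅a ^ p, g⁆ = 1 := by
    rw [comm_pow_left hc]
    have h2 : (⟨⁅a, g⁆, comm_mem hc a g⟩ : ↥(Subgroup.center T)) ^ p = 1 := by
      rw [← hcard]; exact pow_card_eq_one'
    exact congrArg Subtype.val h2
  exact (commutatorElement_eq_one_iff_mul_comm.mp h1).symm

end class2

theorem mkB {p : ℕ} [Fact p.Prime] {V : Type u} [AddCommGroup V] [Module (ZMod p) V]
    (f : V → V → ZMod p) (h1 : ∀ u u' v, f (u + u') v = f u v + f u' v)
    (h2 : ∀ u v v', f u (v + v') = f u v + f u v') :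
    ∃ B : V →ₗ[ZMod p] V →ₗ[ZMod p] ZMod p, ∀ u v, B u v = f u v := by
  refine ⟨LinearMap.mk₂ (ZMod p) f h1 ?_ h2 ?_, fun u v => rfl⟩
  · intro c u v
    exact (AddMonoidHom.toZModLinearMap p
      (AddMonoidHom.mk' (fun u => f u v) (fun a b => h1 a b v))).map_smul c u
  · intro c u v
    exact (AddMonoidHom.toZModLinearMap p
      (AddMonoidHom.mk' (fun v => f u v) (fun a b => h2 u a b))).map_smul c v

theorem mkX {p : ℕ} [Fact p.Prime] {V : Type u} [AddCommGroup V] [Module (ZMod p) V]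
    (X X' : V → V) (hadd : ∀ u v, X (u + v) = X u + X v) (hadd' : ∀ u v, X' (u + v) = X' u + X' v)
    (h1 : ∀ v, X (X' v) = v) (h2 : ∀ v, X' (X v) = v) :
    ∃ x : V ≃ₗ[ZMod p] V, ∀ (k : ℕ) (v : V), (x ^ k) v = X^[k] v := by
  refine ⟨LinearEquiv.ofLinearMap (AddMonoidHom.toZModLinearMap p (AddMonoidHom.mk' X hadd))
    (AddMonoidHom.toZModLinearMap p (AddMonoidHom.mk' X' hadd'))
    (LinearMap.ext fun v => h1 v) (LinearMap.ext fun v => h2 v), ?_⟩
  intro k
  induction k with
  | zero => intro v; rfl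
  | succ k ih =>
    intro v
    rw [pow_succ, LinearEquiv.mul_apply, ih, Function.iterate_succ_apply]
    rfl

/-- The additive group of the abelianisation. -/
abbrev VV (T : Type u) [Group T] : Type u := Additive (Abelianization T)

theorem transl {G : Type u} [Group G] [Finite G] {p : ℕ} [Fact p.Prime] (P H : Subgroup G)
    (hP : Cfsg.IsExtraspecial p ↥P) (n : ℕ) (hn : Nat.card P = p ^ (2 * n + 1)) (hH : IsCyclic H)
    (hcop : (Nat.card H).Coprime p) (hHP : H ≤ Subgroup.normalizer (P : Set G))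
    (hfix : ∀ x ∈ H, x ≠ 1 → P ⊓ Subgroup.centralizer {x} = (Subgroup.center ↥P).map P.subtype) :
    ∃ (V : Type u) (_ : AddCommGroup V) (_ : Module (ZMod p) V) (_ : Finite V)
      (B : V →ₗ[ZMod p] V →ₗ[ZMod p] ZMod p) (x : V ≃ₗ[ZMod p] V),
      (∀ v, B v v = 0) ∧ (∀ u, (∀ v, B u v = 0) → u = 0) ∧ (∀ u v, B (x u) (x v) = B u v) ∧
      x ^ (Nat.card H) = 1 ∧ (∀ i, 0 < i → i < Nat.card H → ∀ v, (x ^ i) v = v → v = 0) ∧
      Nat.card V = p ^ (2 * n) := by
  classical
  have hpp : p.Prime := Fact.out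
  have hc : commutator ↥P = Subgroup.center ↥P := hP.1.2.2
  have hcard : Nat.card (Subgroup.center ↥P) = p := hP.2
  have hcyc : IsCyclic ↥(Subgroup.center ↥P) := isCyclic_of_prime_card hcard
  let θ : ↥(Subgroup.center ↥P) ≃* Multiplicative (ZMod p) :=
    (zmodCyclicMulEquiv hcyc).symm.trans
      (AddEquiv.toMultiplicative (ZMod.ringEquivCongr hcard).toAddEquiv)
  let c : ↥P → ↥P → Multiplicative (ZMod p) := fun a b => θ ⟨⁅a, b⁆, comm_mem hc a b⟩
  have c_mul_right : ∀ a b b' : ↥P, c a (b * b') = c a b * c a b' := by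
    intro a b b'
    show θ ⟨⁅a, b * b'⁆, _⟩ = θ ⟨⁅a, b⁆, _⟩ * θ ⟨⁅a, b'⁆, _⟩
    rw [← map_mul]
    congr 1
    apply Subtype.ext
    exact comm_mul_right hc a b b'
  have c_mul_left : ∀ a a' b : ↥P, c (a * a') b = c a b * c a' b := by
    intro a a' b
    show θ ⟨⁅a * a', b⁆, _⟩ = θ ⟨⁅a, b⁆, _⟩ * θ ⟨⁅a', b⁆, _⟩
    rw [← map_mul]
    congr 1
    apply Subtype.ext
    exact comm_mul_left hc a a' b
  have c_eq_one : ∀ a b : ↥P, c a b = 1 ↔ a * b = b * a := by
    intro a b
    show θ ⟨⁅a, b⁆, _⟩ = 1 ↔ _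
    rw [MulEquiv.map_eq_one_iff, ← commutatorElement_eq_one_iff_mul_comm]
    constructor
    · intro h; exact congrArg Subtype.val h
    · intro h; exact Subtype.ext h
  let cR : ↥P → (↥P →* Multiplicative (ZMod p)) := fun a =>
    MonoidHom.mk' (c a) (fun b b' => c_mul_right a b b')
  let cL : ↥P →* (Abelianization ↥P →* Multiplicative (ZMod p)) :=
    MonoidHom.mk' (fun a => Abelianization.lift (cR a)) (fun a a' => by
      apply Abelianization.hom_ext
      apply MonoidHom.ext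
      intro b
      simp only [MonoidHom.comp_apply, MonoidHom.mul_apply, Abelianization.lift_apply_of]
      exact c_mul_left a a' b)
  let Lm : Abelianization ↥P →* (Abelianization ↥P →* Multiplicative (ZMod p)) :=
    Abelianization.lift cL
  have hLm : ∀ a b : ↥P, Lm (Abelianization.of a) (Abelianization.of b) = c a b := by
    intro a b
    show (Abelianization.lift cL (Abelianization.of a)) (Abelianization.of b) = c a b
    rw [Abelianization.lift_apply_of]
    show (Abelianization.lift (cR a)) (Abelianization.of b) = c a b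
    rw [Abelianization.lift_apply_of]
    rfl
  have hsurj : ∀ w : Abelianization ↥P, ∃ a : ↥P, Abelianization.of a = w :=
    fun w => QuotientGroup.mk_surjective w
  have hof1 : ∀ a : ↥P, Abelianization.of a = 1 ↔ a ∈ Subgroup.center ↥P := by
    intro a
    rw [← hc, ← Abelianization.ker_of, MonoidHom.mem_ker]
  have hVsurj : ∀ v : (VV ↥P), ∃ a : ↥P, v = Additive.ofMul (Abelianization.of a) := by
    intro v
    obtain ⟨a, ha⟩ := hsurj (Additive.toMul v)
    exact ⟨a, by rw [ha]; rfl⟩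
  have hexp : ∀ v : (VV ↥P), p • v = 0 := by
    intro v
    obtain ⟨a, rfl⟩ := hVsurj v
    rw [← ofMul_pow, ← map_pow, (hof1 (a ^ p)).mpr (pow_mem_center hc hcard a)]
    rfl
  have modV : Module (ZMod p) (VV ↥P) := AddCommGroup.zmodModule hexp
  let f : (VV ↥P) → ((VV ↥P) →+ ZMod p) := fun u =>
    { toFun := fun v => Multiplicative.toAdd (Lm (Additive.toMul u) (Additive.toMul v))
      map_zero' := by
        show Multiplicative.toAdd (Lm (Additive.toMul u) 1) = 0
        rw [map_one]; rfl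
      map_add' := fun v v' => by
        show Multiplicative.toAdd (Lm (Additive.toMul u) (Additive.toMul v * Additive.toMul v'))
          = Multiplicative.toAdd (Lm (Additive.toMul u) (Additive.toMul v))
            + Multiplicative.toAdd (Lm (Additive.toMul u) (Additive.toMul v'))
        rw [map_mul]; rfl }
  have hf : ∀ a b : ↥P, f (Additive.ofMul (Abelianization.of a))
      (Additive.ofMul (Abelianization.of b)) = Multiplicative.toAdd (c a b) := by
    intro a b
    show Multiplicative.toAdd (Lm (Abelianization.of a) (Abelianization.of b)) = _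
    rw [hLm]
  have hfadd : ∀ u u' v : (VV ↥P), f (u + u') v = f u v + f u' v := by
    intro u u' v
    show Multiplicative.toAdd (Lm (Additive.toMul u * Additive.toMul u') (Additive.toMul v))
      = Multiplicative.toAdd (Lm (Additive.toMul u) (Additive.toMul v))
        + Multiplicative.toAdd (Lm (Additive.toMul u') (Additive.toMul v))
    rw [map_mul]; rfl
  obtain ⟨B, hBf⟩ := mkB (p := p) (V := VV ↥P) (fun u v => f u v) hfadd
    (fun u v v' => (f u).map_add v v')
  have hB : ∀ a b : ↥P, B (Additive.ofMul (Abelianization.of a))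
      (Additive.ofMul (Abelianization.of b)) = Multiplicative.toAdd (c a b) :=
    fun a b => (hBf _ _).trans (hf a b)
  have hB0 : ∀ a b : ↥P, B (Additive.ofMul (Abelianization.of a))
      (Additive.ofMul (Abelianization.of b)) = 0 ↔ a * b = b * a := by
    intro a b
    rw [hB, ← c_eq_one]
    exact Iff.rfl
  have hV0 : ∀ a : ↥P, (Additive.ofMul (Abelianization.of a) : (VV ↥P)) = 0 ↔
      a ∈ Subgroup.center ↥P := by
    intro a
    rw [← hof1]
    exact Iff.rfl
  have halt : ∀ v : (VV ↥P), B v v = 0 := by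
    intro v
    obtain ⟨a, rfl⟩ := hVsurj v
    exact (hB0 a a).mpr rfl
  have hnd : ∀ u : (VV ↥P), (∀ v, B u v = 0) → u = 0 := by
    intro u hu
    obtain ⟨a, rfl⟩ := hVsurj u
    rw [hV0, Subgroup.mem_center_iff]
    intro g
    exact ((hB0 a g).mp (hu _)).symm
  -- the conjugation action of the normaliser
  let conjHom : ↥(Subgroup.normalizer (P : Set G)) → (↥P →* ↥P) := fun g =>
    MonoidHom.mk' (fun a => ⟨(g : G) * a * (g : G)⁻¹,
      (Subgroup.mem_normalizer_iff.mp g.2 a).mp a.2⟩) (fun a b => by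
        apply Subtype.ext
        show (g : G) * ((a : G) * (b : G)) * (g : G)⁻¹
          = ((g : G) * a * (g : G)⁻¹) * ((g : G) * b * (g : G)⁻¹)
        group)
  have hconj : ∀ (g : ↥(Subgroup.normalizer (P : Set G))) (a : ↥P),
      ((conjHom g a : ↥P) : G) = (g : G) * a * (g : G)⁻¹ := fun g a => rfl
  let Ag : ↥(Subgroup.normalizer (P : Set G)) → ((VV ↥P) →+ (VV ↥P)) := fun g =>
    MonoidHom.toAdditive (Abelianization.map (conjHom g))
  have hX : ∀ (g : ↥(Subgroup.normalizer (P : Set G))) (a : ↥P),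
      Ag g (Additive.ofMul (Abelianization.of a))
        = Additive.ofMul (Abelianization.of (conjHom g a)) := by
    intro g a
    show Additive.ofMul (Abelianization.map (conjHom g) (Abelianization.of a)) = _
    rw [Abelianization.map_of]
  have hXmul : ∀ (g g' : ↥(Subgroup.normalizer (P : Set G))) (v : (VV ↥P)),
      Ag g (Ag g' v) = Ag (g * g') v := by
    intro g g' v
    obtain ⟨a, rfl⟩ := hVsurj v
    rw [hX, hX, hX]
    congr 2
    apply Subtype.ext
    rw [hconj, hconj, hconj]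
    show (g : G) * ((g' : G) * a * (g' : G)⁻¹) * (g : G)⁻¹
      = ((g : G) * (g' : G)) * a * ((g : G) * (g' : G))⁻¹
    group
  have hc1 : ∀ a : ↥P, conjHom 1 a = a := by
    intro a
    apply Subtype.ext
    rw [hconj]
    show (1 : G) * a * (1 : G)⁻¹ = a
    group
  have hX1 : ∀ v : (VV ↥P), Ag 1 v = v := by
    intro v
    obtain ⟨a, rfl⟩ := hVsurj v
    rw [hX, hc1]
  -- the generator
  obtain ⟨g₀, hg₀⟩ := hH.exists_generator
  have hord : orderOf g₀ = Nat.card H := orderOf_eq_card_of_forall_mem_zpowers hg₀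
  have hg₀m : (g₀ : G) ^ Nat.card H = 1 := by
    rw [← Subgroup.coe_pow, pow_card_eq_one']; rfl
  let gN : ↥(Subgroup.normalizer (P : Set G)) := ⟨(g₀ : G), hHP g₀.2⟩
  have hgNk : ∀ k : ℕ, ((gN ^ k : ↥(Subgroup.normalizer (P : Set G))) : G) = (g₀ : G) ^ k := by
    intro k
    rw [Subgroup.coe_pow]
  obtain ⟨x, hx⟩ := mkX (p := p) (V := VV ↥P) (Ag gN) (Ag gN⁻¹)
    (fun u v => map_add _ u v) (fun u v => map_add _ u v)
    (fun v => by rw [hXmul, mul_inv_cancel, hX1]) (fun v => by rw [hXmul, inv_mul_cancel, hX1])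
  have hiter : ∀ (k : ℕ) (v : VV ↥P), (Ag gN)^[k] v = Ag (gN ^ k) v := by
    intro k
    induction k with
    | zero => intro v; rw [pow_zero, hX1]; rfl
    | succ k ih => intro v; rw [Function.iterate_succ_apply, ih, hXmul, pow_succ]
  have hxk : ∀ (k : ℕ) (a : ↥P), (x ^ k) (Additive.ofMul (Abelianization.of a))
      = Additive.ofMul (Abelianization.of (conjHom (gN ^ k) a)) := by
    intro k a
    rw [hx, hiter, hX]
  -- H centralises Z(P)
  have hcentH : ∀ h ∈ H, ∀ z : ↥P, z ∈ Subgroup.center ↥P → h * (z : G) * h⁻¹ = (z : G) := by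
    intro h hh z hz
    by_cases h1 : h = 1
    · rw [h1]; group
    · have hz' : (z : G) ∈ P ⊓ Subgroup.centralizer {h} := by
        rw [hfix h hh h1]
        exact ⟨z, hz, rfl⟩
      have h2 := (Subgroup.mem_centralizer_iff.mp hz'.2) h (Set.mem_singleton h)
      rw [h2]; group
  have hinv : ∀ u v : VV ↥P, B (x u) (x v) = B u v := by
    intro u v
    obtain ⟨a, rfl⟩ := hVsurj u
    obtain ⟨b, rfl⟩ := hVsurj v
    have h1 := hxk 1 a
    have h2 := hxk 1 b
    rw [pow_one, pow_one] at h1 h2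
    rw [h1, h2, hB, hB]
    congr 1
    show θ ⟨⁅conjHom gN a, conjHom gN b⁆, _⟩ = θ ⟨⁅a, b⁆, _⟩
    congr 1
    apply Subtype.ext
    apply Subtype.ext
    have h3 : (g₀ : G) * ((a : G) * b * (a : G)⁻¹ * (b : G)⁻¹) * (g₀ : G)⁻¹
        = (a : G) * b * (a : G)⁻¹ * (b : G)⁻¹ :=
      hcentH (g₀ : G) g₀.2 ⁅a, b⁆ (comm_mem hc a b)
    show (g₀ : G) * a * (g₀ : G)⁻¹ * ((g₀ : G) * b * (g₀ : G)⁻¹) * ((g₀ : G) * a * (g₀ : G)⁻¹)⁻¹
        * ((g₀ : G) * b * (g₀ : G)⁻¹)⁻¹ = (a : G) * b * (a : G)⁻¹ * (b : G)⁻¹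
    calc (g₀ : G) * a * (g₀ : G)⁻¹ * ((g₀ : G) * b * (g₀ : G)⁻¹) * ((g₀ : G) * a * (g₀ : G)⁻¹)⁻¹
          * ((g₀ : G) * b * (g₀ : G)⁻¹)⁻¹
        = (g₀ : G) * ((a : G) * b * (a : G)⁻¹ * (b : G)⁻¹) * (g₀ : G)⁻¹ := by group
      _ = (a : G) * b * (a : G)⁻¹ * (b : G)⁻¹ := h3
  have hpow1 : x ^ Nat.card H = 1 := by
    apply LinearEquiv.ext
    intro v
    obtain ⟨a, rfl⟩ := hVsurj v
    rw [hxk]
    have hg1 : gN ^ Nat.card H = 1 := by
      apply Subtype.ext
      rw [hgNk, hg₀m]; rfl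
    rw [hg1, hc1]; rfl
  have hfpf : ∀ i, 0 < i → i < Nat.card H → ∀ v : VV ↥P, (x ^ i) v = v → v = 0 := by
    intro i hi0 hilt v hv
    obtain ⟨a, rfl⟩ := hVsurj v
    rw [hxk] at hv
    have hv' : Abelianization.of (conjHom (gN ^ i) a) = Abelianization.of a := hv
    obtain ⟨y, hy⟩ : ∃ y : G, y = (g₀ : G) ^ i := ⟨_, rfl⟩
    have hyH : y ∈ H := by rw [hy]; exact H.pow_mem g₀.2 i
    have hy1 : y ≠ 1 := by
      intro h
      have h' : g₀ ^ i = 1 := by
        apply Subtype.ext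
        rw [Subgroup.coe_pow, ← hy, h]; rfl
      exact (pow_ne_one_of_lt_orderOf hi0.ne' (by rw [hord]; exact hilt)) h'
    obtain ⟨ct, hctdef⟩ : ∃ ct : ↥P, ct = a⁻¹ * conjHom (gN ^ i) a := ⟨_, rfl⟩
    have hct : ct ∈ Subgroup.center ↥P := by
      rw [← hof1, hctdef, map_mul, hv', ← map_mul, inv_mul_cancel, map_one]
    have hya : y * (a : G) * y⁻¹ = (a : G) * (ct : G) := by
      have e1 : (ct : G) = (a : G)⁻¹ * (y * (a : G) * y⁻¹) := by
        rw [hctdef, Subgroup.coe_mul, Subgroup.coe_inv, hconj, hgNk, ← hy]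
      rw [e1]; group
    have key : ∀ k : ℕ, y ^ k * (a : G) * (y ^ k)⁻¹ = (a : G) * (ct : G) ^ k := by
      intro k
      induction k with
      | zero => simp
      | succ k ih =>
        have hck : y * (ct : G) ^ k * y⁻¹ = (ct : G) ^ k := by
          have h5 := hcentH y hyH (ct ^ k) (Subgroup.pow_mem _ hct k)
          rwa [Subgroup.coe_pow] at h5
        calc y ^ (k + 1) * (a : G) * (y ^ (k + 1))⁻¹
            = y * (y ^ k * (a : G) * (y ^ k)⁻¹) * y⁻¹ := by rw [pow_succ']; group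
          _ = y * ((a : G) * (ct : G) ^ k) * y⁻¹ := by rw [ih]
          _ = (y * (a : G) * y⁻¹) * (y * (ct : G) ^ k * y⁻¹) := by group
          _ = (a : G) * (ct : G) * (ct : G) ^ k := by rw [hya, hck]
          _ = (a : G) * (ct : G) ^ (k + 1) := by rw [pow_succ', mul_assoc]
    have hym : y ^ Nat.card H = 1 := by
      rw [hy, ← pow_mul, mul_comm, pow_mul, hg₀m, one_pow]
    have hctm : (ct : G) ^ Nat.card H = 1 := by
      have h5 := key (Nat.card H)
      rw [hym] at h5
      simpa using h5.symm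
    have hctp : ct ^ p = 1 := by
      have h2 : (⟨ct, hct⟩ : ↥(Subgroup.center ↥P)) ^ p = 1 := by
        rw [← hcard]; exact pow_card_eq_one'
      exact congrArg Subtype.val h2
    have hct1 : ct = 1 := by
      have h1 : ct ^ Nat.card H = 1 := by
        apply Subtype.ext
        rw [Subgroup.coe_pow, hctm]; rfl
      have hd := Nat.dvd_gcd (orderOf_dvd_of_pow_eq_one h1) (orderOf_dvd_of_pow_eq_one hctp)
      rw [show Nat.gcd (Nat.card H) p = 1 from hcop] at hd
      exact orderOf_eq_one_iff.mp (Nat.dvd_one.mp hd)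
    have hfixa : y * (a : G) * y⁻¹ = (a : G) := by
      rw [hya, hct1]; simp
    have hamem : (a : G) ∈ P ⊓ Subgroup.centralizer {y} := by
      refine ⟨a.2, ?_⟩
      show (a : G) ∈ Subgroup.centralizer {y}
      rw [Subgroup.mem_centralizer_iff]
      intro h hh
      rw [Set.mem_singleton_iff] at hh
      rw [hh]
      calc y * (a : G) = (y * (a : G) * y⁻¹) * y := by group
        _ = (a : G) * y := by rw [hfixa]
    rw [hfix y hyH hy1] at hamem
    obtain ⟨z, hz, hza⟩ := hamem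
    have hzeq : z = a := Subtype.ext hza
    rw [hV0, ← hzeq]; exact hz
  have hcardV : Nat.card (VV ↥P) = p ^ (2 * n) := by
    have h1 := Subgroup.card_eq_card_quotient_mul_card_subgroup (commutator ↥P)
    have h2 : Nat.card (commutator ↥P) = p := by rw [hc]; exact hcard
    rw [hn, h2, pow_succ] at h1
    have h3 : Nat.card (VV ↥P) = Nat.card (↥P ⧸ commutator ↥P) := rfl
    rw [h3]
    exact (Nat.eq_of_mul_eq_mul_right hpp.pos h1).symm
  exact ⟨VV ↥P, inferInstance, modV, inferInstance, B, x, halt, hnd, hinv, hpow1, hfpf, hcardV⟩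

end Cfsg.Agent.Helper1.ESE
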