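import Cfsg.Prelude.Def_Solvable
import Cfsg.Agent.S0001
import Mathlib

set_option autoImplicit false
open Pointwise

/-!
Helper library (helper1): counting for Frobenius complements (TI self-normalizing subgroups).
-/

namespace Cfsg.Agent.Helper1

theorem mem_conj_smul_iff {G : Type*} [Group G] (g x : G) (H : Subgroup G) :
    x ∈ MulAut.conj g • H ↔ g⁻¹ * x * g ∈ H :=
  Cfsg.Agent.S0001.conjTo_of_smul rfl x

theorem frob_elt {G : Type*} [Group G] (H : Subgroup G) (hH : Cfsg.IsFrobeniusComplement H) :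
    ∀ g : G, g ∉ H → ∀ x : G, x ∈ H → g⁻¹ * x * g ∈ H → x = 1 := by
  intro g hg x hx hx'
  have h1 : x ∈ H ⊓ MulAut.conj g • H :=
    Subgroup.mem_inf.mpr ⟨hx, (mem_conj_smul_iff g x H).mpr hx'⟩
  rw [hH.2.2 g hg, Subgroup.mem_bot] at h1
  exact h1

theorem frob_TI {G : Type*} [Group G] (H : Subgroup G) (hH : Cfsg.IsFrobeniusComplement H) :
    ∀ g g' x : G, x ≠ 1 → g⁻¹ * x * g ∈ H → g'⁻¹ * x * g' ∈ H → g⁻¹ * g' ∈ H := by
  intro g g' x hx h1 h2
  by_contra hw
  have h3 : (g⁻¹ * g')⁻¹ * (g⁻¹ * x * g) * (g⁻¹ * g') ∈ H := by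
    have e : (g⁻¹ * g')⁻¹ * (g⁻¹ * x * g) * (g⁻¹ * g') = g'⁻¹ * x * g' := by group
    rw [e]; exact h2
  have h4 := frob_elt H hH _ hw _ h1 h3
  apply hx
  have e2 : x = g * (g⁻¹ * x * g) * g⁻¹ := by group
  rw [e2, h4]; group

theorem not_mem_kernel_iff {G : Type*} [Group G] (H : Subgroup G) (x : G) :
    x ∉ Cfsg.frobeniusKernel H ↔ x ≠ 1 ∧ ∃ g : G, g⁻¹ * x * g ∈ H := by
  unfold Cfsg.frobeniusKernel
  rw [Set.mem_setOf_eq]
  push Not
  constructor
  · rintro ⟨h1, g, hg⟩
    exact ⟨h1, g, (mem_conj_smul_iff g x H).mp hg⟩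
  · rintro ⟨h1, g, hg⟩
    exact ⟨h1, g, (mem_conj_smul_iff g x H).mpr hg⟩

theorem card_ne_one_subtype {H : Type*} [Group H] [Finite H] :
    Nat.card {h : H // h ≠ 1} = Nat.card H - 1 := by
  classical
  haveI : Fintype H := Fintype.ofFinite _
  rw [Nat.card_eq_fintype_card, Nat.card_eq_fintype_card]
  exact (Fintype.card_subtype_compl (fun h : H => h = 1)).trans (by rw [Fintype.card_subtype_eq])

/-- the number of non-identity elements in the conjugates of a Frobenius complement -/
theorem card_compl_kernel {G : Type*} [Group G] [Finite G] (H : Subgroup G)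
    (hH : Cfsg.IsFrobeniusComplement H) :
    Nat.card {x : G // x ∉ Cfsg.frobeniusKernel H} = H.index * (Nat.card H - 1) := by
  classical
  have hTI := frob_TI H hH
  have hmem := not_mem_kernel_iff H
  let Ψ : (G ⧸ H) × {h : H // h ≠ 1} → {x : G // x ∉ Cfsg.frobeniusKernel H} := fun ch =>
    ⟨ch.1.out * (ch.2.1 : G) * ch.1.out⁻¹, (hmem _).mpr ⟨by
        intro h
        apply ch.2.2
        have : (ch.2.1 : G) = ch.1.out⁻¹ * (ch.1.out * (ch.2.1 : G) * ch.1.out⁻¹) * ch.1.out := by
          group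
        rw [h] at this
        exact Subtype.ext (by rw [this]; simp), ch.1.out, by
        have : ch.1.out⁻¹ * (ch.1.out * (ch.2.1 : G) * ch.1.out⁻¹) * ch.1.out = (ch.2.1 : G) := by
          group
        rw [this]; exact ch.2.1.2⟩⟩
  have hinj : Function.Injective Ψ := by
    rintro ⟨c, h⟩ ⟨c', h'⟩ heq
    have heq' : c.out * (h.1 : G) * c.out⁻¹ = c'.out * (h'.1 : G) * c'.out⁻¹ :=
      congrArg Subtype.val heq
    have hx1 : c.out * (h.1 : G) * c.out⁻¹ ≠ 1 := ((hmem _).mp (Ψ ⟨c, h⟩).2).1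
    have ha : c.out⁻¹ * (c.out * (h.1 : G) * c.out⁻¹) * c.out ∈ H := by
      have : c.out⁻¹ * (c.out * (h.1 : G) * c.out⁻¹) * c.out = (h.1 : G) := by group
      rw [this]; exact h.1.2
    have hb : c'.out⁻¹ * (c.out * (h.1 : G) * c.out⁻¹) * c'.out ∈ H := by
      rw [heq']
      have : c'.out⁻¹ * (c'.out * (h'.1 : G) * c'.out⁻¹) * c'.out = (h'.1 : G) := by group
      rw [this]; exact h'.1.2
    have hcc : c.out⁻¹ * c'.out ∈ H := hTI _ _ _ hx1 ha hb
    have hc : c = c' := by
      rw [← QuotientGroup.out_eq' c, ← QuotientGroup.out_eq' c']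
      exact QuotientGroup.eq.mpr hcc
    subst hc
    have hh : (h.1 : G) = (h'.1 : G) := by
      have := heq'
      simpa using this
    exact Prod.ext rfl (Subtype.ext (Subtype.ext hh))
  have hsurj : Function.Surjective Ψ := by
    rintro ⟨x, hx⟩
    obtain ⟨hx1, g, hg⟩ := (hmem x).mp hx
    obtain ⟨c, hc⟩ : ∃ c : G ⧸ H, c = QuotientGroup.mk g := ⟨_, rfl⟩
    have hk : g⁻¹ * c.out ∈ H := by
      rw [← QuotientGroup.eq, ← hc]; exact (QuotientGroup.out_eq' _).symm
    have hh : c.out⁻¹ * x * c.out ∈ H := by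
      have e : c.out⁻¹ * x * c.out = (g⁻¹ * c.out)⁻¹ * (g⁻¹ * x * g) * (g⁻¹ * c.out) := by group
      rw [e]
      exact H.mul_mem (H.mul_mem (H.inv_mem hk) hg) hk
    refine ⟨⟨c, ⟨⟨c.out⁻¹ * x * c.out, hh⟩, ?_⟩⟩, ?_⟩
    · intro h1
      have h2 : c.out⁻¹ * x * c.out = 1 := congrArg Subtype.val h1
      apply hx1
      have e2 : x = c.out * (c.out⁻¹ * x * c.out) * c.out⁻¹ := by group
      rw [e2, h2]; group
    · apply Subtype.ext
      show c.out * (c.out⁻¹ * x * c.out) * c.out⁻¹ = x
      group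
  rw [← Nat.card_congr (Equiv.ofBijective Ψ ⟨hinj, hsurj⟩), Nat.card_prod, Subgroup.index_eq_card,
    card_ne_one_subtype]

theorem card_kernel_add {G : Type*} [Group G] [Finite G] (H : Subgroup G) :
    Nat.card (Cfsg.frobeniusKernel H) + Nat.card {x : G // x ∉ Cfsg.frobeniusKernel H} =
      Nat.card G := by
  classical
  rw [← Nat.card_sum]
  exact Nat.card_congr (Equiv.Set.sumCompl (Cfsg.frobeniusKernel H))

theorem card_kernel {G : Type*} [Group G] [Finite G] (H : Subgroup G)
    (hH : Cfsg.IsFrobeniusComplement H) :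
    Nat.card (Cfsg.frobeniusKernel H) = H.index := by
  have h1 := card_kernel_add H
  rw [card_compl_kernel H hH, ← H.index_mul_card] at h1
  have hpos : 0 < Nat.card H := Nat.card_pos
  have h2 : H.index * (Nat.card H - 1) + H.index = H.index * Nat.card H := by
    rw [← Nat.mul_succ]; congr 1; omega
  generalize H.index * (Nat.card H - 1) = X at h1 h2
  generalize H.index * Nat.card H = Y at h1 h2
  omega

theorem frob_index_mod {G : Type*} [Group G] [Finite G] (H : Subgroup G)
    (hH : Cfsg.IsFrobeniusComplement H) : H.index % Nat.card H = 1 % Nat.card H := by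
  classical
  haveI : Fintype H := Fintype.ofFinite _
  haveI : Fintype (G ⧸ H) := Fintype.ofFinite _
  haveI : ∀ a : H, Fintype (MulAction.fixedBy (G ⧸ H) a) := fun a => Fintype.ofFinite _
  haveI : Fintype (Quotient (MulAction.orbitRel H (G ⧸ H))) := Fintype.ofFinite _
  have hB := MulAction.sum_card_fixedBy_eq_card_orbits_mul_card_group H (G ⧸ H)
  have h1 : Fintype.card (MulAction.fixedBy (G ⧸ H) (1 : H)) = H.index := by
    rw [Subgroup.index_eq_card, Nat.card_eq_fintype_card]
    apply Fintype.card_of_bijective (f := fun x : MulAction.fixedBy (G ⧸ H) (1 : H) => x.1)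
    constructor
    · exact Subtype.val_injective
    · intro c; exact ⟨⟨c, by simp [MulAction.mem_fixedBy]⟩, rfl⟩
  have h2 : ∀ a : H, a ≠ 1 → Fintype.card (MulAction.fixedBy (G ⧸ H) a) = 1 := by
    intro a ha
    rw [Fintype.card_eq_one_iff]
    refine ⟨⟨((1 : G) : G ⧸ H), ?_⟩, ?_⟩
    · rw [MulAction.mem_fixedBy]
      show (((a : G) * 1 : G) : G ⧸ H) = ((1 : G) : G ⧸ H)
      rw [QuotientGroup.eq]
      simp
    · rintro ⟨c, hc⟩
      apply Subtype.ext
      show c = ((1 : G) : G ⧸ H)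
      induction c using QuotientGroup.induction_on with
      | H g =>
        rw [MulAction.mem_fixedBy] at hc
        have hc' : (((a : G) * g : G) : G ⧸ H) = (g : G ⧸ H) := hc
        rw [QuotientGroup.eq] at hc'
        have h3 : g⁻¹ * (a : G) * g ∈ H := by
          have h4 := H.inv_mem hc'
          have e : (((a : G) * g)⁻¹ * g)⁻¹ = g⁻¹ * (a : G) * g := by group
          rw [e] at h4; exact h4
        rw [QuotientGroup.eq]
        by_contra hg
        have hg' : g ∉ H := by
          intro hgH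
          apply hg
          have := H.inv_mem hgH
          simpa using this
        have := frob_elt H hH g hg' a a.2 h3
        exact ha (Subtype.ext this)
  have hsum : ∑ a : H, Fintype.card (MulAction.fixedBy (G ⧸ H) a) =
      H.index + (Nat.card H - 1) := by
    rw [← Finset.add_sum_erase Finset.univ _ (Finset.mem_univ (1 : H)), h1]
    congr 1
    rw [Finset.sum_congr rfl (fun x hx => h2 x (Finset.ne_of_mem_erase hx))]
    rw [Finset.sum_const, Finset.card_erase_of_mem (Finset.mem_univ _), Finset.card_univ,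
      Nat.card_eq_fintype_card]
    simp
  rw [hsum, ← Nat.card_eq_fintype_card (α := H)] at hB
  have hpos : 0 < Nat.card H := Nat.card_pos
  generalize Fintype.card (Quotient (MulAction.orbitRel H (G ⧸ H))) = k at hB
  generalize Nat.card H = c at hB hpos
  generalize H.index = n at hB
  have h5 : n + c = k * c + 1 := by omega
  have h6 : (n + c) % c = (k * c + 1) % c := by rw [h5]
  rw [Nat.add_mod_right] at h6
  rw [h6, add_comm, Nat.add_mul_mod_self_right]

end Cfsg.Agent.Helper1
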