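import Mathlib
import Cfsg.Agent.Helper1.Dickson
import Cfsg.Agent.Helper1.Cert120

/-!
Helper library (helper1): the subgroup of `SL₂(F)` generated by the lower unitriangular matrix
with entry `1` and the upper unitriangular matrix with entry `λ` (Dickson's generation theorem),
on top of helper23's class equation for subgroups of `SL₂`.
-/

set_option autoImplicit false
set_option linter.unusedSimpArgs false

namespace Cfsg.Agent.Helper1.Gen801

open Cfsg Cfsg.Agent.Helper12 Cfsg.Agent.Helper23.QP Cfsg.Agent.Helper23.Dk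

section K1

variable {L : Type*} [Field L] {p : ℕ} [Fact p.Prime] [CharP L p] {Y : Type*} [Group Y]
variable (ι : Y →* Matrix.SpecialLinearGroup (Fin 2) L) (hι : Function.Injective ι)
include hι

/-- If there are exactly `q + 1` cosets of the upper triangular subgroup, then every element
outside it lies in `Pu g Bo` for any fixed `g` outside it. -/
theorem bruhat_of_k1 [Finite Y] (hidx : (Bo ι).index = 1 + Nat.card (Pu ι)) (g : Y)
    (hg : e10 (ι g) ≠ 0) (h : Y) (hh : e10 (ι h) ≠ 0) :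
    ∃ v ∈ Pu ι, (v * g)⁻¹ * h ∈ Bo ι := by
  have hq1 : 1 ≤ Nat.card ↥(Pu ι) := Nat.card_pos
  obtain ⟨ψ, hψ⟩ : ∃ ψ : Option ↥(Pu ι) → Y ⧸ Bo ι,
      ψ = fun o => o.elim ((1 : Y) : Y ⧸ Bo ι) (fun v => (((v : Y) * g : Y) : Y ⧸ Bo ι)) :=
    ⟨_, rfl⟩
  have hψi : Function.Injective ψ := by
    intro a b hab
    rw [hψ] at hab
    rcases a with _ | a <;> rcases b with _ | b
    · rfl
    · exfalso
      have h1 : ((1 : Y) : Y ⧸ Bo ι) = (((b : Y) * g : Y) : Y ⧸ Bo ι) := hab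
      rw [QuotientGroup.eq, inv_one, one_mul] at h1
      have h2 : g ∈ Bo ι := by
        have := (Bo ι).mul_mem ((Bo ι).inv_mem (Pu_le_Bo ι b.2)) h1
        rwa [inv_mul_cancel_left] at this
      exact hg h2
    · exfalso
      have h1 : (((a : Y) * g : Y) : Y ⧸ Bo ι) = ((1 : Y) : Y ⧸ Bo ι) := hab
      rw [eq_comm, QuotientGroup.eq, inv_one, one_mul] at h1
      have h2 : g ∈ Bo ι := by
        have := (Bo ι).mul_mem ((Bo ι).inv_mem (Pu_le_Bo ι a.2)) h1
        rwa [inv_mul_cancel_left] at this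
      exact hg h2
    · have h1 : (((a : Y) * g : Y) : Y ⧸ Bo ι) = (((b : Y) * g : Y) : Y ⧸ Bo ι) := hab
      rw [QuotientGroup.eq, mem_Bo] at h1
      have hw : (a : Y)⁻¹ * (b : Y) ∈ Pu ι := (Pu ι).mul_mem ((Pu ι).inv_mem a.2) b.2
      have h2 : ι (((a : Y) * g)⁻¹ * ((b : Y) * g)) =
          (ι g)⁻¹ * sl2U (e01 (ι ((a : Y)⁻¹ * (b : Y)))) * ι g := by
        rw [← Pu_eq_U ι hw, ← map_inv, ← map_mul, ← map_mul]
        congr 1
        group
      rw [h2, e10_conjU'] at h1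
      rcases mul_eq_zero.1 h1 with h3 | h3
      · have h4 : e01 (ι ((a : Y)⁻¹ * (b : Y))) = 0 := neg_eq_zero.1 h3
        have h5 : (a : Y)⁻¹ * (b : Y) = 1 := by
          apply hι
          rw [Pu_eq_U ι hw, h4, sl2U_zero, map_one]
        rw [inv_mul_eq_one] at h5
        rw [Subtype.ext h5]
      · exact absurd (pow_eq_zero_iff (two_ne_zero) |>.1 h3) hg
  have hψb : Function.Bijective ψ := by
    apply hψi.bijective_of_nat_card_le
    rw [Finite.card_option, ← Subgroup.index_eq_card, hidx]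
    omega
  obtain ⟨o, ho⟩ := hψb.2 ((h : Y) : Y ⧸ Bo ι)
  rw [hψ] at ho
  rcases o with _ | v
  · exfalso
    have h1 : ((1 : Y) : Y ⧸ Bo ι) = ((h : Y) : Y ⧸ Bo ι) := ho
    rw [QuotientGroup.eq, inv_one, one_mul] at h1
    exact hh h1
  · have h1 : (((v : Y) * g : Y) : Y ⧸ Bo ι) = ((h : Y) : Y ⧸ Bo ι) := ho
    rw [QuotientGroup.eq] at h1
    exact ⟨v, v.2, h1⟩

end K1

section Top

variable {F : Type*} [Field F] {p : ℕ} [Fact p.Prime] [CharP F p]

/-- The case of `q + 1` Sylow `p`-subgroups: the group is everything. -/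
theorem top_of_k1 (hp2 : p ≠ 2) (G : Subgroup (Matrix.SpecialLinearGroup (Fin 2) F)) [Finite G]
    (lam : F) (hlam : lam ≠ 0) (hgenF : Subfield.closure ({lam} : Set F) = ⊤)
    (hX : sl2mk (1 : F) 0 1 1 (by ring) ∈ G) (hY : sl2U lam ∈ G)
    (hidx : (Bo G.subtype).index = 1 + Nat.card (Pu G.subtype)) : G = ⊤ := by
  have h2 : (2 : F) ≠ 0 := two_ne_zero_of_char hp2
  obtain ⟨X, hXd⟩ : ∃ X : Matrix.SpecialLinearGroup (Fin 2) F, X = sl2mk (1 : F) 0 1 1 (by ring) :=
    ⟨_, rfl⟩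
  rw [← hXd] at hX
  have hX10 : e10 X = 1 := by rw [hXd, e10_mk]
  have hX00 : e00 X = 1 := by rw [hXd, e00_mk]
  have hX01 : e01 X = 0 := by rw [hXd, e01_mk]
  have hX11 : e11 X = 1 := by rw [hXd, e11_mk]
  -- the key consequence of the Bruhat decomposition
  have key : ∀ h ∈ G, e10 h ≠ 0 → sl2U (e00 h / e10 h - 1) ∈ G := by
    intro h hh hc
    obtain ⟨v, hv, hb⟩ := bruhat_of_k1 G.subtype (Subgroup.subtype_injective G) hidx
      ⟨X, hX⟩ (by show e10 X ≠ 0; rw [hX10]; exact one_ne_zero) ⟨h, hh⟩ hc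
    have hvU := Pu_eq_U G.subtype hv
    obtain ⟨t, ht⟩ : ∃ t : F, t = e01 (G.subtype v) := ⟨_, rfl⟩
    rw [← ht] at hvU
    have hb' : e10 ((sl2U t * X)⁻¹ * h) = 0 := by
      have h1 : e10 (G.subtype ((v * ⟨X, hX⟩)⁻¹ * ⟨h, hh⟩)) = 0 := hb
      rw [map_mul, map_inv, map_mul, hvU] at h1
      exact h1
    rw [e10_mul, e10_inv, e11_inv, e10_mul, e00_mul, e00_U, e01_U, e10_U, e11_U, hX00, hX10] at hb'
    have hteq : e00 h / e10 h - 1 = t := by
      field_simp
      linear_combination -hb'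
    rw [hteq, ← hvU]
    exact v.2
  have hA0 : sl2U (0 : F) ∈ G := by rw [sl2U_zero]; exact G.one_mem
  have hAadd : ∀ a b : F, sl2U a ∈ G → sl2U b ∈ G → sl2U (a + b) ∈ G := by
    intro a b ha hb
    rw [← sl2U_mul]; exact G.mul_mem ha hb
  have hAneg : ∀ a : F, sl2U a ∈ G → sl2U (-a) ∈ G := by
    intro a ha
    rw [← Cfsg.Agent.Helper1.SL2Nil.sl2U_inv]; exact G.inv_mem ha
  have hAnat : ∀ (n : ℕ) (a : F), sl2U a ∈ G → sl2U ((n : F) * a) ∈ G := by
    intro n a ha
    rw [← sl2U_pow]; exact G.pow_mem ha n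
  have hAhalf : ∀ a : F, sl2U a ∈ G → sl2U (a / 2) ∈ G := by
    intro a ha
    have h1 := hAnat ((p + 1) / 2) a ha
    have hodd : p % 2 = 1 := ((Fact.out : p.Prime).eq_two_or_odd).resolve_left hp2
    have h3 : ((p + 1) / 2) * 2 = p + 1 := by omega
    have h4 : (((p + 1) / 2 : ℕ) : F) * 2 = 1 := by
      have h5 := congrArg (Nat.cast : ℕ → F) h3
      rw [Nat.cast_mul, Nat.cast_add, CharP.cast_eq_zero F p, Nat.cast_ofNat, Nat.cast_one,
        zero_add] at h5
      exact h5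
    have h6 : (((p + 1) / 2 : ℕ) : F) * a = a / 2 := by
      field_simp
      linear_combination a * h4
    rw [h6] at h1
    exact h1
  have hXinv : X⁻¹ ∈ G := G.inv_mem hX
  have hm2 : sl2U (-2 : F) ∈ G := by
    have h1 := key X⁻¹ hXinv (by rw [e10_inv, hX10]; exact neg_ne_zero.2 one_ne_zero)
    rw [e00_inv, e10_inv, hX11, hX10] at h1
    have h3 : (1 : F) / -1 - 1 = -2 := by norm_num
    rw [h3] at h1
    exact h1
  have h1A : sl2U (1 : F) ∈ G := by
    have h1 := hAneg _ (hAhalf _ hm2)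
    have h3 : -((-2 : F) / 2) = 1 := by rw [neg_div, neg_neg, div_self h2]
    rw [h3] at h1
    exact h1
  obtain ⟨w0, hw0⟩ : ∃ w0 : Matrix.SpecialLinearGroup (Fin 2) F, w0 = sl2U 1 * X⁻¹ * sl2U 1 :=
    ⟨_, rfl⟩
  have hw0G : w0 ∈ G := by rw [hw0]; exact G.mul_mem (G.mul_mem h1A hXinv) h1A
  have hAinv : ∀ a : F, a ≠ 0 → sl2U a ∈ G → sl2U (a⁻¹) ∈ G := by
    intro a ha0 ha
    have hh : w0 * sl2U a * w0 ∈ G := G.mul_mem (G.mul_mem hw0G ha) hw0G
    have he00 : e00 (w0 * sl2U a * w0) = -1 := by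
      rw [hw0]
      simp only [e00_mul, e01_mul, e10_mul, e11_mul, e00_inv, e01_inv, e10_inv, e11_inv, e00_U,
        e01_U, e10_U, e11_U, hX00, hX01, hX10, hX11]
      ring
    have he10 : e10 (w0 * sl2U a * w0) = a := by
      rw [hw0]
      simp only [e00_mul, e01_mul, e10_mul, e11_mul, e00_inv, e01_inv, e10_inv, e11_inv, e00_U,
        e01_U, e10_U, e11_U, hX00, hX01, hX10, hX11]
      ring
    have h1 := key _ hh (by rw [he10]; exact ha0)
    rw [he00, he10] at h1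
    have h3 := hAneg _ (hAadd _ _ h1 h1A)
    have h4 : -((-1 : F) / a - 1 + 1) = a⁻¹ := by
      rw [sub_add_cancel, neg_div, neg_neg, one_div]
    rw [h4] at h3
    exact h3
  have hAsq : ∀ a : F, sl2U a ∈ G → sl2U (a * a) ∈ G := by
    intro a ha
    by_cases ha0 : a = 0
    · rw [ha0, mul_zero]; exact hA0
    by_cases ha1 : a = 1
    · rw [ha1, mul_one]; exact h1A
    have ha1' : a - 1 ≠ 0 := sub_ne_zero.2 ha1
    have h1 : sl2U ((a - 1)⁻¹) ∈ G := by
      apply hAinv _ ha1'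
      have h3 := hAadd _ _ ha (hAneg _ h1A)
      rw [← sub_eq_add_neg] at h3
      exact h3
    have h3 : sl2U (a⁻¹) ∈ G := hAinv _ ha0 ha
    have h4 : sl2U ((a - 1)⁻¹ - a⁻¹) ∈ G := by
      have h5 := hAadd _ _ h1 (hAneg _ h3)
      rw [← sub_eq_add_neg] at h5
      exact h5
    have hd : (a - 1)⁻¹ - a⁻¹ = (a * a - a)⁻¹ := by
      have h5 : a * a - a ≠ 0 := by
        have : a * a - a = a * (a - 1) := by ring
        rw [this]; exact mul_ne_zero ha0 ha1'
      field_simp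
      ring
    have hne : (a - 1)⁻¹ - a⁻¹ ≠ 0 := by
      rw [hd]
      apply inv_ne_zero
      have : a * a - a = a * (a - 1) := by ring
      rw [this]; exact mul_ne_zero ha0 ha1'
    have h5 := hAinv _ hne h4
    rw [hd, inv_inv] at h5
    have h6 := hAadd _ _ h5 ha
    rw [sub_add_cancel] at h6
    exact h6
  have hAmul : ∀ a b : F, sl2U a ∈ G → sl2U b ∈ G → sl2U (a * b) ∈ G := by
    intro a b ha hb
    have h1 := hAsq _ (hAadd _ _ ha hb)
    have h3 := hAadd _ _ (hAadd _ _ h1 (hAneg _ (hAsq _ ha))) (hAneg _ (hAsq _ hb))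
    have h4 := hAhalf _ h3
    have h5 : ((a + b) * (a + b) + -(a * a) + -(b * b)) / 2 = a * b := by
      field_simp
      ring
    rw [h5] at h4
    exact h4
  have hall : ∀ t : F, sl2U t ∈ G := by
    obtain ⟨K, hK⟩ : ∃ K : Subfield F, ∀ t : F, t ∈ K ↔ sl2U t ∈ G := by
      refine ⟨{ carrier := {t | sl2U t ∈ G}
                mul_mem' := fun {a b} ha hb => hAmul a b ha hb
                one_mem' := h1A
                add_mem' := fun {a b} ha hb => hAadd a b ha hb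
                zero_mem' := hA0
                neg_mem' := fun {a} ha => hAneg a ha
                inv_mem' := ?_ }, fun t => Iff.rfl⟩
      intro a ha
      by_cases ha0 : a = 0
      · rw [ha0, inv_zero]; exact hA0
      · exact hAinv a ha0 ha
    intro t
    rw [← hK]
    have hle : Subfield.closure ({lam} : Set F) ≤ K := by
      rw [Subfield.closure_le]
      intro x hx
      rw [Set.mem_singleton_iff] at hx
      rw [hx]
      exact (hK lam).2 hY
    rw [hgenF] at hle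
    exact hle (Subfield.mem_top t)
  exact sl2_generate X (by show e10 X ≠ 0; rw [hX10]; exact one_ne_zero) G hall
    (fun y => G.mul_mem (G.mul_mem hX (hall y)) hXinv)

end Top

section Solv

variable {L : Type*} [Field L] [Fintype L] {p : ℕ} [Fact p.Prime] [CharP L p] {Y : Type*} [Group Y]
variable (ι : Y →* Matrix.SpecialLinearGroup (Fin 2) L) (hι : Function.Injective ι)
include hι

/-- A `p`-element normalizing but not centralizing a subgroup of order prime to `p`: then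
`p = 3` and the subgroup has order `8`. -/
theorem config_card (hp2 : p ≠ 2) (y : Y) (hy : y ^ p = 1) (R : Subgroup Y)
    (hR : (Nat.card R).Coprime p) (hRn : ∀ w ∈ R, y * w * y⁻¹ ∈ R) (u : Y) (hu : u ∈ R)
    (huy : y * u ≠ u * y) : p = 3 ∧ Nat.card R = 8 := by
  obtain ⟨a, ha⟩ : ∃ a, a = ι y := ⟨_, rfl⟩
  obtain ⟨R', hR'⟩ : ∃ R', R' = R.map ι := ⟨_, rfl⟩
  have hap : a ^ p = 1 := by rw [ha, ← map_pow, hy, map_one]
  have haP : IsPGroup p (Subgroup.zpowers a) := by
    rintro ⟨z, hz⟩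
    obtain ⟨k, rfl⟩ := Subgroup.mem_zpowers_iff.1 hz
    refine ⟨1, Subtype.ext ?_⟩
    show (a ^ k) ^ p ^ 1 = 1
    rw [pow_one, ← zpow_natCast, ← zpow_mul, mul_comm, zpow_mul, zpow_natCast, hap, one_zpow]
  have hcard : (Nat.card R').Coprime p := by
    rw [hR', Subgroup.card_map_of_injective hι]; exact hR
  have hnorm : a ∈ Subgroup.normalizer (R' : Set (Matrix.SpecialLinearGroup (Fin 2) L)) := by
    apply Cfsg.Agent.Helper9.mem_normalizer_of_conj_le
    rw [hR', ha]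
    rintro _ ⟨w, hw, rfl⟩
    exact ⟨y * w * y⁻¹, hRn w hw, by rw [map_mul, map_mul, map_inv]⟩
  have hnt : ⁅R', Subgroup.zpowers a⁆ ≠ ⊥ := by
    intro h
    rw [Subgroup.commutator_eq_bot_iff_le_centralizer] at h
    have h1 := h (show ι u ∈ R' by rw [hR']; exact Subgroup.mem_map_of_mem ι hu)
    rw [Subgroup.mem_centralizer_iff] at h1
    have h2 := h1 a (Subgroup.mem_zpowers a)
    apply huy; apply hι; rw [map_mul, map_mul, ← ha]; exact h2
  obtain ⟨hp3, ⟨e⟩, -⟩ := Cfsg.Agent.Helper1.SL23Rec.main L hp2 a haP R' hcard hnorm hnt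
  refine ⟨hp3, ?_⟩
  rw [← Subgroup.card_map_of_injective hι, ← hR', Nat.card_congr e.toEquiv, Nat.card_eq_fintype_card,
    QuaternionGroup.card]

omit [Fintype L] [Fact p.Prime] [CharP L p] in
theorem card_Zs_le_two [Finite Y] (h2 : (2 : L) ≠ 0) : Nat.card (Zs ι) ≤ 2 := by
  rw [← sl2_center_card_odd h2]
  have hfin : Finite ↥(Subgroup.center (Matrix.SpecialLinearGroup (Fin 2) L)) := by
    apply Nat.finite_of_card_ne_zero
    rw [sl2_center_card_odd h2]; norm_num
  apply Nat.card_le_card_of_injective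
    (fun z : ↥(Zs ι) => (⟨ι (z : Y), z.2⟩ : ↥(Subgroup.center (Matrix.SpecialLinearGroup (Fin 2) L))))
  intro z z' hzz
  exact Subtype.ext (hι (congrArg Subtype.val hzz))

/-- The case `N(P) = C(P)`: then there are exactly `q + 1` Sylow `p`-subgroups as well. -/
theorem k1_of_hb1 [Finite Y] {u₀ : Y} {s₀ : L} (hu : ι u₀ = sl2U s₀) (hs : s₀ ≠ 0) (hp2 : p ≠ 2)
    (hgen : Subgroup.closure {g : Y | g ^ p = 1} = ⊤) (hnp : ¬ IsPGroup p Y)
    (hb : Nat.card (sqHom ι).range = 1) (k : ℕ)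
    (hk : (Bo ι).index = 1 + k * Nat.card (Pu ι))
    (hG : Nat.card Y =
      Nat.card (Zs ι) * Nat.card (Pu ι) * Nat.card (sqHom ι).range * (Bo ι).index) :
    k = 1 := by
  have hp : p.Prime := Fact.out
  have hBC : Subgroup.centralizer ({u₀} : Set Y) = Bo ι := by
    apply Subgroup.eq_of_le_of_card_ge (cent_le_Bo ι hι hu hs)
    rw [card_Bo ι hι hu hs, hb, mul_one]
  obtain ⟨P, hPdef⟩ : ∃ P : Sylow p Y, P = PuSyl ι hι hu hs hp2 := ⟨_, rfl⟩
  have hPc : (P : Subgroup Y) = Pu ι := by rw [hPdef]; rfl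
  have hP : Subgroup.normalizer ((P : Subgroup Y) : Set Y) ≤
      Subgroup.centralizer ((P : Subgroup Y) : Set Y) := by
    intro g hgN
    rw [hPc] at hgN ⊢
    have h1 : g * u₀ * g⁻¹ ∈ Pu ι := (Subgroup.mem_normalizer_iff.1 hgN u₀).1 (u₀_mem_Pu ι hu)
    have h2 : e10 (ι g) = 0 := by
      have := h1.1
      rw [map_mul, map_mul, map_inv, hu, e10_conjU] at this
      rcases mul_eq_zero.1 this with h3 | h3
      · exact absurd (neg_eq_zero.1 h3) hs
      · exact pow_eq_zero_iff (two_ne_zero) |>.1 h3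
    have h3 : g ∈ Subgroup.centralizer ({u₀} : Set Y) := by rw [hBC]; exact h2
    rw [Subgroup.mem_centralizer_singleton_iff] at h3
    rw [Subgroup.mem_centralizer_iff]
    intro v hv
    have hvC := Pu_le_cent ι hι hu hs hv
    rw [Subgroup.mem_centralizer_singleton_iff] at hvC
    exact (ti ι hι).trans u₀ v g (u₀_not_mem_Zs ι hu hs) hvC h3
  have hc := MonoidHom.ker_transferSylow_isComplement' P hP
  obtain ⟨K, hK⟩ : ∃ K : Subgroup Y, K = (MonoidHom.transferSylow P hP).ker := ⟨_, rfl⟩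
  have hKn : K.Normal := by rw [hK]; infer_instance
  rw [← hK] at hc
  have hcard := hc.card_mul_card
  have hPpos : 0 < Nat.card ↥(P : Subgroup Y) := Nat.card_pos
  have hKpos : 0 < Nat.card ↥K := Nat.card_pos
  have h1 : Nat.card K = (P : Subgroup Y).index := by
    have h3 := Subgroup.card_mul_index (P : Subgroup Y)
    apply Nat.eq_of_mul_eq_mul_right hPpos
    rw [hcard, mul_comm, h3]
  have hcop : (Nat.card K).Coprime p := by
    rw [h1]
    exact ((Nat.Prime.coprime_iff_not_dvd hp).2 P.not_dvd_index).symm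
  obtain ⟨m, hm⟩ := P.isPGroup'.exists_card_eq
  have hquot : Nat.card (Y ⧸ K) = p ^ m := by
    rw [← Subgroup.index_eq_card, ← hm]
    have h3 := Subgroup.card_mul_index K
    apply Nat.eq_of_mul_eq_mul_left hKpos
    rw [h3, hcard]
  -- a `p`-element not centralizing `K`
  obtain ⟨a, hap, w, hwK, haw⟩ : ∃ a : Y, a ^ p = 1 ∧ ∃ w ∈ K, a * w ≠ w * a := by
    by_contra hcon
    push Not at hcon
    apply hnp
    have hKc : ∀ w ∈ K, ∀ y : Y, y * w = w * y := by
      intro w hw y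
      have hle : Subgroup.closure {g : Y | g ^ p = 1} ≤ Subgroup.centralizer (K : Set Y) := by
        rw [Subgroup.closure_le]
        intro g hg
        rw [SetLike.mem_coe, Subgroup.mem_centralizer_iff]
        intro h hh
        exact (hcon g hg h hh).symm
      rw [hgen] at hle
      have hy := hle (Subgroup.mem_top y)
      exact ((Subgroup.mem_centralizer_iff.1 hy) w hw).symm
    have hN : Subgroup.normalizer ((P : Subgroup Y) : Set Y) = ⊤ := by
      rw [eq_top_iff, ← hc.sup_eq_top]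
      apply sup_le
      · intro w hw
        rw [Subgroup.mem_normalizer_iff]
        intro h
        have h1 : w * h * w⁻¹ = h := by rw [← hKc w hw h, mul_inv_cancel_right]
        rw [h1]
      · exact Subgroup.le_normalizer
    have hle : Subgroup.closure {g : Y | g ^ p = 1} ≤ (P : Subgroup Y) := by
      rw [Subgroup.closure_le]
      intro g hg
      exact mem_sylow_of_mem_normalizer P (by rw [hN]; exact Subgroup.mem_top g) (k := 1)
        (by rw [pow_one]; exact hg)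
    rw [hgen] at hle
    intro y
    obtain ⟨n, hn⟩ := P.isPGroup' ⟨y, hle (Subgroup.mem_top y)⟩
    refine ⟨n, ?_⟩
    have h1 := congrArg Subtype.val hn
    rwa [SubgroupClass.coe_pow, OneMemClass.coe_one] at h1
  obtain ⟨hp3, hK8⟩ := config_card ι hι hp2 a hap K hcop
    (fun w hw => hKn.conj_mem w hw a) w hwK haw
  have h2 : (2 : L) ≠ 0 := two_ne_zero_of_char hp2
  have hz2 := card_Zs_le_two ι hι h2
  have hz1 : 1 ≤ Nat.card (Zs ι) := Nat.card_pos
  obtain ⟨hq3, m, hm⟩ := card_Pu_ge ι hι hu hs hp2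
  rw [hPc, hK8] at hcard
  rw [hb, hk, mul_one, ← hcard] at hG
  rw [hp3] at hm
  obtain ⟨z, hz⟩ : ∃ z : ℕ, z = Nat.card (Zs ι) := ⟨_, rfl⟩
  obtain ⟨q, hq⟩ : ∃ q : ℕ, q = Nat.card (Pu ι) := ⟨_, rfl⟩
  rw [← hz] at hz2 hz1 hG
  rw [← hq] at hG hm hq3
  have hG' : 8 = z * (1 + k * q) := by
    have h3 : q * 8 = q * (z * (1 + k * q)) := by linarith
    exact Nat.eq_of_mul_eq_mul_left (by omega) h3
  have hkq : k * q = 3 ∨ k * q = 7 := by
    interval_cases z
    · right; omega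
    · left; omega
  rcases hkq with hkq | hkq
  · have hk0 : k ≠ 0 := by rintro rfl; simp at hkq
    have hk1 : k ≤ 1 := by
      by_contra hcon
      have : 2 * q ≤ k * q := Nat.mul_le_mul_right q (by omega)
      omega
    omega
  · exfalso
    have hk0 : k ≠ 0 := by rintro rfl; simp at hkq
    have hk2 : k ≤ 2 := by
      by_contra hcon
      have : 3 * q ≤ k * q := Nat.mul_le_mul_right q (by omega)
      omega
    have hq7 : q = 7 := by
      interval_cases k <;> omega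
    rw [hq7] at hm
    rcases m with _ | _ | m
    · simp at hm
    · simp at hm
    · have : 3 ^ 2 ≤ 3 ^ (m + 1 + 1) := Nat.pow_le_pow_right (by norm_num) (by omega)
      omega

end Solv

section Exc

variable {L : Type*} [Field L] {p : ℕ} [Fact p.Prime] [CharP L p] {Y : Type*} [Group Y]
variable (ι : Y →* Matrix.SpecialLinearGroup (Fin 2) L) (hι : Function.Injective ι)

omit [Fact p.Prime] [CharP L p] in
theorem trS_sq (g : Matrix.SpecialLinearGroup (Fin 2) L) : trS (g * g) = trS g ^ 2 - 2 := by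
  rw [trS_eq, trS_eq, e00_mul, e11_mul]
  linear_combination (-2 : L) * e_det g

omit [Fact p.Prime] [CharP L p] in
/-- Equal cosets of the upper triangular subgroup have proportional first columns. -/
theorem coset_eq {h h' : Y} (hEq : ((h : Y) : Y ⧸ Bo ι) = ((h' : Y) : Y ⧸ Bo ι)) :
    e00 (ι h) * e10 (ι h') = e00 (ι h') * e10 (ι h) := by
  rw [QuotientGroup.eq, mem_Bo, map_mul, map_inv, e10_mul, e10_inv, e11_inv] at hEq
  linear_combination hEq

include hι

/-- In characteristic `3`, a group of order dividing `120` generated by `3`-elements and not a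
`3`-group has no element whose trace squares to `-1` (it would have order `8`). -/
theorem no_order8 [Finite Y] (hp2 : p ≠ 2) (h3 : (3 : L) = 0)
    (hgen : Subgroup.closure {g : Y | g ^ p = 1} = ⊤) (hnp : ¬ IsPGroup p Y)
    (hdvd : Nat.card Y ∣ 120) (y : Y) : trS (ι y) ^ 2 ≠ -1 := by
  intro htr
  have h2 : (2 : L) ≠ 0 := two_ne_zero_of_char hp2
  have h0 : trS (ι y * ι y) = 0 := by rw [trS_sq, htr]; linear_combination -h3
  have h4 : (ι y * ι y) * (ι y * ι y) = sl2NegOne := sq_of_trace_zero _ h0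
  have hy4 : y ^ 4 ≠ 1 := by
    intro h
    have h5 : ι (y ^ 4) = 1 := by rw [h, map_one]
    rw [map_pow] at h5
    have e : ι y ^ 4 = (ι y * ι y) * (ι y * ι y) := by
      simp only [pow_succ, pow_zero, one_mul, mul_assoc]
    rw [e, h4] at h5
    exact sl2NegOne_ne_one h2 h5
  have hy8 : y ^ 8 = 1 := by
    apply hι
    rw [map_pow, map_one]
    have e : ι y ^ 8 = ((ι y * ι y) * (ι y * ι y)) * ((ι y * ι y) * (ι y * ι y)) := by
      simp only [pow_succ, pow_zero, one_mul, mul_assoc]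
    rw [e, h4, sl2NegOne_mul_self]
  have hord : orderOf y = 2 ^ (2 + 1) :=
    orderOf_eq_prime_pow (p := 2) (n := 2) (by rw [show (2 : ℕ) ^ 2 = 4 from rfl]; exact hy4)
      (by rw [show (2 : ℕ) ^ (2 + 1) = 8 from rfl]; exact hy8)
  have hpg : IsPGroup 2 (Subgroup.zpowers y) :=
    zpowers_isPGroup (r := 2) (k := 3) (by rw [show (2 : ℕ) ^ 3 = 8 from rfl]; exact hy8)
  obtain ⟨T, hT⟩ := hpg.exists_le_sylow
  obtain ⟨e, he⟩ := T.isPGroup'.exists_card_eq
  have hTdvd : 2 ^ e ∣ 120 := by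
    rw [← he]; exact dvd_trans (Subgroup.card_subgroup_dvd_card _) hdvd
  have he3 : e ≤ 3 := by
    by_contra hcon
    have h16 : 2 ^ 4 ∣ 2 ^ e := pow_dvd_pow 2 (by omega)
    have := dvd_trans h16 hTdvd
    omega
  have hcz : Nat.card (Subgroup.zpowers y) = 8 := by rw [Nat.card_zpowers, hord]; rfl
  have hTeq : Subgroup.zpowers y = (T : Subgroup Y) := by
    apply Subgroup.eq_of_le_of_card_ge hT
    rw [hcz, he]
    calc 2 ^ e ≤ 2 ^ 3 := Nat.pow_le_pow_right (by norm_num) he3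
      _ = 8 := by norm_num
  apply hnp
  apply isPGroup_of_sylow2_comm ι hι hp2 hgen T
  intro a ha b hb
  rw [← hTeq] at ha hb
  obtain ⟨i, rfl⟩ := Subgroup.mem_zpowers_iff.1 ha
  obtain ⟨j, rfl⟩ := Subgroup.mem_zpowers_iff.1 hb
  exact (Commute.zpow_zpow_self y i j).eq

end Exc

section Indep

variable {F : Type*} [Field F] [CharP F 3]

/-- `1, λ, λ²` are linearly independent over the prime field, if `λ` is not in the prime field
and no translate of `λ` by the prime field squares to `-1`. -/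
theorem indep (lam : F)
    (hF3 : ∀ x : ZMod 3, lam ≠ ZMod.castHom (dvd_refl 3) F x)
    (hQ : ∀ x : ZMod 3, (lam - ZMod.castHom (dvd_refl 3) F x) ^ 2 ≠ -1)
    (A B C : ZMod 3)
    (h : ZMod.castHom (dvd_refl 3) F A * lam ^ 2 + ZMod.castHom (dvd_refl 3) F B * lam +
      ZMod.castHom (dvd_refl 3) F C = 0) :
    A = 0 ∧ B = 0 ∧ C = 0 := by
  obtain ⟨φ, hφ⟩ : ∃ φ : ZMod 3 →+* F, φ = ZMod.castHom (dvd_refl 3) F := ⟨_, rfl⟩
  rw [← hφ] at hF3 hQ h
  have hφinj : Function.Injective φ := RingHom.injective φ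
  have h3 : (3 : F) = 0 := CharP.ofNat_eq_zero F 3
  have hsq1 : ∀ x : ZMod 3, x ≠ 0 → x * x = 1 := by decide
  have hcase : ∀ D : ZMod 3, D = 0 ∨ D = 1 ∨ D = 2 := by decide
  have hA : A = 0 := by
    by_contra hA
    have hAA : φ A * φ A = 1 := by rw [← map_mul, hsq1 A hA, map_one]
    obtain ⟨b, hb⟩ : ∃ b : ZMod 3, b = A * B := ⟨_, rfl⟩
    have h1 : lam ^ 2 + φ b * lam + φ (A * C) = 0 := by
      rw [hb, map_mul, map_mul]
      linear_combination φ A * h - lam ^ 2 * hAA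
    obtain ⟨D, hD⟩ : ∃ D : ZMod 3, D = b * b - A * C := ⟨_, rfl⟩
    have h5 : (lam - φ b) ^ 2 = φ D := by
      rw [hD, map_sub, map_mul]
      linear_combination h1 - (φ b * lam) * h3
    rcases hcase D with h0 | h0 | h0
    · rw [h0, map_zero] at h5
      have h6 : lam - φ b = 0 := pow_eq_zero_iff (two_ne_zero) |>.1 h5
      exact hF3 b (sub_eq_zero.1 h6)
    · rw [h0, map_one] at h5
      have h6 : (lam - φ (b + 1)) * (lam - φ (b - 1)) = 0 := by
        rw [map_add, map_sub, map_one]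
        linear_combination h5
      rcases mul_eq_zero.1 h6 with h7 | h7
      · exact hF3 _ (sub_eq_zero.1 h7)
      · exact hF3 _ (sub_eq_zero.1 h7)
    · have h6 : φ D = -1 := by
        rw [h0]
        have : φ 2 = 2 := map_ofNat φ 2
        rw [this]
        linear_combination h3
      rw [h6] at h5
      exact hQ b h5
  rw [hA, map_zero, zero_mul, zero_add] at h
  have hB : B = 0 := by
    by_contra hB
    have hBB : φ B * φ B = 1 := by rw [← map_mul, hsq1 B hB, map_one]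
    have h1 : lam = φ (-(B * C)) := by
      rw [map_neg, map_mul]
      linear_combination φ B * h - lam * hBB
    exact hF3 _ h1
  rw [hB, map_zero, zero_mul, zero_add] at h
  refine ⟨hA, hB, ?_⟩
  apply hφinj
  rw [h, map_zero]

end Indep

section ExcG

variable {F : Type*} [Field F] [CharP F 3]

set_option maxHeartbeats 1600000 in
/-- The exceptional case: ten Sylow `3`-subgroups force `λ² = -1`. -/
theorem exc_sq (G : Subgroup (Matrix.SpecialLinearGroup (Fin 2) F)) [Finite G] (lam : F)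
    (hX : sl2mk (1 : F) 0 1 1 (by ring) ∈ G) (hY : sl2U lam ∈ G)
    (hgen : Subgroup.closure {g : G | g ^ 3 = 1} = ⊤) (hnp : ¬ IsPGroup 3 G)
    (hidx : (Bo G.subtype).index = 10) (hdvd : Nat.card G ∣ 120)
    (hne0 : lam ≠ 0) (hne1 : lam ≠ 1) (hnem1 : lam ≠ -1) : lam ^ 2 = -1 := by
  by_contra hsq
  have h3 : (3 : F) = 0 := CharP.ofNat_eq_zero F 3
  obtain ⟨X, hXd⟩ : ∃ X : Matrix.SpecialLinearGroup (Fin 2) F, X = sl2mk (1 : F) 0 1 1 (by ring) :=
    ⟨_, rfl⟩
  rw [← hXd] at hX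
  have hX10 : e10 X = 1 := by rw [hXd, e10_mk]
  have hX00 : e00 X = 1 := by rw [hXd, e00_mk]
  have hX01 : e01 X = 0 := by rw [hXd, e01_mk]
  have hX11 : e11 X = 1 := by rw [hXd, e11_mk]
  obtain ⟨φ, hφ⟩ : ∃ φ : ZMod 3 →+* F, φ = ZMod.castHom (dvd_refl 3) F := ⟨_, rfl⟩
  have hφ2 : φ 2 = -1 := by rw [map_ofNat]; linear_combination h3
  have hinj := Subgroup.subtype_injective G
  have no8 : ∀ g ∈ G, trS g ^ 2 ≠ -1 := fun g hg =>
    no_order8 (p := 3) G.subtype hinj (by norm_num) h3 hgen hnp hdvd ⟨g, hg⟩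
  have hcase : ∀ x : ZMod 3, x = 0 ∨ x = 1 ∨ x = 2 := by decide
  have hF3 : ∀ x : ZMod 3, lam ≠ φ x := by
    intro x
    rcases hcase x with rfl | rfl | rfl
    · rw [map_zero]; exact hne0
    · rw [map_one]; exact hne1
    · rw [hφ2]; exact hnem1
  have hQ : ∀ x : ZMod 3, (lam - φ x) ^ 2 ≠ -1 := by
    intro x
    rcases hcase x with rfl | rfl | rfl
    · rw [map_zero, sub_zero]; exact hsq
    · rw [map_one]
      have h1 := no8 (X * sl2U lam) (G.mul_mem hX hY)
      have h5 : trS (X * sl2U lam) = lam - 1 := by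
        rw [trS_eq, e00_mul, e11_mul, e00_U, e01_U, e10_U, e11_U, hX00, hX01, hX10, hX11]
        linear_combination h3
      rwa [h5] at h1
    · rw [hφ2]
      have h1 := no8 (X * (sl2U lam)⁻¹) (G.mul_mem hX (G.inv_mem hY))
      have h5 : trS (X * (sl2U lam)⁻¹) = -(lam - -1) := by
        rw [trS_eq, e00_mul, e11_mul, e00_inv, e01_inv, e10_inv, e11_inv, e00_U, e01_U, e10_U,
          e11_U, hX00, hX01, hX10, hX11]
        linear_combination h3
      rw [h5, neg_sq] at h1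
      exact h1
  have hXinv : X⁻¹ ∈ G := G.inv_mem hX
  have hYn : sl2U (-lam) ∈ G := by
    rw [← Cfsg.Agent.Helper1.SL2Nil.sl2U_inv]; exact G.inv_mem hY
  -- the four base elements
  obtain ⟨g0, hg0⟩ : ∃ g0 : ↥G, g0 = ⟨X, hX⟩ := ⟨_, rfl⟩
  obtain ⟨g1, hg1⟩ : ∃ g1 : ↥G, g1 = ⟨X * sl2U (-lam) * X⁻¹, G.mul_mem (G.mul_mem hX hYn) hXinv⟩ :=
    ⟨_, rfl⟩
  obtain ⟨g2, hg2⟩ : ∃ g2 : ↥G, g2 = ⟨X * sl2U lam * X⁻¹, G.mul_mem (G.mul_mem hX hY) hXinv⟩ :=
    ⟨_, rfl⟩
  obtain ⟨g3, hg3⟩ : ∃ g3 : ↥G, g3 = ⟨X⁻¹, hXinv⟩ := ⟨_, rfl⟩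
  obtain ⟨Pt, hPt⟩ : ∃ Pt : ↥G → ZMod 3 → ZMod 3 → Prop, Pt = fun (g : ↥G) (B C : ZMod 3) =>
      e10 (g : Matrix.SpecialLinearGroup (Fin 2) F) ≠ 0 ∧
      lam * e00 (g : Matrix.SpecialLinearGroup (Fin 2) F) =
        e10 (g : Matrix.SpecialLinearGroup (Fin 2) F) * (φ B * lam + φ C) := ⟨_, rfl⟩
  have hP0 : Pt g0 1 0 := by
    rw [hPt, hg0]
    show e10 X ≠ 0 ∧ lam * e00 X = e10 X * (φ 1 * lam + φ 0)
    rw [hX10, hX00, map_one, map_zero]
    exact ⟨one_ne_zero, by ring⟩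
  have hP1 : Pt g1 1 1 := by
    rw [hPt, hg1]
    show e10 (X * sl2U (-lam) * X⁻¹) ≠ 0 ∧ lam * e00 (X * sl2U (-lam) * X⁻¹) =
      e10 (X * sl2U (-lam) * X⁻¹) * (φ 1 * lam + φ 1)
    rw [e10_conjU, e00_conjU, hX10, hX00, map_one]
    refine ⟨?_, by ring⟩
    have : -(-lam) * (1 : F) ^ 2 = lam := by ring
    rw [this]; exact hne0
  have hP2 : Pt g2 1 2 := by
    rw [hPt, hg2]
    show e10 (X * sl2U lam * X⁻¹) ≠ 0 ∧ lam * e00 (X * sl2U lam * X⁻¹) =
      e10 (X * sl2U lam * X⁻¹) * (φ 1 * lam + φ 2)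
    rw [e10_conjU, e00_conjU, hX10, hX00, map_one, hφ2]
    refine ⟨?_, by ring⟩
    have : -lam * (1 : F) ^ 2 = -lam := by ring
    rw [this]; exact neg_ne_zero.2 hne0
  have hP3 : Pt g3 2 0 := by
    rw [hPt, hg3]
    show e10 X⁻¹ ≠ 0 ∧ lam * e00 X⁻¹ = e10 X⁻¹ * (φ 2 * lam + φ 0)
    rw [e10_inv, e00_inv, hX10, hX11, map_zero, hφ2]
    exact ⟨neg_ne_zero.2 one_ne_zero, by ring⟩
  obtain ⟨gi, hgi⟩ : ∃ gi : Fin 4 → ↥G, gi = ![g0, g1, g2, g3] := ⟨_, rfl⟩
  obtain ⟨Bt, hBt⟩ : ∃ Bt : Fin 4 → ZMod 3, Bt = ![1, 1, 1, 2] := ⟨_, rfl⟩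
  obtain ⟨Ct, hCt⟩ : ∃ Ct : Fin 4 → ZMod 3, Ct = ![0, 1, 2, 0] := ⟨_, rfl⟩
  have hBC : ∀ i j : Fin 4, Bt i = Bt j → Ct i = Ct j → i = j := by
    rw [hBt, hCt]; decide
  have hP : ∀ i : Fin 4, Pt (gi i) (Bt i) (Ct i) := by
    intro i
    rw [hgi, hBt, hCt]
    fin_cases i
    · exact hP0
    · exact hP1
    · exact hP2
    · exact hP3
  have hyn : ∀ n : ZMod 3, sl2U (φ n * lam) ∈ G := by
    intro n
    have h1 := G.pow_mem hY n.val
    rw [sl2U_pow, ZMod.natCast_val] at h1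
    rw [hφ]
    exact h1
  obtain ⟨f, hf⟩ : ∃ f : Fin 4 × ZMod 3 → ↥G ⧸ Bo G.subtype, f = fun x =>
      (((⟨sl2U (φ x.2 * lam), hyn x.2⟩ : ↥G) * gi x.1 : ↥G) : ↥G ⧸ Bo G.subtype) := ⟨_, rfl⟩
  have hfinj : Function.Injective f := by
    rintro ⟨i, n⟩ ⟨j, m⟩ hEq
    rw [hf] at hEq
    have h1 := coset_eq G.subtype hEq
    have e1 : G.subtype ((⟨sl2U (φ n * lam), hyn n⟩ : ↥G) * gi i) =
        sl2U (φ n * lam) * (gi i : Matrix.SpecialLinearGroup (Fin 2) F) := rfl
    have e2 : G.subtype ((⟨sl2U (φ m * lam), hyn m⟩ : ↥G) * gi j) =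
        sl2U (φ m * lam) * (gi j : Matrix.SpecialLinearGroup (Fin 2) F) := rfl
    rw [e1, e2] at h1
    simp only [e00_mul, e10_mul, e00_U, e01_U, e10_U, e11_U] at h1
    have hPi := hP i
    have hPj := hP j
    rw [hPt] at hPi hPj
    obtain ⟨hci, hai⟩ := hPi
    obtain ⟨hcj, haj⟩ := hPj
    have h5 : φ (n - m) * lam ^ 2 + φ (Bt i - Bt j) * lam + φ (Ct i - Ct j) = 0 := by
      have h6 : e10 (gi i : Matrix.SpecialLinearGroup (Fin 2) F) *
          e10 (gi j : Matrix.SpecialLinearGroup (Fin 2) F) *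
          (φ (n - m) * lam ^ 2 + φ (Bt i - Bt j) * lam + φ (Ct i - Ct j)) = 0 := by
        rw [map_sub, map_sub, map_sub]
        linear_combination lam * h1 - e10 (gi j : Matrix.SpecialLinearGroup (Fin 2) F) * hai +
          e10 (gi i : Matrix.SpecialLinearGroup (Fin 2) F) * haj
      rcases mul_eq_zero.1 h6 with h7 | h7
      · exfalso
        rcases mul_eq_zero.1 h7 with h8 | h8
        · exact hci h8
        · exact hcj h8
      · exact h7
    obtain ⟨hnm, hB, hC⟩ := indep lam (by rw [← hφ]; exact hF3) (by rw [← hφ]; exact hQ) _ _ _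
      (by rw [← hφ]; exact h5)
    have hij : i = j := hBC i j (sub_eq_zero.1 hB) (sub_eq_zero.1 hC)
    rw [Prod.mk.injEq]
    exact ⟨hij, sub_eq_zero.1 hnm⟩
  have hcard := Nat.card_le_card_of_injective f hfinj
  rw [← Subgroup.index_eq_card, hidx] at hcard
  have h12 : Nat.card (Fin 4 × ZMod 3) = 12 := by
    rw [Nat.card_prod, Nat.card_eq_fintype_card, Nat.card_eq_fintype_card, Fintype.card_fin,
      ZMod.card]
  omega

end ExcG

section Nine

variable {F : Type*} [Field F] [CharP F 3]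

/-- A field of characteristic `3` generated by a square root of `-1` has `9` elements. -/
theorem card_eq_nine [Fintype F] (lam : F) (hsq : lam ^ 2 = -1)
    (hgenF : Subfield.closure ({lam} : Set F) = ⊤) : Fintype.card F = 9 := by
  obtain ⟨φ, hφ⟩ : ∃ φ : ZMod 3 →+* F, φ = ZMod.castHom (dvd_refl 3) F := ⟨_, rfl⟩
  have hφinj : Function.Injective φ := RingHom.injective φ
  have h3 : (3 : F) = 0 := CharP.ofNat_eq_zero F 3
  have hφ2 : φ 2 = -1 := by rw [map_ofNat]; linear_combination h3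
  have hsq1 : ∀ x : ZMod 3, x ≠ 0 → x * x = 1 := by decide
  have hno2 : ∀ e : ZMod 3, e * e ≠ 2 := by decide
  have hnorm : ∀ a b : ZMod 3, a * a + b * b = 0 → a = 0 ∧ b = 0 := by decide
  obtain ⟨ψ, hψ⟩ : ∃ ψ : ZMod 3 × ZMod 3 → F, ψ = fun x => φ x.1 + φ x.2 * lam := ⟨_, rfl⟩
  have hinj : Function.Injective ψ := by
    rintro ⟨a, b⟩ ⟨a', b'⟩ hEq
    rw [hψ] at hEq
    have hEq' : φ a + φ b * lam = φ a' + φ b' * lam := hEq
    have hbb : b = b' := by
      by_contra hne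
      have hd : b - b' ≠ 0 := sub_ne_zero.2 hne
      have hdd : (φ b - φ b') * (φ b - φ b') = 1 := by
        rw [← map_sub, ← map_mul, hsq1 _ hd, map_one]
      obtain ⟨e, he⟩ : ∃ e : ZMod 3, e = (b - b') * (a' - a) := ⟨_, rfl⟩
      have h1 : lam = φ e := by
        rw [he, map_mul, map_sub, map_sub]
        linear_combination (φ b - φ b') * hEq' - lam * hdd
      have h5 : φ (e * e) = φ 2 := by rw [map_mul, ← h1, hφ2, ← hsq, pow_two]
      exact hno2 e (hφinj h5)
    subst hbb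
    have h1 : φ a = φ a' := by linear_combination hEq'
    rw [hφinj h1]
  have hsurj : Function.Surjective ψ := by
    obtain ⟨K, hK⟩ : ∃ K : Subfield F, ∀ t : F, t ∈ K ↔ ∃ x, ψ x = t := by
      refine ⟨{ carrier := Set.range ψ
                mul_mem' := ?_
                one_mem' := ?_
                add_mem' := ?_
                zero_mem' := ?_
                neg_mem' := ?_
                inv_mem' := ?_ }, fun t => Iff.rfl⟩
      · rintro _ _ ⟨⟨a, b⟩, rfl⟩ ⟨⟨c, d⟩, rfl⟩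
        refine ⟨(a * c - b * d, a * d + b * c), ?_⟩
        rw [hψ]
        simp only [map_sub, map_add, map_mul]
        linear_combination (-(φ b * φ d)) * hsq
      · exact ⟨(1, 0), by rw [hψ]; simp⟩
      · rintro _ _ ⟨⟨a, b⟩, rfl⟩ ⟨⟨c, d⟩, rfl⟩
        exact ⟨(a + c, b + d), by rw [hψ]; simp only [map_add]; ring⟩
      · exact ⟨(0, 0), by rw [hψ]; simp⟩
      · rintro _ ⟨⟨a, b⟩, rfl⟩
        exact ⟨(-a, -b), by rw [hψ]; simp only [map_neg]; ring⟩
      · rintro _ ⟨⟨a, b⟩, rfl⟩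
        by_cases hab : a = 0 ∧ b = 0
        · refine ⟨(0, 0), ?_⟩
          obtain ⟨rfl, rfl⟩ := hab
          rw [hψ]; simp
        · obtain ⟨N, hN⟩ : ∃ N : ZMod 3, N = a * a + b * b := ⟨_, rfl⟩
          have hN0 : N ≠ 0 := by rw [hN]; exact fun h => hab (hnorm a b h)
          have hNN : N * N = 1 := hsq1 N hN0
          refine ⟨(N * a, -(N * b)), ?_⟩
          rw [hψ]
          symm
          apply inv_eq_of_mul_eq_one_right
          have h1 : φ N * φ (a * a + b * b) = 1 := by rw [← hN, ← map_mul, hNN, map_one]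
          simp only [map_mul, map_neg, map_add] at h1 ⊢
          linear_combination h1 - (φ N * φ b * φ b) * hsq
    intro t
    rw [← hK]
    have hle : Subfield.closure ({lam} : Set F) ≤ K := by
      rw [Subfield.closure_le]
      intro x hx
      rw [Set.mem_singleton_iff] at hx
      rw [hx]
      exact (hK lam).2 ⟨(0, 1), by rw [hψ]; simp⟩
    rw [hgenF] at hle
    exact hle (Subfield.mem_top t)
  rw [← Fintype.card_of_bijective ⟨hinj, hsurj⟩, Fintype.card_prod, ZMod.card]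

open Cfsg.Agent.Helper1.Cert120 in
/-- In characteristic `3` with `λ² = -1`, the two unitriangular matrices generate a group of
order at most `120`. -/
theorem card_le_120 (lam : F) (hsq : lam ^ 2 = -1)
    (G : Subgroup (Matrix.SpecialLinearGroup (Fin 2) F))
    (hG : G ≤ Subgroup.closure {g : Matrix.SpecialLinearGroup (Fin 2) F |
      (g : Matrix (Fin 2) (Fin 2) F) = !![1, 0; 1, 1] ∨
      (g : Matrix (Fin 2) (Fin 2) F) = !![1, lam; 0, 1]}) :
    Nat.card G ≤ 120 := by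
  classical
  obtain ⟨φ, hφ⟩ : ∃ φ : ZMod 3 →+* F, φ = ZMod.castHom (dvd_refl 3) F := ⟨_, rfl⟩
  have h3 : (3 : F) = 0 := CharP.ofNat_eq_zero F 3
  obtain ⟨ent, hent⟩ : ∃ ent : C9 → F, ent = fun e => φ e.1 + φ e.2 * lam := ⟨_, rfl⟩
  obtain ⟨dec, hdec⟩ : ∃ dec : M9 → Matrix (Fin 2) (Fin 2) F,
      dec = fun m => !![ent m.1.1, ent m.1.2; ent m.2.1, ent m.2.2] := ⟨_, rfl⟩
  have hent_add : ∀ e e' : C9, ent (e + e') = ent e + ent e' := by
    intro e e'
    rw [hent]
    simp only [Prod.fst_add, Prod.snd_add, map_add]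
    ring
  have hent_J : ∀ e : C9, ent (J e) = lam * ent e := by
    intro e
    rw [hent]
    simp only [J, map_neg]
    linear_combination (-(φ e.2)) * hsq
  obtain ⟨T, hT⟩ : ∃ T : Set (Matrix.SpecialLinearGroup (Fin 2) F),
      T = {g : Matrix.SpecialLinearGroup (Fin 2) F |
        ∃ m ∈ S, (g : Matrix (Fin 2) (Fin 2) F) = dec m} := ⟨_, rfl⟩
  have hTX : ∀ g : Matrix.SpecialLinearGroup (Fin 2) F,
      (g : Matrix (Fin 2) (Fin 2) F) = !![1, 0; 1, 1] → ∀ t ∈ T, g * t ∈ T := by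
    intro g hg t ht
    rw [hT] at ht ⊢
    obtain ⟨m, hm, htm⟩ := ht
    refine ⟨fx m, (S_closed m hm).1, ?_⟩
    rw [Matrix.SpecialLinearGroup.coe_mul, hg, htm, hdec]
    show !![1, 0; 1, 1] * !![ent m.1.1, ent m.1.2; ent m.2.1, ent m.2.2] =
      !![ent m.1.1, ent m.1.2; ent (m.1.1 + m.2.1), ent (m.1.2 + m.2.2)]
    rw [Matrix.mul_fin_two, hent_add, hent_add]
    apply m2_ext <;> ring
  have hTY : ∀ g : Matrix.SpecialLinearGroup (Fin 2) F,
      (g : Matrix (Fin 2) (Fin 2) F) = !![1, lam; 0, 1] → ∀ t ∈ T, g * t ∈ T := by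
    intro g hg t ht
    rw [hT] at ht ⊢
    obtain ⟨m, hm, htm⟩ := ht
    refine ⟨fy m, (S_closed m hm).2, ?_⟩
    rw [Matrix.SpecialLinearGroup.coe_mul, hg, htm, hdec]
    show !![1, lam; 0, 1] * !![ent m.1.1, ent m.1.2; ent m.2.1, ent m.2.2] =
      !![ent (m.1.1 + J m.2.1), ent (m.1.2 + J m.2.2); ent m.2.1, ent m.2.2]
    rw [Matrix.mul_fin_two, hent_add, hent_add, hent_J, hent_J]
    apply m2_ext <;> ring
  have hX3 : ∀ g : Matrix.SpecialLinearGroup (Fin 2) F,
      (g : Matrix (Fin 2) (Fin 2) F) = !![1, 0; 1, 1] → g⁻¹ = g * g := by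
    intro g hg
    apply inv_eq_of_mul_eq_one_right
    apply Subtype.ext
    rw [Matrix.SpecialLinearGroup.coe_mul, Matrix.SpecialLinearGroup.coe_mul, hg,
      Matrix.SpecialLinearGroup.coe_one, Matrix.mul_fin_two, Matrix.mul_fin_two,
      Matrix.one_fin_two]
    apply m2_ext
    · ring
    · ring
    · linear_combination h3
    · ring
  have hY3 : ∀ g : Matrix.SpecialLinearGroup (Fin 2) F,
      (g : Matrix (Fin 2) (Fin 2) F) = !![1, lam; 0, 1] → g⁻¹ = g * g := by
    intro g hg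
    apply inv_eq_of_mul_eq_one_right
    apply Subtype.ext
    rw [Matrix.SpecialLinearGroup.coe_mul, Matrix.SpecialLinearGroup.coe_mul, hg,
      Matrix.SpecialLinearGroup.coe_one, Matrix.mul_fin_two, Matrix.mul_fin_two,
      Matrix.one_fin_two]
    apply m2_ext
    · ring
    · linear_combination lam * h3
    · ring
    · ring
  obtain ⟨H, hH⟩ : ∃ H : Subgroup (Matrix.SpecialLinearGroup (Fin 2) F),
      ∀ g, g ∈ H ↔ ∀ t ∈ T, g * t ∈ T ∧ g⁻¹ * t ∈ T := by
    refine ⟨{ carrier := {g | ∀ t ∈ T, g * t ∈ T ∧ g⁻¹ * t ∈ T}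
              mul_mem' := ?_
              one_mem' := ?_
              inv_mem' := ?_ }, fun g => Iff.rfl⟩
    · intro a b ha hb t ht
      refine ⟨?_, ?_⟩
      · rw [mul_assoc]; exact (ha _ (hb t ht).1).1
      · rw [mul_inv_rev, mul_assoc]; exact (hb _ (ha t ht).2).2
    · intro t ht
      rw [inv_one, one_mul]; exact ⟨ht, ht⟩
    · intro a ha t ht
      rw [inv_inv]; exact ⟨(ha t ht).2, (ha t ht).1⟩
  have hgenH : Subgroup.closure {g : Matrix.SpecialLinearGroup (Fin 2) F |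
      (g : Matrix (Fin 2) (Fin 2) F) = !![1, 0; 1, 1] ∨
      (g : Matrix (Fin 2) (Fin 2) F) = !![1, lam; 0, 1]} ≤ H := by
    rw [Subgroup.closure_le]
    intro g hg
    rw [SetLike.mem_coe, hH]
    intro t ht
    rcases hg with hg | hg
    · refine ⟨hTX g hg t ht, ?_⟩
      rw [hX3 g hg, mul_assoc]
      exact hTX g hg _ (hTX g hg t ht)
    · refine ⟨hTY g hg t ht, ?_⟩
      rw [hY3 g hg, mul_assoc]
      exact hTY g hg _ (hTY g hg t ht)
  have h1T : (1 : Matrix.SpecialLinearGroup (Fin 2) F) ∈ T := by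
    rw [hT]
    refine ⟨_, one_mem, ?_⟩
    rw [hdec, hent, Matrix.SpecialLinearGroup.coe_one, Matrix.one_fin_two]
    apply m2_ext <;> simp
  have hGT : ∀ g ∈ G, g ∈ T := by
    intro g hg
    have h1 := ((hH g).1 (hgenH (hG hg)) 1 h1T).1
    rwa [mul_one] at h1
  have hex : ∀ g : ↥G, ∃ m : {m // m ∈ S.toFinset},
      ((g : Matrix.SpecialLinearGroup (Fin 2) F) : Matrix (Fin 2) (Fin 2) F) = dec m.1 := by
    intro g
    have h1 := hGT g.1 g.2
    rw [hT] at h1
    obtain ⟨m, hm, hgm⟩ := h1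
    exact ⟨⟨m, List.mem_toFinset.2 hm⟩, hgm⟩
  choose c hc using hex
  have hcinj : Function.Injective c := by
    intro g g' hgg
    apply Subtype.ext
    apply Subtype.ext
    rw [hc g, hc g', hgg]
  have h1 := Nat.card_le_card_of_injective c hcinj
  rw [Nat.card_eq_fintype_card (α := ↥S.toFinset), Fintype.card_coe] at h1
  calc Nat.card G ≤ S.toFinset.card := h1
    _ ≤ S.length := List.toFinset_card_le S
    _ = 120 := S_length

end Nine

section Small

variable {F : Type*} [Field F] [CharP F 3]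

/-- If `λ = ±1` the generated group lies in the image of `SL₂(𝔽₃)`. -/
theorem card_le_24 (lam : F) (hl : lam = 1 ∨ lam = -1)
    (G : Subgroup (Matrix.SpecialLinearGroup (Fin 2) F))
    (hG : G ≤ Subgroup.closure {g : Matrix.SpecialLinearGroup (Fin 2) F |
      (g : Matrix (Fin 2) (Fin 2) F) = !![1, 0; 1, 1] ∨
      (g : Matrix (Fin 2) (Fin 2) F) = !![1, lam; 0, 1]}) :
    Nat.card G ≤ 24 := by
  have hle : Subgroup.closure {g : Matrix.SpecialLinearGroup (Fin 2) F |
      (g : Matrix (Fin 2) (Fin 2) F) = !![1, 0; 1, 1] ∨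
      (g : Matrix (Fin 2) (Fin 2) F) = !![1, lam; 0, 1]} ≤ (slmap (L := F) 3).range := by
    rw [Subgroup.closure_le]
    intro g hg
    rcases hg with hg | hg
    · refine ⟨sl2mk 1 0 1 1 (by ring), ?_⟩
      apply e_ext
      · rw [e00_slmap, e00_mk, map_one]; show _ = (g : Matrix (Fin 2) (Fin 2) F) 0 0; rw [hg]; rfl
      · rw [e01_slmap, e01_mk, map_zero]; show _ = (g : Matrix (Fin 2) (Fin 2) F) 0 1; rw [hg]; rfl
      · rw [e10_slmap, e10_mk, map_one]; show _ = (g : Matrix (Fin 2) (Fin 2) F) 1 0; rw [hg]; rfl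
      · rw [e11_slmap, e11_mk, map_one]; show _ = (g : Matrix (Fin 2) (Fin 2) F) 1 1; rw [hg]; rfl
    · obtain ⟨c, hc⟩ : ∃ c : ZMod 3, ZMod.castHom (dvd_refl 3) F c = lam := by
        rcases hl with rfl | rfl
        · exact ⟨1, map_one _⟩
        · exact ⟨-1, by rw [map_neg, map_one]⟩
      refine ⟨sl2U c, ?_⟩
      apply e_ext
      · rw [e00_slmap, e00_U, map_one]; show _ = (g : Matrix (Fin 2) (Fin 2) F) 0 0; rw [hg]; rfl
      · rw [e01_slmap, e01_U, hc]; show _ = (g : Matrix (Fin 2) (Fin 2) F) 0 1; rw [hg]; rfl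
      · rw [e10_slmap, e10_U, map_zero]; show _ = (g : Matrix (Fin 2) (Fin 2) F) 1 0; rw [hg]; rfl
      · rw [e11_slmap, e11_U, map_one]; show _ = (g : Matrix (Fin 2) (Fin 2) F) 1 1; rw [hg]; rfl
  have hfin : Finite ↥(slmap (L := F) 3).range :=
    Finite.of_surjective (slmap (L := F) 3).rangeRestrict (slmap (L := F) 3).rangeRestrict_surjective
  calc Nat.card G ≤ Nat.card ↥(slmap (L := F) 3).range := Subgroup.card_le_of_le (hG.trans hle)
    _ ≤ Nat.card (Matrix.SpecialLinearGroup (Fin 2) (ZMod 3)) :=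
        Nat.card_le_card_of_surjective _ (slmap (L := F) 3).rangeRestrict_surjective
    _ = 24 := by rw [sl2_card, ZMod.card]; rfl

end Small

end Cfsg.Agent.Helper1.Gen801
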