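import Mathlib

set_option autoImplicit false

namespace Cfsg.Agent.Helper1

open Polynomial

/-- Linear-algebra core: an operator of prime order `p` acting irreducibly and nontrivially on a
finite `F_q`-space: the space has `q ^ (order of q mod p)` elements. -/
theorem card_of_irred_prime_order {q p : ℕ} [hq : Fact q.Prime] [hp : Fact p.Prime] (hpq : q ≠ p)
    {V : Type*} [AddCommGroup V] [Module (ZMod q) V] [Finite V]
    (T : V →ₗ[ZMod q] V) (hTp : T ^ p = 1) (hT1 : T ≠ 1)
    (hirr : ∀ W : Submodule (ZMod q) V, (∀ v ∈ W, T v ∈ W) → W = ⊥ ∨ W = ⊤) :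
    Nat.card V = q ^ orderOf (q : ZMod p) := by
  classical
  have hnt : Nontrivial V := by
    by_contra h
    rw [not_nontrivial_iff_subsingleton] at h
    exact hT1 (LinearMap.ext fun v => Subsingleton.elim _ _)
  obtain ⟨v, hv⟩ := exists_ne (0 : V)
  have hcomm : ∀ (f : (ZMod q)[X]) (w : V), aeval T f (T w) = T (aeval T f w) := by
    intro f w
    have h1 : aeval T (f * X) = aeval T f * T := by rw [map_mul, aeval_X]
    have h2 : aeval T (X * f) = T * aeval T f := by rw [map_mul, aeval_X]
    rw [mul_comm] at h1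
    have h3 : (aeval T f * T) w = (T * aeval T f) w := by rw [← h1, ← h2]
    simpa using h3
  have hdich : ∀ f : (ZMod q)[X], aeval T f = 0 ∨ LinearMap.ker (aeval T f) = ⊥ := by
    intro f
    rcases hirr (LinearMap.ker (aeval T f)) (by
      intro w hw
      rw [LinearMap.mem_ker] at hw ⊢
      rw [hcomm, hw, map_zero]) with h | h
    · exact Or.inr h
    · exact Or.inl (LinearMap.ker_eq_top.mp h)
  have hkill : ∀ f : (ZMod q)[X], aeval T f v = 0 → aeval T f = 0 := by
    intro f hf
    rcases hdich f with h | h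
    · exact h
    · exfalso
      have : v ∈ LinearMap.ker (aeval T f) := hf
      rw [h] at this
      exact hv ((Submodule.mem_bot _).mp this)
  have hint : IsIntegral (ZMod q) T := IsIntegral.of_finite (ZMod q) T
  obtain ⟨m, hm⟩ : ∃ m, m = minpoly (ZMod q) T := ⟨_, rfl⟩
  have hmon : m.Monic := by rw [hm]; exact minpoly.monic hint
  have hm0 : m ≠ 0 := hmon.ne_zero
  have hmT : aeval T m = 0 := by rw [hm]; exact minpoly.aeval _ _
  have hmdvd : ∀ f : (ZMod q)[X], aeval T f = 0 → m ∣ f := fun f hf => by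
    rw [hm]; exact minpoly.dvd _ _ hf
  have hEnd_nt : (1 : Module.End (ZMod q) V) ≠ 0 := by
    intro h
    apply hv
    have := congrArg (fun S : Module.End (ZMod q) V => S v) h
    simpa using this
  have hirrm : Irreducible m := by
    rw [irreducible_iff]
    refine ⟨?_, ?_⟩
    · intro hu
      have : m = 1 := hmon.eq_one_of_isUnit hu
      rw [this, map_one] at hmT
      exact hEnd_nt hmT
    · intro a b hab
      have h0 : aeval T a * aeval T b = 0 := by rw [← map_mul, ← hab, hmT]
      rcases hdich a with ha | ha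
      · right
        obtain ⟨c, hc⟩ := hmdvd a ha
        have : m * 1 = m * (c * b) := by rw [mul_one, ← mul_assoc, ← hc, ← hab]
        have h1 := mul_left_cancel₀ hm0 this
        exact IsUnit.of_mul_eq_one c (by rw [mul_comm]; exact h1.symm)
      · left
        have hb : aeval T b = 0 := by
          apply LinearMap.ext
          intro w
          have : aeval T b w ∈ LinearMap.ker (aeval T a) := by
            rw [LinearMap.mem_ker]
            have := congrArg (fun S : Module.End (ZMod q) V => S w) h0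
            simpa using this
          rw [ha] at this
          simpa using this
        obtain ⟨c, hc⟩ := hmdvd b hb
        have : m * 1 = m * (c * a) := by rw [mul_one, ← mul_assoc, ← hc, mul_comm b a, ← hab]
        have h1 := mul_left_cancel₀ hm0 this
        exact IsUnit.of_mul_eq_one c (by rw [mul_comm]; exact h1.symm)
  have hdvd1 : m ∣ cyclotomic p (ZMod q) * (X - 1) := by
    rw [cyclotomic_prime_mul_X_sub_one]
    apply hmdvd
    simp [hTp]
  have hndvd : ¬ m ∣ X - 1 := by
    rintro ⟨c, hc⟩
    have : aeval T (X - 1 : (ZMod q)[X]) = 0 := by rw [hc, map_mul, hmT, zero_mul]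
    apply hT1
    have h2 : T - 1 = 0 := by simpa using this
    exact sub_eq_zero.mp h2
  have hdvdc : m ∣ cyclotomic p (ZMod q) := (hirrm.prime.dvd_or_dvd hdvd1).resolve_right hndvd
  have hcop : q.Coprime p := (Nat.coprime_primes hq.out hp.out).mpr hpq
  have hdeg : m.natDegree = orderOf (q : ZMod p) := by
    have h := natDegree_of_dvd_cyclotomic_of_irreducible (K := ZMod q) (p := q) (f := 1) (n := p)
      (by rw [ZMod.card, pow_one]) hcop hdvdc hirrm
    rw [h, ← orderOf_units, ZMod.coe_unitOfCoprime]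
    simp
  obtain ⟨n, hn⟩ : ∃ n, n = m.natDegree := ⟨_, rfl⟩
  have hdegm : m.degree = (n : WithBot ℕ) := by rw [hn]; exact Polynomial.degree_eq_natDegree hm0
  let ψ : (ZMod q)[X] →ₗ[ZMod q] V := (LinearMap.applyₗ v).comp (aeval T).toLinearMap
  have hψ : ∀ f, ψ f = aeval T f v := fun f => rfl
  have hrange : LinearMap.range ψ = ⊤ := by
    rcases hirr (LinearMap.range ψ) (by
      rintro w ⟨f, rfl⟩
      refine ⟨X * f, ?_⟩
      rw [hψ, hψ, map_mul, aeval_X]; rfl) with h | h
    · exfalso
      have : v ∈ LinearMap.range ψ := ⟨1, by rw [hψ, map_one]; rfl⟩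
      rw [h] at this
      exact hv ((Submodule.mem_bot _).mp this)
    · exact h
  let φ : degreeLT (ZMod q) n →ₗ[ZMod q] V := ψ.comp (degreeLT (ZMod q) n).subtype
  have hinj : Function.Injective φ := by
    rw [← LinearMap.ker_eq_bot, LinearMap.ker_eq_bot']
    rintro ⟨f, hf⟩ hφ
    have h1 : aeval T f v = 0 := hφ
    have h2 := hmdvd f (hkill f h1)
    rw [mem_degreeLT] at hf
    have : f = 0 := eq_zero_of_dvd_of_degree_lt h2 (by rw [hdegm]; exact hf)
    exact Subtype.ext this
  have hsurj : Function.Surjective φ := by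
    intro w
    have : w ∈ LinearMap.range ψ := by rw [hrange]; trivial
    obtain ⟨f, rfl⟩ := this
    refine ⟨⟨f %ₘ m, ?_⟩, ?_⟩
    · rw [mem_degreeLT, ← hdegm]; exact degree_modByMonic_lt f hmon
    · show aeval T (f %ₘ m) v = aeval T f v
      rw [aeval_modByMonic_eq_self_of_root hmT]
  have e : degreeLT (ZMod q) n ≃ₗ[ZMod q] V := LinearEquiv.ofBijective φ ⟨hinj, hsurj⟩
  rw [← Nat.card_congr e.toEquiv, Nat.card_congr (degreeLTEquiv (ZMod q) n).toEquiv, Nat.card_fun,
    Nat.card_zmod, Nat.card_fin, ← hdeg, hn]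

/-- Group version (auxiliary form with the module structure as an instance argument). -/
theorem card_of_irred_aut_aux {q p : ℕ} [Fact q.Prime] [Fact p.Prime] (hpq : q ≠ p)
    {A : Type*} [CommGroup A] [Finite A] [Module (ZMod q) (Additive A)]
    (φ : MulAut A) (hφp : φ ^ p = 1) (hφ1 : ∃ a, φ a ≠ a)
    (hirr : ∀ B : Subgroup A, (∀ b ∈ B, φ b ∈ B) → B = ⊥ ∨ B = ⊤) :
    Nat.card A = q ^ orderOf (q : ZMod p) := by
  let T : Additive A →ₗ[ZMod q] Additive A :=
    AddMonoidHom.toZModLinearMap q (MonoidHom.toAdditive φ.toMonoidHom)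
  have hT : ∀ v : Additive A, T v = Additive.ofMul (φ (Additive.toMul v)) := fun v => rfl
  have hTn : ∀ (n : ℕ) (v : Additive A), (T ^ n) v = Additive.ofMul ((φ ^ n) (Additive.toMul v)) := by
    intro n
    induction n with
    | zero => intro v; simp
    | succ k ih =>
      intro v
      rw [pow_succ', Module.End.mul_apply, ih, hT, pow_succ', MulAut.mul_apply]
      rfl
  have h := card_of_irred_prime_order hpq T (by
      apply LinearMap.ext
      intro v
      rw [hTn, hφp]; rfl) (by
      intro h1
      obtain ⟨a, ha⟩ := hφ1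
      apply ha
      have := congrArg (fun S : Additive A →ₗ[ZMod q] Additive A => S (Additive.ofMul a)) h1
      exact this) (by
      intro W hW
      let B : Subgroup A :=
        { carrier := {a | Additive.ofMul a ∈ W}
          mul_mem' := fun ha hb => W.add_mem ha hb
          one_mem' := W.zero_mem
          inv_mem' := fun ha => W.neg_mem ha }
      rcases hirr B (fun b hb => hW _ hb) with h | h
      · left
        rw [Submodule.eq_bot_iff]
        intro w hw
        have : Additive.toMul w ∈ B := hw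
        rw [h, Subgroup.mem_bot] at this
        exact this
      · right
        rw [Submodule.eq_top_iff']
        intro w
        have : Additive.toMul w ∈ B := by rw [h]; trivial
        exact this)
  exact h

/-- Group version for a `CommGroup`. -/
theorem card_of_irred_aut_comm {q p : ℕ} [Fact q.Prime] [Fact p.Prime] (hpq : q ≠ p)
    {A : Type*} [CommGroup A] [Finite A] (hexp : ∀ a : A, a ^ q = 1)
    (φ : MulAut A) (hφp : φ ^ p = 1) (hφ1 : ∃ a, φ a ≠ a)
    (hirr : ∀ B : Subgroup A, (∀ b ∈ B, φ b ∈ B) → B = ⊥ ∨ B = ⊤) :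
    Nat.card A = q ^ orderOf (q : ZMod p) :=
  @card_of_irred_aut_aux q p _ _ hpq A _ _
    (AddCommGroup.zmodModule (fun a => hexp (Additive.toMul a))) φ hφp hφ1 hirr

/-- Group version: an automorphism `φ` of a finite abelian group of exponent `q`, with `φ^p = 1`,
`φ ≠ 1`, leaving no proper nontrivial subgroup invariant: the group has order `q ^ ord_p(q)`. -/
theorem card_of_irred_aut {q p : ℕ} [Fact q.Prime] [Fact p.Prime] (hpq : q ≠ p)
    {A : Type*} [Group A] [Finite A] (hcomm : ∀ a b : A, a * b = b * a) (hexp : ∀ a : A, a ^ q = 1)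
    (φ : MulAut A) (hφp : φ ^ p = 1) (hφ1 : ∃ a, φ a ≠ a)
    (hirr : ∀ B : Subgroup A, (∀ b ∈ B, φ b ∈ B) → B = ⊥ ∨ B = ⊤) :
    Nat.card A = q ^ orderOf (q : ZMod p) :=
  @card_of_irred_aut_comm q p _ _ hpq A { ‹Group A› with mul_comm := hcomm } _ hexp φ hφp hφ1 hirr

/-- Subgroup version (conjugation by `x` on a normal abelian subgroup `A` of exponent `q`). -/
theorem card_of_irred_conj {G : Type*} [Group G] [Finite G] {q p : ℕ} [Fact q.Prime] [Fact p.Prime]
    (hpq : q ≠ p) (A : Subgroup G) [A.Normal] (hcomm : ∀ a ∈ A, ∀ b ∈ A, a * b = b * a)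
    (hexp : ∀ a ∈ A, a ^ q = 1) (x : G) (hxp : ∀ a ∈ A, x ^ p * a * (x ^ p)⁻¹ = a)
    (hx1 : ∃ a ∈ A, x * a * x⁻¹ ≠ a)
    (hirr : ∀ B : Subgroup G, B ≤ A → (∀ b ∈ B, x * b * x⁻¹ ∈ B) → B = ⊥ ∨ B = A) :
    Nat.card A = q ^ orderOf (q : ZMod p) := by
  refine card_of_irred_aut hpq (fun a b => Subtype.ext (hcomm a a.2 b b.2))
    (fun a => Subtype.ext (hexp a a.2)) (MulAut.conjNormal x : MulAut A) ?_ ?_ ?_
  · rw [← map_pow]
    ext a
    rw [MulAut.conjNormal_apply]
    exact hxp a a.2
  · obtain ⟨a, ha, hne⟩ := hx1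
    refine ⟨⟨a, ha⟩, fun h => hne ?_⟩
    have := congrArg Subtype.val h
    rw [MulAut.conjNormal_apply] at this
    exact this
  · intro B hB
    rcases hirr (B.map A.subtype) (Subgroup.map_subtype_le B) (by
      rintro _ ⟨b, hb, rfl⟩
      refine ⟨_, hB b hb, ?_⟩
      rw [Subgroup.coe_subtype, MulAut.conjNormal_apply]) with h | h
    · left
      exact (Subgroup.map_eq_bot_iff_of_injective B A.subtype_injective).mp h
    · right
      rw [eq_top_iff]
      intro a _
      have : (a : G) ∈ B.map A.subtype := by rw [h]; exact a.2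
      obtain ⟨b, hb, hba⟩ := this
      have : b = a := Subtype.ext hba
      rw [← this]; exact hb

end Cfsg.Agent.Helper1
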