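import Mathlib

set_option autoImplicit false

namespace Cfsg.Agent.Helper1.O504E1

variable {G : Type*} [Group G] [Finite G] [IsSimpleGroup G]

theorem no_central_elt (h : Nat.card G = 504) (T : Sylow 2 G)
    (hab : ∀ a ∈ (T : Subgroup G), ∀ b ∈ (T : Subgroup G), a * b = b * a) (a : G)
    (haT : a ∈ (T : Subgroup G)) (ha1 : a ≠ 1)
    (hcen : ∀ n ∈ Subgroup.normalizer ((T : Subgroup G) : Set G), n * a = a * n) : False := by
  classical
  haveI : Fact (Nat.Prime 2) := ⟨Nat.prime_two⟩
  letI : CommGroup ↥(T : Subgroup G) :=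
    { (inferInstance : Group ↥(T : Subgroup G)) with
      mul_comm := fun x y => Subtype.ext (hab x x.2 y y.2) }
  have hTcard : Nat.card (T : Subgroup G) = 8 := by
    obtain ⟨k, hk⟩ := T.2.exists_card_eq
    have h1 := Subgroup.card_mul_index (T : Subgroup G)
    have h2 := T.not_dvd_index
    rw [h, hk] at h1
    rw [hk]
    have hk9 : k < 9 := by
      by_contra hcon
      push Not at hcon
      have h3 : 2 ^ 9 ≤ 2 ^ k := Nat.pow_le_pow_right (by norm_num) hcon
      have hpos : 0 < (T : Subgroup G).index :=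
        Nat.pos_of_ne_zero (fun h0 => by rw [h0] at h1; omega)
      nlinarith
    interval_cases k <;> norm_num at h1 ⊢ <;> omega
  have hidx : (T : Subgroup G).index = 63 := by
    have h1 := Subgroup.card_mul_index (T : Subgroup G)
    rw [hTcard, h] at h1
    omega
  have hle : (T : Subgroup G) ≤ Subgroup.centralizer ((T : Subgroup G) : Set G) := by
    intro x hx
    rw [Subgroup.mem_centralizer_iff]
    intro y hy
    exact hab y hy x hx
  have key : ∀ (k : ℕ) (g₀ : G), g₀⁻¹ * a ^ k * g₀ ∈ (T : Subgroup G) →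
      g₀⁻¹ * a ^ k * g₀ = a ^ k := by
    intro k g₀ hk
    obtain ⟨n, hn, hn'⟩ := Sylow.conj_eq_normalizer_conj_of_mem_centralizer T (a ^ k) g₀
      (hle (pow_mem haT k)) (hle hk)
    rw [hn']
    have hc : n * a ^ k = a ^ k * n := Commute.pow_right (hcen n hn) k
    rw [mul_assoc, ← hc, ← mul_assoc, inv_mul_cancel, one_mul]
  have hV := MonoidHom.transfer_eq_pow (MonoidHom.id ↥(T : Subgroup G)) a key
  rcases (MonoidHom.normal_ker
    (MonoidHom.transfer (MonoidHom.id ↥(T : Subgroup G)))).eq_bot_or_eq_top with hk | hk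
  · have hinj : Function.Injective (MonoidHom.transfer (MonoidHom.id ↥(T : Subgroup G))) :=
      (MonoidHom.ker_eq_bot_iff _).mp hk
    have h1 := Nat.card_le_card_of_injective _ hinj
    rw [h, hTcard] at h1
    omega
  · have h1 : a ∈ (MonoidHom.transfer (MonoidHom.id ↥(T : Subgroup G))).ker := by
      rw [hk]; trivial
    rw [MonoidHom.mem_ker, hV] at h1
    have h2 : a ^ (T : Subgroup G).index = 1 := by
      have h3 := congrArg Subtype.val h1
      simpa using h3
    rw [hidx] at h2
    have h3 : orderOf a ∣ 63 := orderOf_dvd_of_pow_eq_one h2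
    have h4 : orderOf a ∣ 8 := by rw [← hTcard]; exact Subgroup.orderOf_dvd_natCard _ haT
    have h6 : orderOf a ∣ Nat.gcd 63 8 := Nat.dvd_gcd h3 h4
    have h7 : Nat.gcd 63 8 = 1 := by decide
    rw [h7, Nat.dvd_one] at h6
    exact ha1 (orderOf_eq_one_iff.mp h6)

end Cfsg.Agent.Helper1.O504E1
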