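import Mathlib
import Cfsg.Agent.S0804

/-!
Helper library (helper1): the binary icosahedral presentation
`⟨x, y, z | x³ = y⁵ = z² = 1, [z, x] = [z, y] = 1, (xy)² = z⟩` of `SL₂(5)`, and an embedding of
`SL₂(5)` into `SL₂(11)`.
-/

set_option autoImplicit false

namespace Cfsg.Agent.Helper1.SL25

open Cfsg Cfsg.Agent.Helper12 Cfsg.Agent.Helper23.QP
open scoped commutatorElement

/-- the relators -/
abbrev rels3 : Set (FreeGroup (Fin 3)) :=
  {FreeGroup.of (0 : Fin 3) ^ 3, FreeGroup.of (1 : Fin 3) ^ 5, FreeGroup.of (2 : Fin 3) ^ 2,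
    (FreeGroup.of (2 : Fin 3))⁻¹ * FreeGroup.of 0 * FreeGroup.of 2 * (FreeGroup.of (0 : Fin 3))⁻¹,
    (FreeGroup.of (2 : Fin 3))⁻¹ * FreeGroup.of 1 * FreeGroup.of 2 * (FreeGroup.of (1 : Fin 3))⁻¹,
    (FreeGroup.of (0 : Fin 3) * FreeGroup.of 1) ^ 2 * (FreeGroup.of (2 : Fin 3))⁻¹}

/-- generators -/
def X : PresentedGroup rels3 := PresentedGroup.of 0
/-- generators -/
def Y : PresentedGroup rels3 := PresentedGroup.of 1
/-- generators -/
def Z : PresentedGroup rels3 := PresentedGroup.of 2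

theorem X3 : X ^ 3 = 1 := by
  have : PresentedGroup.mk rels3 (FreeGroup.of (0 : Fin 3) ^ 3) = 1 :=
    PresentedGroup.one_of_mem (by simp [rels3])
  rw [map_pow] at this
  exact this

theorem Y5 : Y ^ 5 = 1 := by
  have : PresentedGroup.mk rels3 (FreeGroup.of (1 : Fin 3) ^ 5) = 1 :=
    PresentedGroup.one_of_mem (by simp [rels3])
  rw [map_pow] at this
  exact this

theorem Z2 : Z ^ 2 = 1 := by
  have : PresentedGroup.mk rels3 (FreeGroup.of (2 : Fin 3) ^ 2) = 1 :=
    PresentedGroup.one_of_mem (by simp [rels3])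
  rw [map_pow] at this
  exact this

theorem ZX : Z⁻¹ * X * Z * X⁻¹ = 1 := by
  have : PresentedGroup.mk rels3 ((FreeGroup.of (2 : Fin 3))⁻¹ * FreeGroup.of 0 * FreeGroup.of 2 *
      (FreeGroup.of (0 : Fin 3))⁻¹) = 1 :=
    PresentedGroup.one_of_mem (by simp [rels3])
  simp only [map_mul, map_inv] at this
  exact this

theorem ZY : Z⁻¹ * Y * Z * Y⁻¹ = 1 := by
  have : PresentedGroup.mk rels3 ((FreeGroup.of (2 : Fin 3))⁻¹ * FreeGroup.of 1 * FreeGroup.of 2 *
      (FreeGroup.of (1 : Fin 3))⁻¹) = 1 :=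
    PresentedGroup.one_of_mem (by simp [rels3])
  simp only [map_mul, map_inv] at this
  exact this

theorem XYZ : (X * Y) ^ 2 * Z⁻¹ = 1 := by
  have : PresentedGroup.mk rels3 ((FreeGroup.of (0 : Fin 3) * FreeGroup.of 1) ^ 2 *
      (FreeGroup.of (2 : Fin 3))⁻¹) = 1 :=
    PresentedGroup.one_of_mem (by simp [rels3])
  simp only [map_mul, map_inv, map_pow] at this
  exact this

/-- von Dyck for the presentation -/
theorem lift_exists {K : Type*} [Group K] (x y z : K) (hx : x ^ 3 = 1) (hy : y ^ 5 = 1)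
    (hz : z ^ 2 = 1) (hzx : z⁻¹ * x * z * x⁻¹ = 1) (hzy : z⁻¹ * y * z * y⁻¹ = 1)
    (hxy : (x * y) ^ 2 * z⁻¹ = 1) :
    ∃ f : PresentedGroup rels3 →* K, f X = x ∧ f Y = y ∧ f Z = z := by
  refine ⟨PresentedGroup.toGroup (f := ![x, y, z]) ?_, ?_, ?_, ?_⟩
  · intro r hr
    simp only [rels3, Set.mem_insert_iff, Set.mem_singleton_iff] at hr
    rcases hr with rfl | rfl | rfl | rfl | rfl | rfl
    · simpa using hx
    · simpa using hy
    · simpa using hz
    · simpa using hzx
    · simpa using hzy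
    · simpa using hxy
  · simp [X]
  · simp [Y]
  · simp [Z]

theorem closure_XYZ : Subgroup.closure ({X, Y, Z} : Set (PresentedGroup rels3)) = ⊤ := by
  have h := PresentedGroup.closure_range_of rels3
  rw [← h]
  congr 1
  ext g
  constructor
  · rintro (rfl | rfl | rfl)
    · exact ⟨0, rfl⟩
    · exact ⟨1, rfl⟩
    · exact ⟨2, rfl⟩
  · rintro ⟨i, rfl⟩
    fin_cases i
    · left; rfl
    · right; left; rfl
    · right; right; rfl

theorem Z_central : Z ∈ Subgroup.center (PresentedGroup rels3) := by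
  have hX : X ∈ Subgroup.centralizer ({Z} : Set (PresentedGroup rels3)) := by
    rw [Subgroup.mem_centralizer_singleton_iff]
    have := ZX
    rw [mul_inv_eq_one, mul_assoc, inv_mul_eq_iff_eq_mul] at this
    exact this
  have hY : Y ∈ Subgroup.centralizer ({Z} : Set (PresentedGroup rels3)) := by
    rw [Subgroup.mem_centralizer_singleton_iff]
    have := ZY
    rw [mul_inv_eq_one, mul_assoc, inv_mul_eq_iff_eq_mul] at this
    exact this
  have hZ : Z ∈ Subgroup.centralizer ({Z} : Set (PresentedGroup rels3)) := by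
    rw [Subgroup.mem_centralizer_singleton_iff]
  have hle : Subgroup.closure ({X, Y, Z} : Set (PresentedGroup rels3)) ≤
      Subgroup.centralizer ({Z} : Set (PresentedGroup rels3)) := by
    rw [Subgroup.closure_le]
    rintro g (rfl | rfl | rfl)
    · exact hX
    · exact hY
    · exact hZ
  rw [closure_XYZ] at hle
  rw [Subgroup.mem_center_iff]
  intro g
  have := hle (Subgroup.mem_top g)
  rw [Subgroup.mem_centralizer_singleton_iff] at this
  exact this

instance zpowers_Z_normal : (Subgroup.zpowers Z).Normal := by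
  constructor
  intro n hn g
  obtain ⟨k, rfl⟩ := Subgroup.mem_zpowers_iff.mp hn
  have hc : Z ^ k ∈ Subgroup.center (PresentedGroup rels3) := Subgroup.zpow_mem _ Z_central k
  rw [Subgroup.mem_center_iff] at hc
  rw [hc g, mul_inv_cancel_right]
  exact Subgroup.zpow_mem _ (Subgroup.mem_zpowers Z) k

theorem finite_and_card : Finite (PresentedGroup rels3) ∧ Nat.card (PresentedGroup rels3) ≤ 120 := by
  haveI := Cfsg.Agent.S3377.P_finite
  -- the quotient by ⟨Z⟩ is an image of the (2,3,5) group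
  let Q := PresentedGroup rels3 ⧸ Subgroup.zpowers Z
  let q : PresentedGroup rels3 →* Q := QuotientGroup.mk' _
  have hqZ : q Z = 1 := by
    rw [QuotientGroup.mk'_apply, QuotientGroup.eq_one_iff]
    exact Subgroup.mem_zpowers Z
  have hrel : ∀ r ∈ Cfsg.Agent.S3377.rels, FreeGroup.lift ![q X, q Y] r = 1 := by
    intro r hr
    simp only [Cfsg.Agent.S3377.rels, Set.mem_insert_iff, Set.mem_singleton_iff] at hr
    rcases hr with rfl | rfl | rfl
    · simp only [map_pow, FreeGroup.lift_apply_of, Matrix.cons_val_zero]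
      rw [← map_pow, X3, map_one]
    · simp only [map_pow, FreeGroup.lift_apply_of, Matrix.cons_val_one, Matrix.cons_val_zero]
      rw [← map_pow, Y5, map_one]
    · simp only [map_pow, map_mul, FreeGroup.lift_apply_of, Matrix.cons_val_one,
        Matrix.cons_val_zero]
      rw [← map_mul, ← map_pow]
      have h1 : (X * Y) ^ 2 = Z := by
        have := XYZ
        rwa [mul_inv_eq_one] at this
      rw [h1, hqZ]
  let g : PresentedGroup Cfsg.Agent.S3377.rels →* Q := PresentedGroup.toGroup hrel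
  have hg0 : g (PresentedGroup.of 0) = q X := by simp [g]
  have hg1 : g (PresentedGroup.of 1) = q Y := by simp [g]
  have hsurj : Function.Surjective g := by
    rw [← MonoidHom.range_eq_top]
    have hqs : Function.Surjective q := QuotientGroup.mk'_surjective _
    have h1 : (Subgroup.closure ({X, Y, Z} : Set (PresentedGroup rels3))).map q ≤ g.range := by
      rw [MonoidHom.map_closure, Subgroup.closure_le]
      rintro _ ⟨w, (rfl | rfl | rfl), rfl⟩
      · exact ⟨_, hg0⟩
      · exact ⟨_, hg1⟩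
      · rw [hqZ]; exact Subgroup.one_mem _
    rw [closure_XYZ, ← MonoidHom.range_eq_map, MonoidHom.range_eq_top.mpr hqs] at h1
    exact top_le_iff.mp h1
  haveI : Finite Q := Finite.of_surjective g hsurj
  have hQ : Nat.card Q ≤ 60 := by
    have h1 := Nat.card_le_card_of_surjective g hsurj
    have h2 := Cfsg.Agent.S3377.P_card
    omega
  have hZo : Nat.card (Subgroup.zpowers Z) ≤ 2 := by
    rw [Nat.card_zpowers]
    exact orderOf_le_of_pow_eq_one (by norm_num) Z2
  haveI : Finite (Subgroup.zpowers Z) := by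
    apply Nat.finite_of_card_ne_zero
    rw [Nat.card_zpowers]
    exact (orderOf_pos_iff.2 (isOfFinOrder_iff_pow_eq_one.2 ⟨2, by norm_num, Z2⟩)).ne'
  haveI : Finite (PresentedGroup rels3) :=
    Finite.of_equiv _ (Subgroup.groupEquivQuotientProdSubgroup (s := Subgroup.zpowers Z)).symm
  refine ⟨inferInstance, ?_⟩
  rw [Subgroup.card_eq_card_quotient_mul_card_subgroup (Subgroup.zpowers Z)]
  calc Nat.card (PresentedGroup rels3 ⧸ Subgroup.zpowers Z) * Nat.card (Subgroup.zpowers Z)
      ≤ 60 * 2 := Nat.mul_le_mul hQ hZo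
    _ = 120 := by norm_num

/-- von Dyck for the presentation, friendlier hypotheses -/
theorem lift_exists' {K : Type*} [Group K] (x y z : K) (hx : x ^ 3 = 1) (hy : y ^ 5 = 1)
    (hz : z ^ 2 = 1) (hzx : x * z = z * x) (hzy : y * z = z * y) (hxy : (x * y) ^ 2 = z) :
    ∃ f : PresentedGroup rels3 →* K, f X = x ∧ f Y = y ∧ f Z = z := by
  apply lift_exists x y z hx hy hz
  · rw [mul_assoc z⁻¹ x z, hzx, inv_mul_cancel_left, mul_inv_cancel]
  · rw [mul_assoc z⁻¹ y z, hzy, inv_mul_cancel_left, mul_inv_cancel]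
  · rw [hxy, mul_inv_cancel]

/-! ### `SL₂(5)` -/

/-- `5` is prime -/
instance fact_prime_5 : Fact (Nat.Prime 5) := ⟨by norm_num⟩
/-- `11` is prime -/
instance fact_prime_11 : Fact (Nat.Prime 11) := ⟨by norm_num⟩

theorem five_eq_zero : (5 : ZMod 5) = 0 := by
  exact_mod_cast CharP.cast_eq_zero (ZMod 5) 5

theorem eleven_eq_zero : (11 : ZMod 11) = 0 := by
  exact_mod_cast CharP.cast_eq_zero (ZMod 11) 11

theorem negOne_comm {F : Type*} [Field F] (g : Matrix.SpecialLinearGroup (Fin 2) F) :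
    g * sl2NegOne = sl2NegOne * g :=
  (Subgroup.mem_center_iff.mp sl2NegOne_mem_center) g

theorem negOne_sq {F : Type*} [Field F] :
    (sl2NegOne : Matrix.SpecialLinearGroup (Fin 2) F) ^ 2 = 1 := by
  rw [pow_two]
  apply Subtype.ext
  simp [sl2NegOne, Matrix.one_fin_two]

/-- an element of order 3 -/
def x5 : Matrix.SpecialLinearGroup (Fin 2) (ZMod 5) := sl2mk 0 (-1) 1 (-1) (by ring)
/-- an element of order 5 -/
def y5 : Matrix.SpecialLinearGroup (Fin 2) (ZMod 5) := sl2mk 1 1 0 1 (by ring)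

theorem x5_3 : x5 ^ 3 = 1 :=
  Cfsg.Agent.S0804.pow3 x5 (by simp [trS, x5, Matrix.trace_fin_two_of])

theorem y5_5 : y5 ^ 5 = 1 :=
  Cfsg.Agent.S0804.pow5 y5 2 (by simp [trS, y5, Matrix.trace_fin_two_of]; norm_num)
    (by linear_combination (1 : ZMod 5) * five_eq_zero)

theorem xy5 : (x5 * y5) ^ 2 = sl2NegOne := by
  rw [pow_two]
  exact sq_of_trace_zero _ (by
    simp [trS, x5, y5, Matrix.trace_fin_two, Matrix.mul_apply, Fin.sum_univ_two])

theorem exists_f5 : ∃ f : PresentedGroup rels3 →* Matrix.SpecialLinearGroup (Fin 2) (ZMod 5),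
    f X = x5 ∧ f Y = y5 ∧ f Z = sl2NegOne :=
  lift_exists' x5 y5 sl2NegOne x5_3 y5_5 negOne_sq (negOne_comm _) (negOne_comm _) xy5

theorem f5_surj (f : PresentedGroup rels3 →* Matrix.SpecialLinearGroup (Fin 2) (ZMod 5))
    (hX : f X = x5) (hY : f Y = y5) : Function.Surjective f := by
  rw [← MonoidHom.range_eq_top]
  have hy : sl2U (1 : ZMod 5) ∈ f.range := ⟨Y, hY⟩
  have hx : x5 ∈ f.range := ⟨X, hX⟩
  have hxy : x5 * sl2U (1 : ZMod 5) ∈ f.range := mul_mem hx hy
  have h1 : ∀ t : ZMod 5, sl2U t ∈ f.range := by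
    intro t
    have : sl2U t = (sl2U (1 : ZMod 5)) ^ (ZMod.val t) := by
      rw [sl2U_pow, ZMod.natCast_zmod_val, mul_one]
    rw [this]
    exact Subgroup.pow_mem _ hy _
  refine sl2_generate (x5 * sl2U (1 : ZMod 5)) ?_ f.range h1 ?_
  · simp [x5, Matrix.mul_apply, Fin.sum_univ_two]
  · intro t
    exact mul_mem (mul_mem hxy (h1 t)) (inv_mem hxy)

theorem card_sl25 : Nat.card (Matrix.SpecialLinearGroup (Fin 2) (ZMod 5)) = 120 := by
  rw [sl2_card, ZMod.card]
  norm_num

/-- the presented group is `SL₂(5)` -/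
theorem exists_equiv : ∃ e : PresentedGroup rels3 ≃* Matrix.SpecialLinearGroup (Fin 2) (ZMod 5),
    e X = x5 ∧ e Y = y5 ∧ e Z = sl2NegOne := by
  obtain ⟨f, hX, hY, hZ⟩ := exists_f5
  obtain ⟨hfin, hcard⟩ := finite_and_card
  have hbij := (f5_surj f hX hY).bijective_of_nat_card_le (by rw [card_sl25]; exact hcard)
  exact ⟨MulEquiv.ofBijective f hbij, hX, hY, hZ⟩

theorem card_Pt : Nat.card (PresentedGroup rels3) = 120 := by
  obtain ⟨e, -⟩ := exists_equiv
  rw [Nat.card_congr e.toEquiv, card_sl25]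

/-- a normal subgroup of `SL₂(5)` not containing `-1` is trivial or everything -/
theorem normal_sl25 (K : Subgroup (Matrix.SpecialLinearGroup (Fin 2) (ZMod 5))) [K.Normal]
    (h1 : sl2NegOne ∉ K) (h2 : K ≠ ⊤) : K = ⊥ := by
  haveI hs : IsSimpleGroup (Matrix.ProjectiveSpecialLinearGroup (Fin 2) (ZMod 5)) :=
    Matrix.ProjectiveSpecialLinearGroup.rank_two_simple (by rw [Nat.card_eq_fintype_card, ZMod.card]; norm_num)
  have hπs : Function.Surjective (QuotientGroup.mk' (Subgroup.center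
      (Matrix.SpecialLinearGroup (Fin 2) (ZMod 5)))) := QuotientGroup.mk'_surjective _
  haveI : (K.map (QuotientGroup.mk' (Subgroup.center
      (Matrix.SpecialLinearGroup (Fin 2) (ZMod 5))))).Normal := Subgroup.Normal.map inferInstance _ hπs
  rcases Subgroup.Normal.eq_bot_or_eq_top (H := K.map (QuotientGroup.mk' (Subgroup.center
      (Matrix.SpecialLinearGroup (Fin 2) (ZMod 5))))) inferInstance with h | h
  · rw [Subgroup.eq_bot_iff_forall]
    intro k hk
    have hk1 : QuotientGroup.mk' (Subgroup.center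
        (Matrix.SpecialLinearGroup (Fin 2) (ZMod 5))) k ∈ K.map (QuotientGroup.mk' (Subgroup.center
        (Matrix.SpecialLinearGroup (Fin 2) (ZMod 5)))) := Subgroup.mem_map_of_mem _ hk
    rw [h, Subgroup.mem_bot, QuotientGroup.mk'_apply, QuotientGroup.eq_one_iff] at hk1
    rcases sl2_center_cases k hk1 with h3 | h3
    · exact h3
    · exact absurd (h3 ▸ hk) h1
  · exfalso
    apply h2
    have hdec : ∀ s : Matrix.SpecialLinearGroup (Fin 2) (ZMod 5), ∃ k ∈ K, ∃ c ∈ Subgroup.center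
        (Matrix.SpecialLinearGroup (Fin 2) (ZMod 5)), s = k * c := by
      intro s
      have hs1 : QuotientGroup.mk' (Subgroup.center
        (Matrix.SpecialLinearGroup (Fin 2) (ZMod 5))) s ∈ K.map (QuotientGroup.mk' (Subgroup.center
        (Matrix.SpecialLinearGroup (Fin 2) (ZMod 5)))) := by rw [h]; trivial
      obtain ⟨k, hk, hks⟩ := hs1
      refine ⟨k, hk, k⁻¹ * s, ?_, by rw [mul_inv_cancel_left]⟩
      rw [QuotientGroup.mk'_apply, QuotientGroup.mk'_apply, QuotientGroup.eq] at hks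
      exact hks
    have hcomm : commutator (Matrix.SpecialLinearGroup (Fin 2) (ZMod 5)) ≤ K := by
      rw [commutator_def, Subgroup.commutator_le]
      intro a _ b _
      have hφ : ∀ s : Matrix.SpecialLinearGroup (Fin 2) (ZMod 5), ∃ c ∈ Subgroup.center
          (Matrix.SpecialLinearGroup (Fin 2) (ZMod 5)),
          (QuotientGroup.mk' K) s = (QuotientGroup.mk' K) c := by
        intro s
        obtain ⟨k, hk, c, hc, rfl⟩ := hdec s
        refine ⟨c, hc, ?_⟩
        have : QuotientGroup.mk' K k = 1 := (QuotientGroup.eq_one_iff k).mpr hk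
        rw [map_mul, this, one_mul]
      obtain ⟨c1, hc1, e1⟩ := hφ a
      obtain ⟨c2, hc2, e2⟩ := hφ b
      rw [← QuotientGroup.eq_one_iff, ← QuotientGroup.mk'_apply, commutatorElement_def, map_mul,
        map_mul, map_mul, map_inv, map_inv, e1, e2, ← map_inv, ← map_inv, ← map_mul, ← map_mul,
        ← map_mul]
      have : c1 * c2 * c1⁻¹ * c2⁻¹ = 1 := by
        rw [Subgroup.mem_center_iff] at hc1
        rw [← hc1 c2, mul_inv_cancel_right, mul_inv_cancel]
      rw [this, map_one]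
    have htop : commutator (Matrix.SpecialLinearGroup (Fin 2) (ZMod 5)) = ⊤ :=
      Matrix.SL2.commutator_eq_top (a := (2 : ZMod 5)) (by decide) (by decide)
    rw [htop] at hcomm
    exact top_le_iff.mp hcomm

/-! ### `SL₂(11)` -/

/-- an element of order 3 in `SL₂(11)` -/
def a11 : Matrix.SpecialLinearGroup (Fin 2) (ZMod 11) :=
  sl2mk 2 1 4 (-3) (by linear_combination (-1 : ZMod 11) * eleven_eq_zero)
/-- an element of order 4 in `SL₂(11)` -/
def c11 : Matrix.SpecialLinearGroup (Fin 2) (ZMod 11) := sl2mk 0 1 (-1) 0 (by ring)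

theorem a11_3 : a11 ^ 3 = 1 :=
  Cfsg.Agent.S0804.pow3 a11 (by simp [trS, a11, Matrix.trace_fin_two_of]; norm_num)

theorem ac11_5 : (a11 * c11) ^ 5 = 1 :=
  Cfsg.Agent.S0804.pow5 (a11 * c11) 3
    (by simp [trS, a11, c11, Matrix.trace_fin_two, Matrix.mul_apply, Fin.sum_univ_two]; norm_num)
    (by linear_combination (1 : ZMod 11) * eleven_eq_zero)

theorem c11_sq : c11 * c11 = sl2NegOne :=
  sq_of_trace_zero c11 (by simp [trS, c11, Matrix.trace_fin_two_of])

theorem exists_f11 : ∃ f : PresentedGroup rels3 →* Matrix.SpecialLinearGroup (Fin 2) (ZMod 11),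
    f X = a11⁻¹ ∧ f Y = a11 * c11 ∧ f Z = sl2NegOne :=
  lift_exists' a11⁻¹ (a11 * c11) sl2NegOne (by rw [inv_pow, a11_3, inv_one]) ac11_5 negOne_sq
    (negOne_comm _) (negOne_comm _) (by rw [inv_mul_cancel_left, pow_two, c11_sq])

theorem two_ne_zero_11 : (2 : ZMod 11) ≠ 0 := by decide

theorem f11_inj (f : PresentedGroup rels3 →* Matrix.SpecialLinearGroup (Fin 2) (ZMod 11))
    (hX : f X = a11⁻¹) (hZ : f Z = sl2NegOne) : Function.Injective f := by
  obtain ⟨e, eX, eY, eZ⟩ := exists_equiv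
  have hker : (f.comp e.symm.toMonoidHom).ker = ⊥ := by
    apply normal_sl25
    · rw [MonoidHom.mem_ker, MonoidHom.comp_apply, MulEquiv.coe_toMonoidHom, ← eZ,
        MulEquiv.symm_apply_apply, hZ]
      exact sl2NegOne_ne_one two_ne_zero_11
    · intro h
      have h1 : x5 ∈ (f.comp e.symm.toMonoidHom).ker := by rw [h]; trivial
      rw [MonoidHom.mem_ker, MonoidHom.comp_apply, MulEquiv.coe_toMonoidHom, ← eX,
        MulEquiv.symm_apply_apply, hX, inv_eq_one] at h1
      have h2 := congrArg (fun g : Matrix.SpecialLinearGroup (Fin 2) (ZMod 11) => g.1 0 1) h1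
      simp [a11] at h2
  have hinj : Function.Injective (f.comp e.symm.toMonoidHom) :=
    (MonoidHom.ker_eq_bot_iff _).mp hker
  intro a b hab
  apply e.injective
  apply hinj
  simp only [MonoidHom.comp_apply, MulEquiv.coe_toMonoidHom, MulEquiv.symm_apply_apply]
  exact hab

/-- `SL₂(5)` embeds in `SL₂(11)` -/
theorem exists_emb : ∃ j : Matrix.SpecialLinearGroup (Fin 2) (ZMod 5) →*
    Matrix.SpecialLinearGroup (Fin 2) (ZMod 11), Function.Injective j := by
  obtain ⟨e, -⟩ := exists_equiv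
  obtain ⟨f, hX, hY, hZ⟩ := exists_f11
  exact ⟨f.comp e.symm.toMonoidHom, (f11_inj f hX hZ).comp e.symm.injective⟩

end Cfsg.Agent.Helper1.SL25
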