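import Mathlib
import Cfsg.Agent.Helper1.SL25
import Cfsg.Agent.S0144
import Cfsg.Agent.S0494
import Cfsg.Agent.Helper16.NPC

/-!
Helper library (helper1): small-order solvability facts and the identification of the
non-solvable groups of order 120 with quaternion Sylow 2-subgroups.
-/

set_option autoImplicit false

namespace Cfsg.Agent.Helper1.Ord120

open Cfsg Cfsg.Agent.Helper12 Cfsg.Agent.Helper23.QP Cfsg.Agent.Helper1.SL25

theorem solv_pq {X : Type*} [Group X] [Finite X] (p q a b : ℕ) (hp : p.Prime) (hq : q.Prime)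
    (h : Nat.card X = p ^ a * q ^ b) : Group.IsSolvable X :=
  Cfsg.Agent.S0144.result p q a b hp hq h

/-- the order of a Sylow subgroup when `p` divides the order exactly once -/
theorem sylow_card {X : Type*} [Group X] [Finite X] (p : ℕ) [Fact p.Prime] (P : Sylow p X)
    (m : ℕ) (hm : Nat.card X = p * m) (hpm : ¬ p ∣ m) : Nat.card P = p := by
  have hp : p.Prime := Fact.out
  obtain ⟨k, hk⟩ := P.isPGroup'.exists_card_eq
  have hidx := (P : Subgroup X).card_mul_index
  have hnd := P.not_dvd_index
  rw [hk, hm] at hidx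
  rcases k with _ | _ | k
  · exfalso
    rw [pow_zero, one_mul] at hidx
    exact hnd (hidx ▸ dvd_mul_right p m)
  · rw [hk]; simp
  · exfalso
    apply hpm
    have h1 : p ^ (k + 1 + 1) * (P : Subgroup X).index = p * (p * (p ^ k * (P : Subgroup X).index)) := by
      ring
    rw [h1] at hidx
    have h2 := Nat.eq_of_mul_eq_mul_left hp.pos hidx
    exact h2 ▸ dvd_mul_right p _

theorem solv30 {X : Type*} [Group X] [Finite X] (h : Nat.card X = 30) : Group.IsSolvable X := by
  haveI : Fact (Nat.Prime 2) := ⟨Nat.prime_two⟩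
  obtain ⟨P⟩ : Nonempty (Sylow 2 X) := inferInstance
  have hP : Nat.card P = 2 := sylow_card 2 P 15 (by rw [h]) (by norm_num)
  haveI : IsCyclic (P : Subgroup X) := isCyclic_of_prime_card hP
  obtain ⟨N, k, hN, hcop, hk⟩ := Cfsg.Agent.Helper16.npc_exists
    (Cfsg.Agent.Helper16.npc_of_cyclic_sylow_two P inferInstance)
  haveI := hN
  have hc := N.card_mul_index
  rw [hk, h] at hc
  have hk1 : k = 1 := by
    rcases k with _ | _ | k
    · exfalso
      rw [pow_zero, mul_one] at hc
      rw [hc] at hcop
      norm_num at hcop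
    · rfl
    · exfalso
      have : (4 : ℕ) ∣ 30 := by
        rw [← hc]
        exact Dvd.dvd.mul_left (by rw [pow_succ, pow_succ]; exact ⟨2 ^ k, by ring⟩) _
      norm_num at this
  rw [hk1, pow_one] at hc hk
  have hN15 : Nat.card N = 15 := by omega
  haveI : Group.IsSolvable N := solv_pq 3 5 1 1 (by norm_num) (by norm_num) (by rw [hN15]; norm_num)
  haveI : Group.IsSolvable (X ⧸ N) :=
    solv_pq 2 3 1 0 (by norm_num) (by norm_num) (by rw [← Subgroup.index_eq_card, hk]; norm_num)
  exact solvable_of_ker_le_range N.subtype (QuotientGroup.mk' N) (by simp)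

theorem solv_small {X : Type*} [Group X] [Finite X] (hd : Nat.card X ∣ 60)
    (hne : Nat.card X ≠ 60) : Group.IsSolvable X := by
  have hmem : Nat.card X ∈ Nat.divisors 60 := Nat.mem_divisors.mpr ⟨hd, by norm_num⟩
  have hdiv : Nat.divisors 60 = {1, 2, 3, 4, 5, 6, 10, 12, 15, 20, 30, 60} := by decide
  rw [hdiv] at hmem
  simp only [Finset.mem_insert, Finset.mem_singleton] at hmem
  rcases hmem with h | h | h | h | h | h | h | h | h | h | h | h
  · exact solv_pq 2 3 0 0 (by norm_num) (by norm_num) (by rw [h]; norm_num)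
  · exact solv_pq 2 3 1 0 (by norm_num) (by norm_num) (by rw [h]; norm_num)
  · exact solv_pq 2 3 0 1 (by norm_num) (by norm_num) (by rw [h]; norm_num)
  · exact solv_pq 2 3 2 0 (by norm_num) (by norm_num) (by rw [h]; norm_num)
  · exact solv_pq 2 5 0 1 (by norm_num) (by norm_num) (by rw [h]; norm_num)
  · exact solv_pq 2 3 1 1 (by norm_num) (by norm_num) (by rw [h]; norm_num)
  · exact solv_pq 2 5 1 1 (by norm_num) (by norm_num) (by rw [h]; norm_num)
  · exact solv_pq 2 3 2 1 (by norm_num) (by norm_num) (by rw [h]; norm_num)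
  · exact solv_pq 3 5 1 1 (by norm_num) (by norm_num) (by rw [h]; norm_num)
  · exact solv_pq 2 5 2 1 (by norm_num) (by norm_num) (by rw [h]; norm_num)
  · exact solv30 h
  · exact absurd h hne

theorem simple60 {X : Type*} [Group X] [Finite X] (h : Nat.card X = 60)
    (hns : ¬ Group.IsSolvable X) : IsSimpleGroup X := by
  haveI : Nontrivial X := Finite.one_lt_card_iff_nontrivial.mp (by rw [h]; norm_num)
  refine ⟨fun M hM => ?_⟩
  by_contra hcon
  push_neg at hcon
  obtain ⟨hbot, htop⟩ := hcon
  apply hns
  haveI := hM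
  have hc := M.card_mul_index
  rw [h] at hc
  haveI : Group.IsSolvable M := by
    apply solv_small (hc ▸ dvd_mul_right _ _)
    intro h60
    apply htop
    exact (Subgroup.card_eq_iff_eq_top M).mp (h60.trans h.symm)
  haveI : Group.IsSolvable (X ⧸ M) := by
    apply solv_small
    · rw [← Subgroup.index_eq_card]
      exact hc ▸ dvd_mul_left _ _
    · rw [← Subgroup.index_eq_card]
      intro h60
      apply hbot
      rw [h60] at hc
      have : Nat.card M = 1 := by omega
      exact Subgroup.eq_bot_of_card_eq M this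
  exact solvable_of_ker_le_range M.subtype (QuotientGroup.mk' M) (by simp)

/-! ### The quaternion group and `A₅` -/

theorem q8_cases : ∀ g : QuaternionGroup 2, g ≠ 1 →
    g = QuaternionGroup.a 2 ∨ g ^ 2 = QuaternionGroup.a 2 := by decide

theorem q8_a2_ne : (QuaternionGroup.a 2 : QuaternionGroup 2) ≠ 1 := by decide

theorem q8_a2_sq : (QuaternionGroup.a 2 : QuaternionGroup 2) ^ 2 = 1 := by decide

theorem q8_a1 : (QuaternionGroup.a 1 : QuaternionGroup 2) ^ 4 = 1 ∧
    (QuaternionGroup.a 1 : QuaternionGroup 2) ^ 2 ≠ 1 := by decide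

theorem a5_pow4 : ∀ u : alternatingGroup (Fin 5), u ^ 4 = 1 → u ^ 2 = 1 := by decide +kernel

theorem gen_A5 (S : Subgroup (alternatingGroup (Fin 5))) (ha : Cfsg.Agent.S3377.a ∈ S)
    (hb : Cfsg.Agent.S3377.b ∈ S) : S = ⊤ := by
  rw [eq_top_iff]
  intro s _
  obtain ⟨w, rfl⟩ := Cfsg.Agent.S3377.fhom_surj s
  have h1 : Subgroup.closure (Set.range (PresentedGroup.of (rels := Cfsg.Agent.S3377.rels))) ≤
      S.comap Cfsg.Agent.S3377.fhom := by
    rw [Subgroup.closure_le]
    rintro _ ⟨i, rfl⟩
    show Cfsg.Agent.S3377.fhom (PresentedGroup.of i) ∈ S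
    fin_cases i
    · have : Cfsg.Agent.S3377.fhom (PresentedGroup.of 0) = Cfsg.Agent.S3377.a := by
        simp [Cfsg.Agent.S3377.fhom]
      exact this ▸ ha
    · have : Cfsg.Agent.S3377.fhom (PresentedGroup.of 1) = Cfsg.Agent.S3377.b := by
        simp [Cfsg.Agent.S3377.fhom]
      exact this ▸ hb
  rw [PresentedGroup.closure_range_of] at h1
  exact h1 (Subgroup.mem_top w)

/-- a non-solvable group of order 120 with quaternion Sylow 2-subgroups is `SL₂(5)` -/
theorem main {G : Type*} [Group G] [Finite G] (h120 : Nat.card G = 120)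
    (hns : ¬ Group.IsSolvable G)
    (hQ : ∀ P : Sylow 2 G, Nonempty ((P : Subgroup G) ≃* QuaternionGroup 2)) :
    Nonempty (G ≃* Matrix.SpecialLinearGroup (Fin 2) (ZMod 5)) := by
  classical
  haveI : Fact (Nat.Prime 2) := ⟨Nat.prime_two⟩
  obtain ⟨Q0⟩ : Nonempty (Sylow 5 G) := inferInstance
  have hcardQ : ∀ Q : Sylow 5 G, Nat.card Q = 5 :=
    fun Q => sylow_card 5 Q 24 (by rw [h120]) (by norm_num)
  have hidx : (Q0 : Subgroup G).index = 24 := by
    have := (Q0 : Subgroup G).card_mul_index
    rw [hcardQ Q0, h120] at this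
    omega
  have hn5 : Nat.card (Sylow 5 G) = 1 ∨ Nat.card (Sylow 5 G) = 6 := by
    have h1 := card_sylow_modEq_one 5 G
    have h2 := Sylow.card_dvd_index Q0
    rw [hidx] at h2
    have h3 := Nat.le_of_dvd (by norm_num) h2
    unfold Nat.ModEq at h1
    generalize Nat.card (Sylow 5 G) = n at h1 h2 h3
    interval_cases n <;> first
      | (left; rfl) | (right; rfl) | (exfalso; revert h1; decide) | (exfalso; revert h2; decide)
  rcases hn5 with h1 | h6
  · exfalso
    apply hns
    haveI : Subsingleton (Sylow 5 G) := Finite.card_le_one_iff_subsingleton.mp h1.le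
    haveI : (Q0 : Subgroup G).Normal := Sylow.normal_of_subsingleton Q0
    haveI : Group.IsSolvable (Q0 : Subgroup G) :=
      solv_pq 5 2 1 0 (by norm_num) (by norm_num) (by rw [hcardQ Q0]; norm_num)
    haveI : Group.IsSolvable (G ⧸ (Q0 : Subgroup G)) :=
      solv_pq 2 3 3 1 (by norm_num) (by norm_num)
        (by rw [← Subgroup.index_eq_card, hidx]; norm_num)
    exact solvable_of_ker_le_range (Q0 : Subgroup G).subtype
      (QuotientGroup.mk' (Q0 : Subgroup G)) (by simp)
  · obtain ⟨K, hKn, hKmem⟩ : ∃ K : Subgroup G, K.Normal ∧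
        ∀ k, k ∈ K ↔ ∀ Q : Sylow 5 G, k • Q = Q := by
      refine ⟨(MulAction.toPermHom G (Sylow 5 G)).ker, inferInstance, fun k => ?_⟩
      rw [MonoidHom.mem_ker]
      constructor
      · intro h Q
        have := congrArg (fun σ : Equiv.Perm (Sylow 5 G) => σ Q) h
        simpa using this
      · intro h
        exact Equiv.ext (fun Q => by simpa using h Q)
    haveI := hKn
    have hKN : ∀ Q : Sylow 5 G, K ≤ Subgroup.normalizer ((Q : Subgroup G) : Set G) :=
      fun Q k hk => Sylow.smul_eq_iff_mem_normalizer.mp ((hKmem k).mp hk Q)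
    have hNidx : ∀ Q : Sylow 5 G,
        (Subgroup.normalizer ((Q : Subgroup G) : Set G)).index = 6 := by
      intro Q
      rw [← h6]
      exact (Sylow.card_eq_index_normalizer Q).symm
    have hN20 : ∀ Q : Sylow 5 G,
        Nat.card (Subgroup.normalizer ((Q : Subgroup G) : Set G)) = 20 := by
      intro Q
      have h2 := (Subgroup.normalizer ((Q : Subgroup G) : Set G)).card_mul_index
      rw [hNidx Q, h120] at h2
      omega
    have hK5 : ¬ 5 ∣ Nat.card K := by
      intro h5
      obtain ⟨k, hk⟩ := exists_prime_orderOf_dvd_card' 5 h5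
      have hk5 : (k : G) ^ 5 ^ 1 = 1 := by
        rw [pow_one, ← Subgroup.coe_pow, ← hk, pow_orderOf_eq_one]
        rfl
      have hmem : ∀ Q : Sylow 5 G, (k : G) ∈ (Q : Subgroup G) :=
        fun Q => mem_sylow_of_mem_normalizer Q (hKN Q k.2) hk5
      have heq : ∀ Q : Sylow 5 G, (Q : Subgroup G) = Subgroup.zpowers (k : G) := by
        intro Q
        symm
        apply Subgroup.eq_of_le_of_card_ge
        · rw [Subgroup.zpowers_le]; exact hmem Q
        · rw [hcardQ Q, Nat.card_zpowers, Subgroup.orderOf_coe, hk]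
      have hsub : Subsingleton (Sylow 5 G) :=
        ⟨fun Q1 Q2 => Sylow.ext (by rw [heq Q1, heq Q2])⟩
      have := Finite.card_le_one_iff_subsingleton.mpr hsub
      omega
    have hK4 : Nat.card K ∣ 4 := by
      have h1 : Nat.card K ∣ 20 := by
        rw [← hN20 Q0]
        exact Subgroup.card_dvd_of_le (hKN Q0)
      have h3 := Nat.le_of_dvd (by norm_num) h1
      generalize Nat.card K = n at h1 h3 hK5 ⊢
      interval_cases n <;> first
        | (exfalso; revert h1; decide) | (exfalso; revert hK5; decide) | decide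
    obtain ⟨P⟩ : Nonempty (Sylow 2 G) := inferInstance
    obtain ⟨e⟩ := hQ P
    have hP8 : Nat.card (P : Subgroup G) = 8 := by
      rw [Nat.card_congr e.toEquiv, Nat.card_eq_fintype_card, QuaternionGroup.card]
    obtain ⟨z, hz⟩ : ∃ z : (P : Subgroup G), e z = QuaternionGroup.a 2 :=
      ⟨e.symm _, e.apply_symm_apply _⟩
    have hz1 : (z : G) ≠ 1 := by
      intro h
      have : z = 1 := Subtype.ext h
      rw [this, map_one] at hz
      exact q8_a2_ne hz.symm
    have hz2 : (z : G) ^ 2 = 1 := by
      have : z ^ 2 = 1 := by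
        apply e.injective
        rw [map_pow, hz, map_one]
        exact q8_a2_sq
      rw [← Subgroup.coe_pow, this]
      rfl
    have hzK : (z : G) ∈ K := by
      rw [hKmem]
      intro Q
      rw [Sylow.smul_eq_iff_mem_normalizer]
      have h1 : (Subgroup.normalizer ((Q : Subgroup G) : Set G)).relIndex (P : Subgroup G) ≤ 6 := by
        have := Subgroup.relIndex_le_of_le_right
          (H := Subgroup.normalizer ((Q : Subgroup G) : Set G)) (K := (P : Subgroup G))
          (L := ⊤) le_top (by rw [Subgroup.relIndex_top_right, hNidx Q]; norm_num)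
        rwa [Subgroup.relIndex_top_right, hNidx Q] at this
      have h2 := Cfsg.Agent.Helper16.card_mul_relIndex_of_le
        (inf_le_right : Subgroup.normalizer ((Q : Subgroup G) : Set G) ⊓ (P : Subgroup G) ≤
          (P : Subgroup G))
      rw [Subgroup.inf_relIndex_right, hP8] at h2
      have h3 : Subgroup.normalizer ((Q : Subgroup G) : Set G) ⊓ (P : Subgroup G) ≠ ⊥ := by
        intro hbot
        rw [hbot, Subgroup.card_bot, one_mul] at h2
        omega
      obtain ⟨⟨g, hgN, hgP⟩, hg1⟩ := (Subgroup.ne_bot_iff_exists_ne_one).mp h3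
      have hg1' : (⟨g, hgP⟩ : (P : Subgroup G)) ≠ 1 := by
        intro h
        apply hg1
        have hg' : g = 1 := congrArg Subtype.val h
        exact Subtype.ext hg'
      have hne : e ⟨g, hgP⟩ ≠ 1 := fun h => hg1' (e.injective (by rw [h, map_one]))
      rcases q8_cases _ hne with h | h
      · have : (⟨g, hgP⟩ : (P : Subgroup G)) = z := e.injective (by rw [h, hz])
        rw [← this]
        exact hgN
      · have : (⟨g, hgP⟩ : (P : Subgroup G)) ^ 2 = z := e.injective (by rw [map_pow, h, hz])
        rw [← this]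
        exact Subgroup.pow_mem _ hgN 2
    have hK1 : Nat.card K ≠ 1 := by
      intro h
      have := Subgroup.eq_bot_of_card_eq K h
      rw [this, Subgroup.mem_bot] at hzK
      exact hz1 hzK
    have hKle := Nat.le_of_dvd (by norm_num) hK4
    have hKns : ¬ Group.IsSolvable (G ⧸ K) := by
      intro hs
      apply hns
      haveI := hs
      haveI : Group.IsSolvable K := by
        have hK24 : Nat.card K = 2 ∨ Nat.card K = 4 := by
          generalize Nat.card K = n at hK4 hKle hK1 ⊢
          interval_cases n <;> first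
            | (left; rfl) | (right; rfl) | (exfalso; revert hK4; decide) | (exfalso; exact hK1 rfl)
        rcases hK24 with h | h
        · exact solv_pq 2 3 1 0 (by norm_num) (by norm_num) (by rw [h]; norm_num)
        · exact solv_pq 2 3 2 0 (by norm_num) (by norm_num) (by rw [h]; norm_num)
      exact solvable_of_ker_le_range K.subtype (QuotientGroup.mk' K) (by simp)
    have hK2 : Nat.card K = 2 := by
      by_contra hne
      have h4 : Nat.card K = 4 := by
        generalize Nat.card K = n at hK4 hKle hK1 hne ⊢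
        interval_cases n <;> first
          | rfl | (exfalso; revert hK4; decide) | (exfalso; exact hK1 rfl) | (exfalso; exact hne rfl)
      apply hKns
      apply solv30
      have := K.card_mul_index
      rw [h4, h120] at this
      rw [← Subgroup.index_eq_card]
      omega
    have hGK : Nat.card (G ⧸ K) = 60 := by
      have := K.card_mul_index
      rw [hK2, h120] at this
      rw [← Subgroup.index_eq_card]
      omega
    haveI := simple60 hGK hKns
    obtain ⟨ε⟩ := Cfsg.Agent.S0494.result hGK
    have hoz : orderOf (z : G) = 2 := orderOf_eq_prime hz2 hz1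
    have hKz : ∀ k ∈ K, k = 1 ∨ k = (z : G) := by
      intro k hk
      have hzp : Subgroup.zpowers (z : G) = K := by
        apply Subgroup.eq_of_le_of_card_ge
        · rw [Subgroup.zpowers_le]; exact hzK
        · rw [hK2, Nat.card_zpowers, hoz]
      rw [← hzp] at hk
      obtain ⟨i, rfl⟩ := Subgroup.mem_zpowers_iff.mp hk
      rcases Int.emod_two_eq_zero_or_one i with h | h
      · left
        have : i = 2 * (i / 2) := by omega
        rw [this, zpow_mul, zpow_ofNat, hz2, one_zpow]
      · right
        have : i = 2 * (i / 2) + 1 := by omega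
        rw [this, zpow_add, zpow_mul, zpow_ofNat, hz2, one_zpow, one_mul, zpow_one]
    have hzc : ∀ g : G, g * (z : G) = (z : G) * g := by
      intro g
      have h1 : g * (z : G) * g⁻¹ ∈ K := hKn.conj_mem _ hzK g
      rcases hKz _ h1 with h | h
      · exfalso
        apply hz1
        have : (z : G) = g⁻¹ * (g * z * g⁻¹) * g := by group
        rw [this, h]
        group
      · calc g * (z : G) = (g * z * g⁻¹) * g := by group
          _ = (z : G) * g := by rw [h]
    have hmk : ∀ g : G, (QuotientGroup.mk' K g = 1) ↔ g ∈ K :=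
      fun g => QuotientGroup.eq_one_iff g
    obtain ⟨x0, hx0⟩ := QuotientGroup.mk'_surjective K (ε.symm Cfsg.Agent.S3377.a)
    obtain ⟨y0, hy0⟩ := QuotientGroup.mk'_surjective K (ε.symm Cfsg.Agent.S3377.b)
    have hzmk : QuotientGroup.mk' K (z : G) = 1 := (hmk _).mpr hzK
    obtain ⟨x, hx3, hxm⟩ : ∃ x : G, x ^ 3 = 1 ∧
        QuotientGroup.mk' K x = ε.symm Cfsg.Agent.S3377.a := by
      have h1 : x0 ^ 3 ∈ K := by
        rw [← hmk, map_pow, hx0, ← map_pow, Cfsg.Agent.S3377.a3, map_one]
      rcases hKz _ h1 with h | h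
      · exact ⟨x0, h, hx0⟩
      · refine ⟨x0 * z, ?_, by rw [map_mul, hzmk, mul_one, hx0]⟩
        have hc : Commute x0 (z : G) := hzc x0
        rw [hc.mul_pow, h]
        calc (z : G) * (z : G) ^ 3 = ((z : G) ^ 2) ^ 2 := by group
          _ = 1 := by rw [hz2, one_pow]
    obtain ⟨y, hy5, hym⟩ : ∃ y : G, y ^ 5 = 1 ∧
        QuotientGroup.mk' K y = ε.symm Cfsg.Agent.S3377.b := by
      have h1 : y0 ^ 5 ∈ K := by
        rw [← hmk, map_pow, hy0, ← map_pow, Cfsg.Agent.S3377.b5, map_one]
      rcases hKz _ h1 with h | h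
      · exact ⟨y0, h, hy0⟩
      · refine ⟨y0 * z, ?_, by rw [map_mul, hzmk, mul_one, hy0]⟩
        have hc : Commute y0 (z : G) := hzc y0
        rw [hc.mul_pow, h]
        calc (z : G) * (z : G) ^ 5 = ((z : G) ^ 2) ^ 3 := by group
          _ = 1 := by rw [hz2, one_pow]
    have hxy : (x * y) ^ 2 ∈ K := by
      rw [← hmk, map_pow, map_mul, hxm, hym, ← map_mul, ← map_pow, Cfsg.Agent.S3377.ab2, map_one]
    obtain ⟨hPfin, -⟩ := finite_and_card
    rcases hKz _ hxy with hxy1 | hxyz
    · exfalso
      have hrel : ∀ r ∈ Cfsg.Agent.S3377.rels, FreeGroup.lift ![x, y] r = 1 := by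
        intro r hr
        simp only [Cfsg.Agent.S3377.rels, Set.mem_insert_iff, Set.mem_singleton_iff] at hr
        rcases hr with rfl | rfl | rfl
        · simpa using hx3
        · simpa using hy5
        · simpa using hxy1
      obtain ⟨h', hh'0, hh'1⟩ : ∃ h' : PresentedGroup Cfsg.Agent.S3377.rels →* G,
          h' (PresentedGroup.of 0) = x ∧ h' (PresentedGroup.of 1) = y :=
        ⟨PresentedGroup.toGroup hrel, by simp, by simp⟩
      have hcomp : (QuotientGroup.mk' K).comp h' =
          ε.symm.toMonoidHom.comp Cfsg.Agent.S3377.fhom := by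
        apply PresentedGroup.ext
        intro i
        fin_cases i
        · show QuotientGroup.mk' K (h' (PresentedGroup.of 0)) =
            ε.symm (Cfsg.Agent.S3377.fhom (PresentedGroup.of 0))
          rw [hh'0, hxm]
          simp [Cfsg.Agent.S3377.fhom]
        · show QuotientGroup.mk' K (h' (PresentedGroup.of 1)) =
            ε.symm (Cfsg.Agent.S3377.fhom (PresentedGroup.of 1))
          rw [hh'1, hym]
          simp [Cfsg.Agent.S3377.fhom]
      have hfinj : Function.Injective Cfsg.Agent.S3377.fhom := by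
        haveI := Cfsg.Agent.S3377.P_finite
        exact (Cfsg.Agent.S3377.fhom_surj.bijective_of_nat_card_le
          (by rw [Cfsg.Agent.S3377.card_A5]; exact Cfsg.Agent.S3377.P_card)).1
      have hclaim : ∀ g : G, g ^ 4 = 1 → g ^ 2 = 1 := by
        intro g hg4
        obtain ⟨w, hw⟩ := Cfsg.Agent.S3377.fhom_surj (ε (QuotientGroup.mk' K g))
        have h1 : QuotientGroup.mk' K (h' w) = QuotientGroup.mk' K g := by
          have := DFunLike.congr_fun hcomp w
          simp only [MonoidHom.comp_apply, MulEquiv.coe_toMonoidHom] at this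
          rw [this, hw, MulEquiv.symm_apply_apply]
        have hu4 : (ε (QuotientGroup.mk' K g)) ^ 4 = 1 := by
          rw [← map_pow, ← map_pow, hg4, map_one, map_one]
        have hu2 := a5_pow4 _ hu4
        have hw2 : w ^ 2 = 1 := by
          apply hfinj
          rw [map_pow, hw, hu2, map_one]
        have ht2 : (h' w) ^ 2 = 1 := by rw [← map_pow, hw2, map_one]
        have h3 : (h' w)⁻¹ * g ∈ K := by
          rw [← hmk, map_mul, map_inv, h1, inv_mul_cancel]
        rcases hKz _ h3 with h | h
        · have : g = h' w := by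
            rw [inv_mul_eq_one] at h
            exact h.symm
          rw [this, ht2]
        · have : g = h' w * (z : G) := by rw [← h]; group
          have hc : Commute (h' w) (z : G) := hzc (h' w)
          rw [this, hc.mul_pow, ht2, hz2, one_mul]
      obtain ⟨g0, hg0⟩ : ∃ g0 : (P : Subgroup G), e g0 = QuaternionGroup.a 1 :=
        ⟨e.symm _, e.apply_symm_apply _⟩
      have h4 : (g0 : G) ^ 4 = 1 := by
        have : g0 ^ 4 = 1 := by
          apply e.injective
          rw [map_pow, hg0, map_one]
          exact q8_a1.1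
        rw [← Subgroup.coe_pow, this]
        rfl
      have h2 := hclaim _ h4
      apply q8_a1.2
      rw [← hg0, ← map_pow]
      have : g0 ^ 2 = 1 := Subtype.ext (by rw [Subgroup.coe_pow, h2]; rfl)
      rw [this, map_one]
    · obtain ⟨f, fX, fY, fZ⟩ := lift_exists' x y (z : G) hx3 hy5 hz2 (hzc x) (hzc y) hxyz
      have hsurj : Function.Surjective f := by
        rw [← MonoidHom.range_eq_top, eq_top_iff]
        intro g _
        have hx : x ∈ f.range := ⟨_, fX⟩
        have hy : y ∈ f.range := ⟨_, fY⟩
        have hzr : (z : G) ∈ f.range := ⟨_, fZ⟩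
        have htop : ((f.range.map (QuotientGroup.mk' K)).map ε.toMonoidHom) = ⊤ := by
          apply gen_A5
          · refine ⟨_, ⟨x, hx, rfl⟩, ?_⟩
            rw [hxm]
            simp
          · refine ⟨_, ⟨y, hy, rfl⟩, ?_⟩
            rw [hym]
            simp
        have h1 : ε (QuotientGroup.mk' K g) ∈
            ((f.range.map (QuotientGroup.mk' K)).map ε.toMonoidHom) := by
          rw [htop]; trivial
        obtain ⟨_, ⟨r, hr, rfl⟩, hrg⟩ := h1
        have h2 : QuotientGroup.mk' K r = QuotientGroup.mk' K g := ε.injective hrg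
        have h3 : r⁻¹ * g ∈ K := by
          rw [← hmk, map_mul, map_inv, h2, inv_mul_cancel]
        have h4 : r⁻¹ * g ∈ f.range := by
          rcases hKz _ h3 with h | h
          · rw [h]; exact one_mem _
          · rw [h]; exact hzr
        have : g = r * (r⁻¹ * g) := by group
        rw [this]
        exact mul_mem hr h4
      have hbij := hsurj.bijective_of_nat_card_le (by rw [card_Pt, h120])
      obtain ⟨e5, -⟩ := exists_equiv
      exact ⟨(MulEquiv.ofBijective f hbij).symm.trans e5⟩

end Cfsg.Agent.Helper1.Ord120
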