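import Mathlib
import Cfsg.Prelude.Def_Classical
import Cfsg.Agent.Helper14.Psu3a
import Cfsg.Agent.Helper14.RegUniU2
import Cfsg.Agent.Helper14.Psl3c

set_option autoImplicit false

namespace Cfsg.Agent.Helper1.Psu3x

open Matrix

theorem core {F L : Type*} [Field F] [Fintype F] [Field L] [Algebra F L] [Finite L]
    (hfin : Module.finrank F L = 3) (p : ℕ) [Fact p.Prime] [CharP F p] (q : ℕ)
    (hF : Fintype.card F = q ^ 2) :
    ∃ M : Matrix (Fin 3) (Fin 3) F, Mᵀ * M.map (fun x => x ^ q) = 1 ∧ M.det = 1 ∧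
      (∃ c : F, M ^ ((q ^ 2 - q + 1) / Nat.gcd 3 (q + 1)) = c • (1 : Matrix (Fin 3) (Fin 3) F)) ∧
      ∀ j : ℕ, (∃ c : F, M ^ j = c • (1 : Matrix (Fin 3) (Fin 3) F)) →
        ((q ^ 2 - q + 1) / Nat.gcd 3 (q + 1)) ∣ j := by
  classical
  have hq := Cfsg.Agent.Helper8.SULag.qf_of_card hF
  haveI : Module.Finite F L := Module.finite_of_finrank_pos (by rw [hfin]; norm_num)
  haveI : CharP L p := charP_of_injective_algebraMap (algebraMap F L).injective p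
  obtain ⟨m, hm⟩ := Cfsg.Agent.Helper14.Psu3a.q_pow p q hF
  have hq2 : 2 ≤ q := by
    have h1 : 1 < Fintype.card F := Fintype.one_lt_card
    rw [hF] at h1
    by_contra hcon
    have : q ≤ 1 := by omega
    interval_cases q <;> simp at h1
  have hcardL : Nat.card L = q ^ 6 := by
    rw [Module.natCard_eq_pow_finrank (K := F) (V := L), hfin, Nat.card_eq_fintype_card, hF,
      ← pow_mul]
  have hL6 : ∀ z : L, z ^ (q ^ 6) = z := by
    intro z
    haveI := Fintype.ofFinite L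
    rw [← hcardL, Nat.card_eq_fintype_card]
    exact FiniteField.pow_card z
  have hFq : ∀ c : F, c ^ (q ^ 2) = c := fun c => by rw [← hF]; exact FiniteField.pow_card c
  have hq3 : q ^ 3 = p ^ (m * 3) := by rw [hm, ← pow_mul]
  have hττ : ∀ z : L, (z ^ (q ^ 3)) ^ (q ^ 3) = z := by
    intro z
    rw [← pow_mul, ← pow_add]
    exact hL6 z
  have hT : ∀ z : L, Algebra.trace F L (z ^ (q ^ 3)) = (Algebra.trace F L z) ^ q := by
    intro z
    have hc : (Algebra.trace F L z) ^ q = (Algebra.trace F L z) ^ (q ^ 3) := by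
      rw [show q ^ 3 = q ^ 2 * q by ring, pow_mul, hFq]
    rw [hc]
    apply (algebraMap F L).injective
    rw [RingHom.map_pow, FiniteField.algebraMap_trace_eq_sum_pow,
      FiniteField.algebraMap_trace_eq_sum_pow, hq3, sum_pow_char_pow]
    apply Finset.sum_congr rfl
    intro i _
    rw [← pow_mul, ← pow_mul, mul_comm]
  obtain ⟨H, hHdef⟩ : ∃ H : L → L → F, ∀ x y, H x y = Algebra.trace F L (x * y ^ (q ^ 3)) :=
    ⟨_, fun _ _ => rfl⟩
  have hadd : ∀ x x' y, H (x + x') y = H x y + H x' y := by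
    intro x x' y; rw [hHdef, hHdef, hHdef, add_mul, map_add]
  have hsmul : ∀ (a : F) x y, H (a • x) y = a * H x y := by
    intro a x y; rw [hHdef, hHdef, smul_mul_assoc, map_smul, smul_eq_mul]
  have hconj : ∀ x y, Cfsg.Agent.Helper8.SULag.frob hq (H x y) = H y x := by
    intro x y
    rw [Cfsg.Agent.Helper8.SULag.frob_apply, hHdef, hHdef, ← hT, mul_pow, hττ, mul_comm]
  have hnd : ∀ x, (∀ y, H x y = 0) → x = 0 := by
    intro x hx
    by_contra hx0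
    obtain ⟨z, hz⟩ := Algebra.trace_surjective F L (1 : F)
    have h1 := hx ((x⁻¹ * z) ^ (q ^ 3))
    rw [hHdef, hττ, mul_inv_cancel_left₀ hx0, hz] at h1
    exact one_ne_zero h1
  obtain ⟨Φ, hΦ⟩ := Cfsg.Agent.Helper14.RegUniU.exists_onb hq 3 (by norm_num) hfin H hadd hsmul
    hconj hnd
  obtain ⟨b, hb⟩ : ∃ b : Module.Basis (Fin 3) F L, ∀ y, (⇑(b.repr y) : Fin 3 → F) = Φ y :=
    ⟨Module.Basis.ofEquivFun Φ, fun y => funext fun i => Module.Basis.ofEquivFun_repr_apply Φ y i⟩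
  obtain ⟨φ0, hφ0def⟩ : ∃ φ0 : L →ₐ[F] Matrix (Fin 3) (Fin 3) F,
      φ0 = Algebra.leftMulMatrix b := ⟨_, rfl⟩
  have hinj : Function.Injective φ0 := by rw [hφ0def]; exact Algebra.leftMulMatrix_injective b
  have hmv : ∀ k x : L, φ0 k *ᵥ Φ x = Φ (k * x) := by
    intro k x
    rw [hφ0def, ← hb, ← hb]
    exact Algebra.leftMulMatrix_mulVec_repr b k x
  have hunit : ∀ k : L, k * k ^ (q ^ 3) = 1 →
      (φ0 k)ᵀ * (φ0 k).map (fun x => x ^ q) = 1 := by
    intro k hk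
    apply (Cfsg.Agent.Helper14.Psu3a.herm_iff hq (φ0 k)).mp
    intro u v
    obtain ⟨x, rfl⟩ := Φ.surjective u
    obtain ⟨y, rfl⟩ := Φ.surjective v
    rw [hmv, hmv, hΦ, hΦ, hHdef, hHdef, mul_pow]
    have e : k * x * (k ^ (q ^ 3) * y ^ (q ^ 3)) = (k * k ^ (q ^ 3)) * (x * y ^ (q ^ 3)) := by
      ring
    rw [e, hk, one_mul]
  have hscal : ∀ c : F, φ0 (algebraMap F L c) = c • (1 : Matrix (Fin 3) (Fin 3) F) := by
    intro c
    rw [Algebra.algebraMap_eq_smul_one, map_smul, map_one]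
  -- numbers
  obtain ⟨t, rfl⟩ : ∃ t, q = t + 2 := ⟨q - 2, by omega⟩
  obtain ⟨A, hA⟩ : ∃ A, A + 1 = (t + 2) ^ 3 :=
    ⟨(t + 2) ^ 3 - 1, by have : 0 < (t + 2) ^ 3 := by positivity
                         omega⟩
  obtain ⟨S, hS⟩ : ∃ S, S = t * t + 3 * t + 3 := ⟨_, rfl⟩
  have hSq : (t + 2) ^ 2 - (t + 2) + 1 = S := by
    have h : (t + 2) ^ 2 = t * t + 4 * t + 4 := by ring
    rw [h, hS]; omega
  have hA2 : A + 2 = (t + 3) * S := by
    have h : (t + 2) ^ 3 + 1 = (t + 3) * (t * t + 3 * t + 3) := by ring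
    rw [hS, ← h, ← hA]
  have h6 : (t + 2) ^ 6 - 1 = A * (A + 2) := by
    have h : (t + 2) ^ 6 = A * (A + 2) + 1 := by
      have h' : (t + 2) ^ 6 = ((t + 2) ^ 3) ^ 2 := by ring
      rw [h', ← hA]; ring
    rw [h, Nat.add_sub_cancel]
  have hApos : 0 < A := by
    have h8 : 2 ^ 3 ≤ (t + 2) ^ 3 := Nat.pow_le_pow_left (by omega) 3
    omega
  have hQ1 : Fintype.card F - 1 = (t + 1) * (t + 3) := by
    rw [hF]
    have h : (t + 2) ^ 2 = (t + 1) * (t + 3) + 1 := by ring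
    rw [h, Nat.add_sub_cancel]
  obtain ⟨ω, hω⟩ := IsCyclic.exists_generator (α := Lˣ)
  have hordω : orderOf ω = A * (A + 2) := by
    rw [orderOf_eq_card_of_forall_mem_zpowers hω, Nat.card_units, hcardL, h6]
  have hωpow : ∀ j : ℕ, (ω : L) ^ j = 1 ↔ A * (A + 2) ∣ j := by
    intro j
    rw [← hordω, orderOf_dvd_iff_pow_eq_one, ← Units.val_pow_eq_pow_val, Units.val_eq_one]
  obtain ⟨k0, hk0⟩ : ∃ k0 : L, k0 = (ω : L) ^ A := ⟨_, rfl⟩
  obtain ⟨k1, hk1⟩ : ∃ k1 : L, k1 = (ω : L) ^ (A * (t + 3)) := ⟨_, rfl⟩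
  have hk01 : k1 = k0 ^ (t + 3) := by rw [hk1, hk0, ← pow_mul]
  have hk0u : k0 * k0 ^ ((t + 2) ^ 3) = 1 := by
    rw [← pow_succ', hk0, ← pow_mul, hωpow, ← hA]
  have hk1u : k1 * k1 ^ ((t + 2) ^ 3) = 1 := by
    rw [hk01, ← pow_mul, mul_comm (t + 3), pow_mul, ← mul_pow, hk0u, one_pow]
  have hU0 := hunit k0 hk0u
  have hU1 := hunit k1 hk1u
  have hdet0 : (φ0 k0).det ^ (t + 3) = 1 := by
    have h1 := congrArg Matrix.det hU0
    rw [Matrix.det_mul, Matrix.det_transpose, Matrix.det_one] at h1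
    have h2 : ((φ0 k0).map (fun x => x ^ (t + 2))).det = (φ0 k0).det ^ (t + 2) := by
      have h3 := RingHom.map_det (Cfsg.Agent.Helper8.SULag.frob hq) (φ0 k0)
      rw [Cfsg.Agent.Helper8.SULag.frob_apply] at h3
      rw [h3]; rfl
    rw [h2, ← pow_succ'] at h1
    exact h1
  have e3 : t + 2 + 1 = t + 3 := by omega
  rw [hSq, e3]
  obtain ⟨d, hd⟩ : ∃ d, d = Nat.gcd 3 (t + 3) := ⟨_, rfl⟩
  rw [← hd]
  have hd0 : 0 < d := by rw [hd]; exact Nat.gcd_pos_of_pos_left _ (by norm_num)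
  have hg : Nat.gcd S ((t + 1) * (t + 3)) = d := by
    have hc : Nat.Coprime (t + 1) S := by
      have h : S = 1 + (t + 1) * (t + 2) := by rw [hS]; ring
      rw [h, Nat.Coprime, Nat.gcd_add_mul_left_right, Nat.gcd_one_right]
    rw [Nat.Coprime.gcd_mul_left_cancel_right _ hc]
    have h : S = 3 + (t + 3) * t := by rw [hS]; ring
    rw [h, hd, Nat.gcd_comm, Nat.gcd_add_mul_left_right, Nat.gcd_comm]
  obtain ⟨N1, hN1⟩ : d ∣ S := by rw [← hg]; exact Nat.gcd_dvd_left _ _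
  obtain ⟨e, he⟩ : d ∣ (t + 1) * (t + 3) := by rw [← hg]; exact Nat.gcd_dvd_right _ _
  have hdiv : S / d = N1 := Nat.div_eq_of_eq_mul_right hd0 hN1
  rw [hdiv]
  have hcop : Nat.Coprime N1 e := by
    have h1 : Nat.gcd (d * N1) (d * e) = d * 1 := by rw [← hN1, ← he, hg, mul_one]
    rw [Nat.gcd_mul_left] at h1
    exact Nat.eq_of_mul_eq_mul_left hd0 h1
  refine ⟨φ0 k1, hU1, ?_, ?_, ?_⟩
  · rw [hk01, map_pow, Matrix.det_pow, hdet0]
  · have hz : (k1 ^ N1) ^ d = 1 := by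
      rw [hk1, ← pow_mul, ← pow_mul, hωpow, hA2]
      have e1 : A * (t + 3) * (N1 * d) = A * ((t + 3) * S) := by rw [hN1]; ring
      rw [e1]
    obtain ⟨c, hc⟩ := Cfsg.Agent.Helper14.Psl3c.root_mem (F := F) (K := L) d hd0 (by
      rw [hQ1, hd]; exact Dvd.dvd.mul_left (Nat.gcd_dvd_right 3 (t + 3)) _) (k1 ^ N1) hz
    exact ⟨c, by rw [← map_pow, ← hc, hscal]⟩
  · rintro j ⟨c, hc⟩
    rw [← map_pow, ← hscal] at hc
    have h2 : k1 ^ j = algebraMap F L c := hinj hc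
    have hc0 : c ≠ 0 := by
      rintro rfl
      rw [map_zero] at h2
      have hk : k1 ≠ 0 := by rw [hk1]; exact pow_ne_zero _ ω.ne_zero
      exact (pow_ne_zero j hk) h2
    have h3 : (k1 ^ j) ^ ((t + 1) * (t + 3)) = 1 := by
      rw [h2, ← map_pow, ← hQ1, FiniteField.pow_card_sub_one_eq_one c hc0, map_one]
    rw [hk1, ← pow_mul, ← pow_mul] at h3
    rw [hωpow, hA2] at h3
    have h4 : A * (t + 3) * S ∣ A * (t + 3) * (j * ((t + 1) * (t + 3))) := by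
      rw [mul_assoc A (t + 3) S]; exact h3
    have h5 : S ∣ j * ((t + 1) * (t + 3)) := Nat.dvd_of_mul_dvd_mul_left (by positivity) h4
    rw [hN1, he] at h5
    have h6' : d * N1 ∣ d * (e * j) := by
      have h : j * (d * e) = d * (e * j) := by ring
      rw [← h]; exact h5
    have h7 : N1 ∣ e * j := Nat.dvd_of_mul_dvd_mul_left hd0 h6'
    exact hcop.dvd_of_dvd_mul_left h7

theorem ex_d {F : Type*} [Field F] [Fintype F] (p : ℕ) [Fact p.Prime] [CharP F p] (q : ℕ)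
    (hF : Fintype.card F = q ^ 2) (hp : p ≠ 2) :
    ∃ M : Matrix (Fin 3) (Fin 3) F, Mᵀ * M.map (fun x => x ^ q) = 1 ∧ M.det = 1 ∧
      (∃ c : F, M ^ ((q ^ 2 - q + 1) / Nat.gcd 3 (q + 1)) = c • (1 : Matrix (Fin 3) (Fin 3) F)) ∧
      ∀ j : ℕ, (∃ c : F, M ^ j = c • (1 : Matrix (Fin 3) (Fin 3) F)) →
        ((q ^ 2 - q + 1) / Nat.gcd 3 (q + 1)) ∣ j :=
  core (L := FiniteField.Extension F p 3) (FiniteField.finrank_extension F p 3) p q hF

end Cfsg.Agent.Helper1.Psu3x
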