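import Mathlib
import Cfsg.Agent.Helper23.OddPGroup

/-!
Helper library (helper1): normal elementary abelian subgroup of rank two in a non-cyclic
`p`-group, `p` odd (built on helper23's `exists_normal_rank_two`).
-/

set_option autoImplicit false

namespace Cfsg.Agent.Helper1

theorem zpowers_normal_of_mem_center {R : Type*} [Group R] {z : R} (hzc : z ∈ Subgroup.center R) :
    (Subgroup.zpowers z).Normal := by
  constructor
  intro n hn g
  have hnc' : n ∈ Subgroup.center R := (Subgroup.zpowers_le.mpr hzc) hn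
  have h0 : g * n * g⁻¹ = n := by rw [Subgroup.mem_center_iff.mp hnc' g, mul_inv_cancel_right]
  rw [h0]; exact hn

theorem pow_zpow_eq_one {R : Type*} [Group R] {x : R} {p : ℕ} (hxp : x ^ p = 1) (i : ℤ) :
    (x ^ i) ^ p = 1 := by
  rw [← zpow_natCast, ← zpow_mul, mul_comm, zpow_mul, zpow_natCast, hxp, one_zpow]

theorem rank_two_data {R : Type*} [Group R] [Finite R] {p : ℕ} [Fact p.Prime] (hp2 : p ≠ 2)
    (hR : IsPGroup p R) (hnc : ¬ IsCyclic R) :
    ∃ z x : R, z ∈ Subgroup.center R ∧ z ^ p = 1 ∧ x ^ p = 1 ∧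
      (∀ g : R, g * x * g⁻¹ * x⁻¹ ∈ Subgroup.zpowers z) ∧
      Nat.card (Subgroup.zpowers x ⊔ Subgroup.zpowers z : Subgroup R) = p ^ 2 ∧
      (∀ a ∈ Subgroup.zpowers x ⊔ Subgroup.zpowers z, a ^ p = 1) ∧
      (Subgroup.zpowers x ⊔ Subgroup.zpowers z).Normal := by
  have hp : p.Prime := Fact.out
  obtain ⟨z, x, hzc, hz1, hzp, hxp, hxn, hgx⟩ :=
    Cfsg.Agent.Helper23.exists_normal_rank_two hp2 hR hnc
  have hx1 : x ≠ 1 := fun h => hxn (h ▸ Subgroup.one_mem _)
  have hzo : orderOf z = p := orderOf_eq_prime hzp hz1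
  have hxo : orderOf x = p := orderOf_eq_prime hxp hx1
  have hZcard : Nat.card (Subgroup.zpowers z) = p := by rw [Nat.card_zpowers, hzo]
  have hXcard : Nat.card (Subgroup.zpowers x) = p := by rw [Nat.card_zpowers, hxo]
  haveI hZn : (Subgroup.zpowers z).Normal := zpowers_normal_of_mem_center hzc
  have hinf : Subgroup.zpowers z ⊓ Subgroup.zpowers x = ⊥ := by
    have h1 : Nat.card (Subgroup.zpowers z ⊓ Subgroup.zpowers x : Subgroup R) ∣ p := by
      rw [← hXcard]; exact Subgroup.card_dvd_of_le inf_le_right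
    rcases (Nat.dvd_prime hp).mp h1 with h2 | h2
    · exact Subgroup.eq_bot_of_card_eq _ h2
    · exfalso
      have h3 : Subgroup.zpowers z ⊓ Subgroup.zpowers x = Subgroup.zpowers x :=
        Subgroup.eq_of_le_of_card_ge inf_le_right (by rw [h2, hXcard])
      have h4 : Subgroup.zpowers x ≤ Subgroup.zpowers z := by rw [← h3]; exact inf_le_left
      exact hxn (h4 (Subgroup.mem_zpowers x))
  have hcardA : Nat.card (Subgroup.zpowers x ⊔ Subgroup.zpowers z : Subgroup R) = p ^ 2 := by
    have h1 := Subgroup.relIndex_mul_relIndex (⊥ : Subgroup R) (Subgroup.zpowers z)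
      (Subgroup.zpowers x ⊔ Subgroup.zpowers z) bot_le le_sup_right
    rw [Subgroup.relIndex_bot_left, Subgroup.relIndex_bot_left, Subgroup.relIndex_sup_right,
      ← Subgroup.inf_relIndex_right, hinf, Subgroup.relIndex_bot_left, hZcard, hXcard] at h1
    rw [← h1, sq]
  have hexp : ∀ a ∈ Subgroup.zpowers x ⊔ Subgroup.zpowers z, a ^ p = 1 := by
    intro a ha
    have ha' : a ∈ ((Subgroup.zpowers x ⊔ Subgroup.zpowers z : Subgroup R) : Set R) := ha
    rw [Subgroup.mul_normal] at ha'
    obtain ⟨x', hx', z', hz', rfl⟩ := Set.mem_mul.mp ha'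
    obtain ⟨i, rfl⟩ := Subgroup.mem_zpowers_iff.mp hx'
    obtain ⟨j, rfl⟩ := Subgroup.mem_zpowers_iff.mp hz'
    have hcomm : Commute (x ^ i) (z ^ j) := by
      have h0 : Commute (x ^ i) z := Subgroup.mem_center_iff.mp hzc (x ^ i)
      exact h0.zpow_right j
    rw [hcomm.mul_pow, pow_zpow_eq_one hxp, pow_zpow_eq_one hzp, mul_one]
  have hnormal : (Subgroup.zpowers x ⊔ Subgroup.zpowers z).Normal := by
    constructor
    intro a ha g
    have h1 : (Subgroup.zpowers x ⊔ Subgroup.zpowers z).map (MulAut.conj g).toMonoidHom ≤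
        Subgroup.zpowers x ⊔ Subgroup.zpowers z := by
      rw [Subgroup.map_sup, MonoidHom.map_zpowers, MonoidHom.map_zpowers]
      apply sup_le
      · rw [Subgroup.zpowers_le]
        show g * x * g⁻¹ ∈ _
        have h2 : g * x * g⁻¹ = (g * x * g⁻¹ * x⁻¹) * x := by group
        rw [h2]
        exact Subgroup.mul_mem _
          ((le_sup_right : Subgroup.zpowers z ≤ Subgroup.zpowers x ⊔ Subgroup.zpowers z) (hgx g))
          ((le_sup_left : Subgroup.zpowers x ≤ Subgroup.zpowers x ⊔ Subgroup.zpowers z)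
            (Subgroup.mem_zpowers x))
      · rw [Subgroup.zpowers_le]
        show g * z * g⁻¹ ∈ _
        have h2 : g * z * g⁻¹ = z := by
          rw [Subgroup.mem_center_iff.mp hzc g, mul_inv_cancel_right]
        rw [h2]
        exact (le_sup_right : Subgroup.zpowers z ≤ Subgroup.zpowers x ⊔ Subgroup.zpowers z)
          (Subgroup.mem_zpowers z)
    exact h1 ⟨a, ha, rfl⟩
  exact ⟨z, x, hzc, hzp, hxp, hgx, hcardA, hexp, hnormal⟩

end Cfsg.Agent.Helper1
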