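import Mathlib

set_option autoImplicit false

/-!
Helper library (helper1): the derived series of a subgroup computed inside the ambient group,
and a "last nontrivial term" lemma for solvable groups.
-/

namespace Cfsg.Agent.Helper1

variable {G : Type*} [Group G]

/-- The derived series of a subgroup `C`, computed inside `G`. -/
def dser (C : Subgroup G) : ℕ → Subgroup G
  | 0 => C
  | (k + 1) => ⁅dser C k, dser C k⁆

theorem dser_zero (C : Subgroup G) : dser C 0 = C := rfl

theorem dser_succ (C : Subgroup G) (k : ℕ) : dser C (k + 1) = ⁅dser C k, dser C k⁆ := rfl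

theorem dser_normal (C : Subgroup G) [hC : C.Normal] (k : ℕ) : (dser C k).Normal := by
  induction k with
  | zero => exact hC
  | succ k ih => rw [dser_succ]; exact @Subgroup.commutator_normal _ _ _ _ ih ih

theorem dser_le (C : Subgroup G) (k : ℕ) : dser C k ≤ C := by
  induction k with
  | zero => exact le_rfl
  | succ k ih =>
    rw [dser_succ]
    refine le_trans ?_ ih
    rw [Subgroup.commutator_le]
    intro a ha b hb
    rw [commutatorElement_def]
    exact Subgroup.mul_mem _ (Subgroup.mul_mem _ (Subgroup.mul_mem _ ha hb)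
      (Subgroup.inv_mem _ ha)) (Subgroup.inv_mem _ hb)

theorem dser_le_derivedSeries (C : Subgroup G) (k : ℕ) : dser C k ≤ derivedSeries G k := by
  induction k with
  | zero => exact le_top
  | succ k ih => rw [dser_succ, derivedSeries_succ]; exact Subgroup.commutator_mono ih ih

/-- In a solvable group, a normal subgroup `C` not contained in `F` contains a normal subgroup
`M` of the whole group, not contained in `F`, whose derived subgroup lies in `F`. -/
theorem exists_normal_commutator_le [Group.IsSolvable G] (C F : Subgroup G) [C.Normal]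
    (h : ¬ C ≤ F) : ∃ M : Subgroup G, M.Normal ∧ M ≤ C ∧ ¬ M ≤ F ∧ ⁅M, M⁆ ≤ F := by
  obtain ⟨n, hn⟩ := (Group.isSolvable_def G).mp inferInstance
  have hbot : dser C n ≤ F := by
    have : dser C n = ⊥ := by rw [eq_bot_iff, ← hn]; exact dser_le_derivedSeries C n
    rw [this]; exact bot_le
  have hfind : ∀ k, dser C k ≤ F → ∃ j, ¬ dser C j ≤ F ∧ dser C (j + 1) ≤ F := by
    intro k
    induction k with
    | zero => intro h0; exact absurd h0 h
    | succ k ih =>
      intro hk
      rcases Classical.em (dser C k ≤ F) with hk' | hk'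
      · exact ih hk'
      · exact ⟨k, hk', hk⟩
  obtain ⟨j, hj1, hj2⟩ := hfind n hbot
  exact ⟨dser C j, dser_normal C j, dser_le C j, hj1, hj2⟩

/-- A subgroup `M` with `⁅⁅M, M⁆, M⁆ = ⊥` is nilpotent. -/
theorem isNilpotent_of_commutator_commutator_eq_bot (M : Subgroup G)
    (h : ⁅⁅M, M⁆, M⁆ = ⊥) : Group.IsNilpotent M := by
  rw [Subgroup.isNilpotent_iff_lowerCentralSeries]
  exact ⟨2, h⟩

end Cfsg.Agent.Helper1
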