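import Mathlib

set_option autoImplicit false

namespace Cfsg.Agent.Helper1.SpQh

open MulAction

/-- Conjugation-action counting: an `r`-group `R` normalising a subgroup `N` of order
divisible by `r` centralises an element of order `r` of `N`. -/
theorem exists_central_order {A : Type*} [Group A] [Finite A] (r : ℕ) [Fact r.Prime]
    (R N : Subgroup A) (hR : IsPGroup r R)
    (hnorm : ∀ u ∈ R, ∀ n ∈ N, u * n * u⁻¹ ∈ N) (hdvd : r ∣ Nat.card N) :
    ∃ y ∈ N, orderOf y = r ∧ ∀ u ∈ R, u * y = y * u := by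
  classical
  let act : MulAction ↥R ↥N :=
    { smul := fun u n => ⟨(u : A) * n * (u : A)⁻¹, hnorm u u.2 n n.2⟩
      one_smul := fun n => by
        apply Subtype.ext
        show ((1 : ↥R) : A) * n * ((1 : ↥R) : A)⁻¹ = n
        simp
      mul_smul := fun u v n => by
        apply Subtype.ext
        show ((u * v : ↥R) : A) * n * ((u * v : ↥R) : A)⁻¹
          = (u : A) * ((v : A) * n * (v : A)⁻¹) * (u : A)⁻¹
        simp [mul_assoc] }
  have hsmul : ∀ (u : ↥R) (n : ↥N), ((u • n : ↥N) : A) = (u : A) * n * (u : A)⁻¹ :=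
    fun u n => rfl
  have h1 := hR.card_modEq_card_fixedPoints (↥N)
  let CN : Subgroup A := N ⊓ Subgroup.centralizer (R : Set A)
  have hcard : Nat.card (fixedPoints ↥R ↥N) = Nat.card CN := by
    apply Nat.card_congr
    refine ⟨fun n => ⟨(n.1 : A), ?_⟩, fun c => ⟨⟨(c : A), c.2.1⟩, ?_⟩, ?_, ?_⟩
    · refine ⟨n.1.2, ?_⟩
      show (n.1 : A) ∈ Subgroup.centralizer (R : Set A)
      rw [Subgroup.mem_centralizer_iff]
      intro u hu
      have h3 := n.2 ⟨u, hu⟩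
      have h2 : (u : A) * (n.1 : A) * (u : A)⁻¹ = (n.1 : A) := by
        have h4 := congrArg Subtype.val h3
        rw [hsmul] at h4
        exact h4
      calc u * (n.1 : A) = u * (n.1 : A) * u⁻¹ * u := by group
        _ = (n.1 : A) * u := by rw [h2]
    · intro u
      apply Subtype.ext
      rw [hsmul]
      have hc : (c : A) ∈ Subgroup.centralizer (R : Set A) := c.2.2
      rw [Subgroup.mem_centralizer_iff] at hc
      have h5 := hc u u.2
      show (u : A) * (c : A) * (u : A)⁻¹ = (c : A)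
      rw [h5]; group
    · intro n; rfl
    · intro c; rfl
  have hdvd2 : r ∣ Nat.card CN := by
    rw [← hcard]
    exact (Nat.modEq_zero_iff_dvd.mp (h1.symm.trans (Nat.modEq_zero_iff_dvd.mpr hdvd)))
  obtain ⟨y, hy⟩ := exists_prime_orderOf_dvd_card' r hdvd2
  refine ⟨(y : A), y.2.1, ?_, ?_⟩
  · rw [Subgroup.orderOf_coe]; exact hy
  · intro u hu
    have hc : (y : A) ∈ Subgroup.centralizer (R : Set A) := y.2.2
    rw [Subgroup.mem_centralizer_iff] at hc
    exact hc u hu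

theorem smul_mk_iff {B : Type*} [Group B] (K : Subgroup B) (a g : B) :
    a • (g : B ⧸ K) = (g : B ⧸ K) ↔ g⁻¹ * a * g ∈ K := by
  have h1 : a • (g : B ⧸ K) = ((a * g : B) : B ⧸ K) := rfl
  rw [h1, QuotientGroup.eq]
  constructor
  · intro h
    have := K.inv_mem h
    simpa [mul_assoc] using this
  · intro h
    have := K.inv_mem h
    simpa [mul_assoc] using this

/-- Abstract Sylow core: if `r` divides the index of `H` in `S`, and for elements `x` of
order `r` a subgroup `G1 x` of the centraliser acts transitively on the cosets fixed by `x`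
and multiplying by its elements of order `r` decreases `δ`, then some element of order `r`
of `S` has no `S`-conjugate in `H`. -/
theorem core {A : Type*} [Group A] [Finite A] (r : ℕ) [Fact r.Prime] (S H : Subgroup A)
    (hr : r ∣ H.relIndex S) (δ : A → ℕ) (G1 : A → Subgroup A)
    (hG1S : ∀ x ∈ S, orderOf x = r → G1 x ≤ S)
    (hG1c : ∀ x ∈ S, orderOf x = r → ∀ y ∈ G1 x, y * x = x * y)
    (hG1n : ∀ x ∈ S, orderOf x = r → ∀ c ∈ S, c * x = x * c →
      ∀ y ∈ G1 x, c * y * c⁻¹ ∈ G1 x)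
    (htrans : ∀ x ∈ S, orderOf x = r → ∀ g₁ ∈ S, ∀ g₂ ∈ S, g₁⁻¹ * x * g₁ ∈ H →
      g₂⁻¹ * x * g₂ ∈ H → ∃ t ∈ G1 x, g₁⁻¹ * t * g₂ ∈ H)
    (hdec : ∀ x ∈ S, orderOf x = r → ∀ y ∈ G1 x, orderOf y = r →
      orderOf (x * y) = r ∧ δ (x * y) < δ x) :
    ∃ x ∈ S, orderOf x = r ∧ ∀ g ∈ S, g⁻¹ * x * g ∉ H := by
  classical
  by_contra hcon
  push Not at hcon
  obtain ⟨P⟩ : Nonempty (Sylow r ↥S) := inferInstance
  let R : Subgroup A := (P : Subgroup ↥S).map S.subtype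
  have hRS : R ≤ S := by
    rintro _ ⟨u, -, rfl⟩; exact u.2
  have hRp : IsPGroup r R := P.isPGroup'.map S.subtype
  have hrS : r ∣ Nat.card S := dvd_trans hr (Subgroup.index_dvd_card (H.subgroupOf S))
  let Z : Set A := {x | x ∈ S ∧ orderOf x = r ∧ ∀ u ∈ R, u * x = x * u}
  have hZne : Z.Nonempty := by
    obtain ⟨y, hyS, hyo, hyc⟩ := exists_central_order r R S hRp
      (fun u hu n hn => S.mul_mem (S.mul_mem (hRS hu) hn) (S.inv_mem (hRS hu))) hrS
    exact ⟨y, hyS, hyo, hyc⟩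
  obtain ⟨x, hxZ, hmin⟩ := Set.exists_min_image Z δ (Set.toFinite Z) hZne
  obtain ⟨hxS, hxo, hxc⟩ := hxZ
  -- Step 1: `r` does not divide `|G1 x|`
  have hG1 : ¬ r ∣ Nat.card (G1 x) := by
    intro hd
    obtain ⟨y, hyG, hyo, hyc⟩ := exists_central_order r R (G1 x) hRp
      (fun u hu n hn => hG1n x hxS hxo u (hRS hu) (hxc u hu) n hn) hd
    obtain ⟨h1, h2⟩ := hdec x hxS hxo y hyG hyo
    have hxy : x * y ∈ Z := by
      refine ⟨S.mul_mem hxS (hG1S x hxS hxo hyG), h1, ?_⟩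
      intro u hu
      rw [← mul_assoc, hxc u hu, mul_assoc, hyc u hu, ← mul_assoc]
    exact absurd (hmin _ hxy) (not_le.mpr h2)
  -- Step 2: the cosets fixed by `x`
  let x' : ↥S := ⟨x, hxS⟩
  let H' : Subgroup ↥S := H.subgroupOf S
  obtain ⟨g₀, hg₀S, hg₀⟩ := hcon x hxS hxo
  let Φ : Set (↥S ⧸ H') := {ω | x' • ω = ω}
  have hΦ : ∀ g : ↥S, ((g : ↥S ⧸ H') ∈ Φ) ↔ (g : A)⁻¹ * x * (g : A) ∈ H := by
    intro g
    show x' • (g : ↥S ⧸ H') = (g : ↥S ⧸ H') ↔ _
    rw [smul_mk_iff]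
    exact Subgroup.mem_subgroupOf
  let G1' : Subgroup ↥S := (G1 x).subgroupOf S
  let ω₀ : ↥S ⧸ H' := ((⟨g₀, hg₀S⟩ : ↥S) : ↥S ⧸ H')
  have hΦorb : Φ = MulAction.orbit ↥G1' ω₀ := by
    ext ω
    constructor
    · intro hω
      obtain ⟨g, rfl⟩ := QuotientGroup.mk_surjective ω
      have hg : (g : A)⁻¹ * x * (g : A) ∈ H := (hΦ g).mp hω
      obtain ⟨t, ht, htH⟩ := htrans x hxS hxo g₀ hg₀S g g.2 hg₀ hg
      have htS : t ∈ S := hG1S x hxS hxo ht
      have htG : (⟨t, htS⟩ : ↥S)⁻¹ ∈ G1' := by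
        show ((⟨t, htS⟩ : ↥S)⁻¹ : ↥S).1 ∈ G1 x
        exact (G1 x).inv_mem ht
      refine ⟨⟨(⟨t, htS⟩ : ↥S)⁻¹, htG⟩, ?_⟩
      show (((⟨t, htS⟩ : ↥S)⁻¹ * ⟨g₀, hg₀S⟩ : ↥S) : ↥S ⧸ H') = (g : ↥S ⧸ H')
      rw [QuotientGroup.eq]
      show ((((⟨t, htS⟩ : ↥S)⁻¹ * ⟨g₀, hg₀S⟩ : ↥S)⁻¹ * g : ↥S) : A) ∈ H
      have he : ((((⟨t, htS⟩ : ↥S)⁻¹ * ⟨g₀, hg₀S⟩ : ↥S)⁻¹ * g : ↥S) : A)
          = g₀⁻¹ * t * (g : A) := by
        simp [mul_assoc]
      rw [he]
      exact htH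
    · rintro ⟨t, rfl⟩
      show x' • ((t : ↥S) • ω₀) = (t : ↥S) • ω₀
      have hcomm : x' * (t : ↥S) = (t : ↥S) * x' := by
        apply Subtype.ext
        exact (hG1c x hxS hxo ((t : ↥S) : A) (Subgroup.mem_subgroupOf.mp t.2)).symm
      have h0 : x' • ω₀ = ω₀ := (hΦ ⟨g₀, hg₀S⟩).mpr hg₀
      rw [← mul_smul, hcomm, mul_smul, h0]
  have hcardΦ : Nat.card Φ ∣ Nat.card (G1 x) := by
    have e1 : Nat.card ↥G1' = Nat.card (G1 x) :=
      Nat.card_congr (Subgroup.subgroupOfEquivOfLe (hG1S x hxS hxo)).toEquiv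
    have e2 : Nat.card Φ = (MulAction.stabilizer ↥G1' ω₀).index := by
      rw [MulAction.index_stabilizer, hΦorb, Nat.card_coe_set_eq]
    rw [← e1, e2]
    exact Subgroup.index_dvd_card _
  -- the Sylow subgroup acts on the fixed cosets
  let actP : MulAction ↥(P : Subgroup ↥S) ↥Φ :=
    { smul := fun u ω => ⟨(u : ↥S) • ω.1, by
        have hu : ((u : ↥S) : A) ∈ R := ⟨(u : ↥S), u.2, rfl⟩
        have hcomm : x' * (u : ↥S) = (u : ↥S) * x' := by
          apply Subtype.ext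
          exact (hxc _ hu).symm
        show x' • ((u : ↥S) • ω.1) = (u : ↥S) • ω.1
        rw [← mul_smul, hcomm, mul_smul]
        congr 1
        exact ω.2⟩
      one_smul := fun ω => by
        apply Subtype.ext
        show ((1 : ↥(P : Subgroup ↥S)) : ↥S) • ω.1 = ω.1
        simp
      mul_smul := fun u v ω => by
        apply Subtype.ext
        show ((u * v : ↥(P : Subgroup ↥S)) : ↥S) • ω.1 = (u : ↥S) • ((v : ↥S) • ω.1)
        rw [Subgroup.coe_mul, mul_smul] }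
  have hmod := P.isPGroup'.card_modEq_card_fixedPoints (↥Φ)
  have hfix : (MulAction.fixedPoints ↥(P : Subgroup ↥S) ↥Φ).Nonempty := by
    rcases (MulAction.fixedPoints ↥(P : Subgroup ↥S) ↥Φ).eq_empty_or_nonempty with he | hne
    · exfalso
      rw [he] at hmod
      have h0 : Nat.card ↥(∅ : Set ↥Φ) = 0 := by simp
      rw [h0] at hmod
      exact hG1 (dvd_trans (Nat.modEq_zero_iff_dvd.mp hmod) hcardΦ)
    · exact hne
  obtain ⟨⟨ω1, hω1⟩, hω⟩ := hfix
  obtain ⟨g, rfl⟩ := QuotientGroup.mk_surjective ω1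
  have hPK : (P : Subgroup ↥S) ≤ H'.comap (MulAut.conj g⁻¹).toMonoidHom := by
    intro u hu
    rw [Subgroup.mem_comap]
    have h1 := MulAction.mem_fixedPoints.mp hω ⟨u, hu⟩
    have h2 : u • (g : ↥S ⧸ H') = (g : ↥S ⧸ H') := congrArg Subtype.val h1
    have h3 := (smul_mk_iff H' u g).mp h2
    simpa [MulAut.conj_apply] using h3
  have hidx : (H'.comap (MulAut.conj g⁻¹).toMonoidHom).index = H'.index :=
    Subgroup.index_comap_of_surjective H' (MulAut.conj g⁻¹).surjective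
  have h4 : H'.index ∣ (P : Subgroup ↥S).index := by
    rw [← hidx]; exact Subgroup.index_dvd_of_le hPK
  exact P.not_dvd_index (dvd_trans hr h4)

end Cfsg.Agent.Helper1.SpQh
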