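import Mathlib
import Cfsg.Agent.S0261
import Cfsg.Agent.Helper1.SL2Nil
import Cfsg.Agent.Helper16.QuatExt

/-!
Helper library (helper1): if a subgroup `H` of `SL₂(F)` (`F` finite of odd characteristic `p`)
contains a copy of `SL₂(ZMod p)`, its Sylow 2-subgroups are generalized quaternion.
-/

set_option autoImplicit false

namespace Cfsg.Agent.Helper1.SylowTwoSL2

open Cfsg.Agent.Helper12 Cfsg.Agent.Helper1.SL2Nil

theorem main {F : Type*} [Field F] [Fintype F] (p : ℕ) [Fact p.Prime] [CharP F p] (hp : p ≠ 2)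
    (H : Subgroup (Matrix.SpecialLinearGroup (Fin 2) F))
    (hD : ∃ K : Subgroup (Matrix.SpecialLinearGroup (Fin 2) F), K ≤ H ∧
      Nonempty (K ≃* Matrix.SpecialLinearGroup (Fin 2) (ZMod p)))
    (S : Sylow 2 H) :
    ∃ k : ℕ, 1 ≤ k ∧ Nonempty ((S : Subgroup H) ≃* QuaternionGroup (2 ^ k)) := by
  classical
  have h2 : (2 : F) ≠ 0 := by
    intro h
    have h1 : ((2 : ℕ) : F) = 0 := by exact_mod_cast h
    rw [CharP.cast_eq_zero_iff F p] at h1
    exact hp ((Nat.prime_dvd_prime_iff_eq (Fact.out : p.Prime) Nat.prime_two).mp h1)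
  obtain ⟨K, hKH, ⟨e⟩⟩ := hD
  have hodd : Odd (Fintype.card (ZMod p)) := by
    rw [ZMod.card]
    exact (Fact.out : p.Prime).odd_of_ne_two hp
  obtain ⟨P0⟩ : Nonempty (Sylow 2 (Matrix.SpecialLinearGroup (Fin 2) (ZMod p))) := inferInstance
  obtain ⟨k0, hk0, ⟨e0⟩⟩ := Cfsg.Agent.S0261.result hodd P0
  haveI : NeZero (2 ^ k0) := ⟨by positivity⟩
  have hpk : 2 ≤ 2 ^ k0 := by
    calc 2 = 2 ^ 1 := by norm_num
      _ ≤ 2 ^ k0 := Nat.pow_le_pow_right (by norm_num) hk0
  have hnc0 : e0.symm (QuaternionGroup.a 1) * e0.symm (QuaternionGroup.xa 0) ≠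
      e0.symm (QuaternionGroup.xa 0) * e0.symm (QuaternionGroup.a 1) := by
    intro h
    rw [← map_mul, ← map_mul] at h
    have h1 := e0.symm.injective h
    rw [QuaternionGroup.a_mul_xa, QuaternionGroup.xa_mul_a] at h1
    have h3 : (0 - 1 : ZMod (2 * 2 ^ k0)) = 0 + 1 := by
      injection h1
    have h4 : ((2 : ℕ) : ZMod (2 * 2 ^ k0)) = 0 := by
      push_cast
      linear_combination -h3
    rw [ZMod.natCast_eq_zero_iff] at h4
    have := Nat.le_of_dvd (by norm_num) h4
    omega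
  let j : Matrix.SpecialLinearGroup (Fin 2) (ZMod p) →* H :=
    (Subgroup.inclusion hKH).comp e.symm.toMonoidHom
  have hj : Function.Injective j :=
    (Subgroup.inclusion_injective hKH).comp e.symm.injective
  have hQ0 : IsPGroup 2 ((P0 : Subgroup (Matrix.SpecialLinearGroup (Fin 2) (ZMod p))).map j) :=
    P0.isPGroup'.map j
  obtain ⟨S', hS'⟩ := hQ0.exists_le_sylow
  have hncS' : ¬ IsMulCommutative (S' : Subgroup H) := by
    intro hc
    apply hnc0
    have hu : j (e0.symm (QuaternionGroup.a 1) : P0) ∈ (S' : Subgroup H) :=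
      hS' (Subgroup.mem_map_of_mem j (e0.symm (QuaternionGroup.a 1) : P0).2)
    have hv : j (e0.symm (QuaternionGroup.xa 0) : P0) ∈ (S' : Subgroup H) :=
      hS' (Subgroup.mem_map_of_mem j (e0.symm (QuaternionGroup.xa 0) : P0).2)
    have h1 := hc.is_comm.comm (⟨_, hu⟩ : (S' : Subgroup H)) ⟨_, hv⟩
    have h3 : j (e0.symm (QuaternionGroup.a 1) : P0) * j (e0.symm (QuaternionGroup.xa 0) : P0) =
        j (e0.symm (QuaternionGroup.xa 0) : P0) * j (e0.symm (QuaternionGroup.a 1) : P0) :=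
      congrArg Subtype.val h1
    rw [← map_mul, ← map_mul] at h3
    exact Subtype.ext (hj h3)
  have eS : (S : Subgroup H) ≃* (S' : Subgroup H) := Sylow.equiv S S'
  have hncS : ¬ IsMulCommutative (S : Subgroup H) := by
    intro hc
    apply hncS'
    refine ⟨⟨fun a b => ?_⟩⟩
    have h1 := hc.is_comm.comm (eS.symm a) (eS.symm b)
    rw [← map_mul, ← map_mul] at h1
    exact eS.symm.injective h1
  have hinv : ∀ y : (S : Subgroup H), orderOf y = 2 →
      ((y : H) : Matrix.SpecialLinearGroup (Fin 2) F) = sl2NegOne := by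
    intro y hy
    have h1 : y ^ 2 = 1 := by
      have h0 := pow_orderOf_eq_one y
      rwa [hy] at h0
    have h3 : ((y : H) : Matrix.SpecialLinearGroup (Fin 2) F) *
        ((y : H) : Matrix.SpecialLinearGroup (Fin 2) F) = 1 := by
      have h4 := congrArg (fun w : (S : Subgroup H) => ((w : H) : Matrix.SpecialLinearGroup (Fin 2) F)) h1
      simpa [pow_two] using h4
    rcases eq_one_or_negOne_of_sq h2 _ h3 with h | h
    · exfalso
      have : y = 1 := Subtype.ext (Subtype.ext h)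
      rw [this, orderOf_one] at hy
      omega
    · exact h
  have hdvd : 2 ∣ Nat.card (S : Subgroup H) := by
    obtain ⟨n, hn⟩ := IsPGroup.iff_card.mp S.isPGroup'
    rw [hn]
    cases n with
    | zero =>
      exfalso
      apply hncS
      rw [pow_zero] at hn
      haveI : Subsingleton (S : Subgroup H) := (Nat.card_eq_one_iff_unique.mp hn).1
      exact ⟨⟨fun a b => Subsingleton.elim _ _⟩⟩
    | succ m => exact ⟨2 ^ m, by rw [pow_succ]; ring⟩
  obtain ⟨x, hx⟩ := exists_prime_orderOf_dvd_card' 2 hdvd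
  have huniq : ∃! x : (S : Subgroup H), orderOf x = 2 :=
    ⟨x, hx, fun y hy => Subtype.ext (Subtype.ext ((hinv y hy).trans (hinv x hx).symm))⟩
  exact Cfsg.Agent.Helper16.QuatExt.exists_quat S.isPGroup' hncS huniq

end Cfsg.Agent.Helper1.SylowTwoSL2
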